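import Cfsg.Agent.SB.R1.Zass
import Cfsg.Agent.Lib.NilpotentCoprime

/-!
# S5765: rank one groups, stabilizers of a point, of a pair of points, normalizers of tori (helper61)
-/

set_option autoImplicit false
set_option linter.unusedSectionVars false

namespace Cfsg.Agent.SB.R1

open Subgroup MulAction Cfsg Cfsg.Agent.H786.FC
open scoped Pointwise

section general

variable {A : Type*} [Group A] {T S : Subgroup A}

/-- the conjugate `x S x⁻¹` -/
def cjS (S : Subgroup A) (x : A) : Subgroup A := S.comap (MulAut.conj x⁻¹).toMonoidHom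

theorem mem_cjS {x s : A} : s ∈ cjS S x ↔ x⁻¹ * s * x ∈ S := by
  rw [cjS, mem_comap]
  simp

theorem exists_conj_not_mem (hT : AS T) (hS : ¬ T ≤ S) {e : A} (he : e ≠ 1) : ∃ x ∈ T, x⁻¹ * e * x ∉ S := by
  by_contra hcon
  push Not at hcon
  rcases hT.eq_bot_or_le (X := ⨅ x : T, cjS S x) (fun t ht y hy => by
    rw [mem_iInf] at hy ⊢
    intro x
    have h1 := mem_cjS.1 (hy ⟨t⁻¹ * x, mul_mem (inv_mem ht) x.2⟩)
    rw [mem_cjS]
    have e : (x : A)⁻¹ * (t * y * t⁻¹) * x = (t⁻¹ * x)⁻¹ * y * (t⁻¹ * x) := by group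
    rwa [e]) with h1 | h1
  · apply he
    rw [← mem_bot, ← h1, mem_iInf]
    exact fun x => mem_cjS.2 (hcon x x.2)
  · refine hS fun t ht => ?_
    have h2 := mem_cjS.1 (mem_iInf.1 (h1 ht) 1)
    simpa using h2

variable [Finite A]

theorem exists_half (hT : AS T) (hS : ¬ T ≤ S) (D : Subgroup A) :
    ∃ z ∈ T, D ⊓ cjS S z = ⊥ ∨ 2 * Nat.card ↥(D ⊓ cjS S z) ≤ Nat.card D := by
  by_cases h0 : D = ⊥
  · exact ⟨1, one_mem _, Or.inl (by rw [h0, bot_inf_eq])⟩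
  obtain ⟨⟨e, he⟩, he1⟩ := ne_bot_iff_exists_ne_one.1 h0
  obtain ⟨z, hz, h1⟩ := exists_conj_not_mem hT hS (e := e) fun h => he1 (Subtype.ext h)
  refine ⟨z, hz, Or.inr ?_⟩
  obtain ⟨c, hc⟩ := card_dvd_of_le (inf_le_left : D ⊓ cjS S z ≤ D)
  have h2 : c ≠ 1 := by
    rintro rfl
    have h3 : D ⊓ cjS S z = D := eq_of_le_of_card_ge inf_le_left (by omega)
    exact h1 (mem_cjS.1 (h3.ge he).2)
  have h3 : c ≠ 0 := by
    rintro rfl
    have : 0 < Nat.card D := Nat.card_pos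
    omega
  rw [hc, mul_comm]
  exact Nat.mul_le_mul_left _ (by omega)

theorem exists_bot (hT : AS T) (hS : ¬ T ≤ S) {D : Subgroup A} (h : Nat.card D ≤ 3) : ∃ z ∈ T, D ⊓ cjS S z = ⊥ := by
  obtain ⟨z, hz, h1 | h1⟩ := exists_half hT hS D
  · exact ⟨z, hz, h1⟩
  · exact ⟨z, hz, card_le_one_iff_eq_bot _ |>.1 (by omega)⟩

theorem four_of_card_le_three (hT : AS T) (hS : ¬ T ≤ S) {x y : A} (hx : x ∈ T) (hy : y ∈ T)
    (h : Nat.card ↥(S ⊓ cjS S x ⊓ cjS S y) ≤ 3) : Four T S := by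
  obtain ⟨z, hz, h1⟩ := exists_bot hT hS h
  refine ⟨x, hx, y, hy, z, hz, fun s hs a1 a2 a3 => ?_⟩
  rw [← mem_bot, ← h1]
  exact ⟨⟨⟨hs, mem_cjS.2 a1⟩, mem_cjS.2 a2⟩, mem_cjS.2 a3⟩

theorem four_of_card_le_seven (hT : AS T) (hS : ¬ T ≤ S) {x : A} (hx : x ∈ T)
    (h : Nat.card ↥(S ⊓ cjS S x) ≤ 7) : Four T S := by
  obtain ⟨y, hy, h1 | h1⟩ := exists_half hT hS (S ⊓ cjS S x)
  · exact four_of_card_le_three hT hS hx hy (by rw [h1, card_bot]; omega)
  · exact four_of_card_le_three hT hS hx hy (by omega)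

omit [Finite A] in
theorem four_of_four {x : Fin 4 → A} (hx : ∀ i, x i ∈ T) (h : ∀ s : A, (∀ i, (x i)⁻¹ * s * x i ∈ S) → s = 1) :
    Four T S := by
  refine ⟨(x 0)⁻¹ * x 1, mul_mem (inv_mem (hx 0)) (hx 1), (x 0)⁻¹ * x 2, mul_mem (inv_mem (hx 0)) (hx 2),
    (x 0)⁻¹ * x 3, mul_mem (inv_mem (hx 0)) (hx 3), fun s hs a1 a2 a3 => ?_⟩
  have e : ∀ y : A, ((x 0)⁻¹ * y)⁻¹ * s * ((x 0)⁻¹ * y) = y⁻¹ * (x 0 * s * (x 0)⁻¹) * y := fun y => by group
  rw [e] at a1 a2 a3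
  refine conj_eq_one_iff.1 (h (x 0 * s * (x 0)⁻¹) fun i => ?_)
  fin_cases i
  · have e' : (x 0)⁻¹ * (x 0 * s * (x 0)⁻¹) * x 0 = s := by group
    exact e'.symm ▸ hs
  exacts [a1, a2, a3]

theorem fit_normal {s v : A} (hs : s ∈ S) (hv : v ∈ fit S) : s * v * s⁻¹ ∈ fit S := by
  obtain ⟨w, hw, rfl⟩ := hv
  exact ⟨_, Lib.Cores.fittingSubgroup_normal.conj_mem w hw ⟨s, hs⟩, rfl⟩

theorem fit_commute {a b : A} (ha : a ∈ fit S) (hb : b ∈ fit S) (h : (orderOf a).Coprime (orderOf b)) :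
    a * b = b * a := by
  obtain ⟨a, ha', rfl⟩ := ha
  obtain ⟨b, hb', rfl⟩ := hb
  have := Lib.Cores.fittingSubgroup_isNilpotent (G := S)
  have h1 := Lib.NilpotentCoprime.commute_of_coprime_orderOf (a := (⟨a, ha'⟩ : fittingSubgroup S)) (b := ⟨b, hb'⟩)
    (by
      rw [← orderOf_coe, ← orderOf_coe (⟨b, hb'⟩ : fittingSubgroup S)]
      change (orderOf a).Coprime (orderOf b)
      rwa [← orderOf_coe a, ← orderOf_coe b])
  exact congrArg (fun z : fittingSubgroup S => ((z : S) : A)) h1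

theorem le_fit {p : ℕ} [Fact p.Prime] {X : Subgroup A} (hXS : X ≤ S) (hp : IsPGroup p X)
    (hX : ∀ s ∈ S, ∀ x ∈ X, s * x * s⁻¹ ∈ X) : X ≤ fit S := by
  intro x hx
  have hn : (X.subgroupOf S).Normal := ⟨fun x hx s => mem_subgroupOf.2 (hX s s.2 x (mem_subgroupOf.1 hx))⟩
  have hnil : Group.IsNilpotent (X.subgroupOf S) := (hp.comap_subtype (K := S)).isNilpotent
  exact ⟨⟨x, hXS hx⟩, Lib.Cores.le_fittingSubgroup hn hnil (mem_subgroupOf.2 hx), rfl⟩

end general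

variable {p : ℕ} {K : Type*} [Group K] {Q h N : ℕ}

namespace TI

variable (H : TI p K Q h N)
include H

variable [Fact p.Prime] [Finite K] [IsSimpleGroup K]

theorem ne_bot (P : Sylow p K) : (P : Subgroup K) ≠ ⊥ := by
  obtain ⟨u, hu, hu1⟩ := H.exists_ne_one P
  exact fun h => hu1 (mem_bot.1 (h ▸ hu))

theorem ne_top (P : Sylow p K) : (P : Subgroup K) ≠ ⊤ := by
  obtain ⟨P', hP'⟩ := H.exists_ne P
  obtain ⟨u, hu, hu1⟩ := H.exists_ne_one P'
  exact fun h => hP' (H.eq_of_mem hu (show u ∈ (P : Subgroup K) from h ▸ mem_top u) hu1)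

/-- an automorphism of order `p` fixing two Sylow subgroups centralizes a non-trivial element of them -/
theorem one_lt_fix {c : MulAut K} (hc : orderOf c = p) {P₀ P₁ : Sylow p K} (hne : P₁ ≠ P₀) (h0 : c • P₀ = P₀)
    (h1 : c • P₁ = P₁) : 1 < Nat.card ↥(fixS c ⊓ P₀) := by
  classical
  have hp : p.Prime := Fact.out
  have := H.finite_sylow
  by_contra hcon
  have h2 : Nat.card {P : Sylow p K // P ≠ P₀ ∧ c • P = P} ≤ 1 := by
    rw [H.card_fixed hne h0 h1]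
    omega
  have h3 := Finite.card_le_one_iff_subsingleton.1 h2
  have hpg : IsPGroup p (zpowers c) := IsPGroup.of_card (n := 1) (by rw [Nat.card_zpowers, hc, pow_one])
  have h4 := hpg.card_modEq_card_fixedPoints (Sylow p K)
  have h5 : fixedPoints (zpowers c) (Sylow p K) = {P₀, P₁} := by
    ext P
    constructor
    · intro hP
      by_cases h6 : P = P₀
      · exact Or.inl h6
      · exact Or.inr (congrArg Subtype.val (h3.elim ⟨P, h6, hP ⟨c, mem_zpowers c⟩⟩ ⟨P₁, hne, h1⟩))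
    · rintro (rfl | rfl) ⟨_, n, rfl⟩
      · exact (stabilizer (MulAut K) P).zpow_mem h0 n
      · exact (stabilizer (MulAut K) P).zpow_mem h1 n
  rw [h5, H.count, Nat.card_coe_set_eq, Set.ncard_pair hne.symm] at h4
  have h6 : p ∣ Q := by
    rw [H.pow]
    refine dvd_pow_self p ?_
    rintro rfl
    have h7 := H.pow
    have h8 := H.one_lt
    rw [pow_zero] at h7
    omega
  have h7 : p ∣ 1 + Q - 2 := (Nat.modEq_iff_dvd' (by have := H.one_lt; omega)).1 h4.symm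
  have h8 : p ∣ Q - (1 + Q - 2) := Nat.dvd_sub h6 h7
  have h9 : Q - (1 + Q - 2) = 1 := by have := H.one_lt; omega
  rw [h9] at h8
  exact hp.one_lt.ne' (Nat.dvd_one.1 h8)

/-- the elements of `F(S)` fixing a second Sylow subgroup centralize the two point stabilizer -/
theorem fit_two (hK : ¬ IsMulCommutative K) {S : Subgroup (MulAut K)} (hm : MaxInv (InnG K) S) {P₀ P₁ : Sylow p K}
    (hne : P₁ ≠ P₀) (hS : ∀ s ∈ S, s • P₀ = P₀) {c : MulAut K} (hc : c ∈ fit S) (h1 : c • P₁ = P₁) :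
    ((orderOf c).Prime → orderOf c = p) ∧ ∀ t : K, t • P₀ = P₀ → t • P₁ = P₁ → c t = t := by
  have hp : p.Prime := Fact.out
  have hinv : ∀ s ∈ S, ∀ y ∈ (P₀ : Subgroup K), s y ∈ (P₀ : Subgroup K) := fun s hs y hy => by
    have := apply_mem_smul s (P := P₀) hy
    rwa [hS s hs] at this
  have hN := norm_le_innS hK hm (H.ne_bot P₀) (H.ne_top P₀) hinv
  have hP : (P₀ : Subgroup K).map MulAut.conj ≤ fit S := by
    refine le_fit (p := p) ?_ (P₀.isPGroup'.map _) ?_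
    · rintro _ ⟨u, hu, rfl⟩
      exact hN (le_normalizer hu)
    · rintro s hs _ ⟨u, hu, rfl⟩
      exact ⟨s u, hinv s hs u hu, (conj_conj s u).symm⟩
  have key : ∀ c ∈ fit S, c • P₁ = P₁ → (orderOf c).Prime → orderOf c = p := by
    intro c hc h1 hcp
    by_contra hne'
    refine ne_one_of_prime' hcp (H.eq_one_of_cent hne h1 fun u hu => ?_)
    apply conj_injective hK
    rw [← conj_conj, mul_inv_eq_iff_eq_mul]
    refine fit_commute hc (hP ⟨u, hu, rfl⟩) ?_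
    obtain ⟨k, hk⟩ := IsPGroup.iff_orderOf.1 P₀.isPGroup' ⟨u, hu⟩
    rw [orderOf_injective _ (conj_injective hK), show orderOf u = p ^ k by rw [← hk, orderOf_mk]]
    exact Nat.Coprime.pow_right _ ((Nat.coprime_primes hcp hp).2 hne')
  refine ⟨key c hc h1, fun t h0 ht => ?_⟩
  have htS : MulAut.conj t ∈ S := hN (Sylow.smul_eq_iff_mem_normalizer.1 h0)
  have h2 : MulAut.conj (c t * t⁻¹) ∈ fit S := by
    rw [map_mul, ← conj_conj, map_inv]
    have h3 := mul_mem hc (fit_normal htS (inv_mem hc))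
    simpa only [mul_assoc] using h3
  have h3 : ∀ P : Sylow p K, c • P = P → t • P = P → (c t * t⁻¹) • P = P := fun P a1 a2 => by
    have h4 := smul_smul_sylow c t P
    rw [a1, a2, a1] at h4
    rw [mul_smul, inv_smul_eq_iff.2 a2.symm, ← h4]
  by_contra h4
  obtain ⟨n, hn⟩ := exists_prime_pow (t := c t * t⁻¹) fun h5 => h4 (mul_inv_eq_one.1 h5)
  have a0 := (stabilizer K P₀).pow_mem (h3 P₀ (hS c (map_subtype_le _ hc)) h0) n
  have a1 := (stabilizer K P₁).pow_mem (h3 P₁ h1 ht) n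
  have ho := orderOf_injective _ (conj_injective hK) ((c t * t⁻¹) ^ n)
  refine H.order_ne_of_two hne a0 a1 ?_
  rw [← ho]
  exact key _ (by rw [map_pow]; exact pow_mem h2 n) a1 (ho ▸ hn)

theorem exists_conj_fix {S : Subgroup (MulAut K)} {P₀ : Sylow p K} (hS : ∀ s ∈ S, s • P₀ = P₀) (P : Sylow p K) :
    ∃ x ∈ InnG K, ∀ s : MulAut K, x⁻¹ * s * x ∈ S → s • P = P := by
  obtain ⟨x, rfl⟩ := exists_smul_eq K P₀ P
  refine ⟨MulAut.conj x, ⟨x, rfl⟩, fun s hs => ?_⟩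
  have h1 := hS _ hs
  rw [mul_smul, mul_smul, inv_smul_eq_iff] at h1
  exact h1

/-- **The Borel subgroup of a Zassenhaus group.** -/
theorem good_borel (hf : Fpf p K) (hK : ¬ IsMulCommutative K) {S : Subgroup (MulAut K)} (hm : MaxInv (InnG K) S)
    {P₀ : Sylow p K} (hS : ∀ s ∈ S, s • P₀ = P₀) (hh : ∀ k < N, p ^ k ≤ h) : Good (InnG K) S := by
  left
  obtain ⟨P₁, hne⟩ := H.exists_ne P₀
  obtain ⟨x, hx, h1⟩ := H.exists_conj_fix hS P₁
  refine fitReg_iff.2 ⟨x, hx, fun v hv hvx => ?_⟩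
  by_contra hv1
  obtain ⟨n, hn⟩ := exists_prime_pow hv1
  have hc : v ^ n ∈ fit S := pow_mem hv n
  have c0 : v ^ n • P₀ = P₀ := hS _ (map_subtype_le _ hc)
  have c1 : v ^ n • P₁ = P₁ := (stabilizer (MulAut K) P₁).pow_mem (h1 v hvx) n
  obtain ⟨a1, a2⟩ := H.fit_two hK hm hne hS hc c1
  have a3 := H.card_fix_two_lt hf hne (H.one_lt_fix (a1 hn) hne c0 c1)
  obtain ⟨k, hk, a4, -⟩ := H.two_fix (ne_one_of_prime' hn) hne c0 c1
  rw [inf_eq_right.2 (fun t ht => a2 t ht.1 ht.2), H.card_two hne, a4] at a3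
  have := hh k hk
  omega

/-- a base for the two point stabilizer -/
theorem exists_base (hK : ¬ IsMulCommutative K) {P₀ P₁ : Sylow p K} (hne : P₁ ≠ P₀) {a f m : ℕ}
    (ha : ∀ k, k < N → (k = 0 ∨ 1 + p ^ k ∣ (Q + 1) * h) → p ^ k ≤ a)
    (hf : Nat.card (Out K) ≤ f) (hlt : f * h * a ^ m < Q ^ m) :
    ∃ z : Fin m → {P : Sylow p K // P ≠ P₀}, ∀ d : MulAut K, d • P₀ = P₀ → d • P₁ = P₁ →
      (∀ i, d • (z i).1 = (z i).1) → d = 1 := by
  classical
  have hfin := H.finite_sylow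
  let D : Subgroup (MulAut K) := stabilizer (MulAut K) P₀ ⊓ stabilizer (MulAut K) P₁
  have hD : Nat.card D ≤ f * h := by
    refine (card_le_out hK D).trans ?_
    rw [mul_comm]
    refine Nat.mul_le_mul hf ?_
    rw [← H.card_two hne]
    exact card_le_of_le fun x hx => hx
  by_contra hcon
  push Not at hcon
  have h1 := card_le_of_cover (fun (d : D) (z : Fin m → {P : Sylow p K // P ≠ P₀}) =>
    (∀ i, (d : MulAut K) • (z i).1 = (z i).1) ∧ (d : MulAut K) ≠ 1)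
    (fun z => by
      obtain ⟨d, a0, a1, a2, a3⟩ := hcon z
      exact ⟨⟨d, a0, a1⟩, a2, a3⟩) (c := a ^ m) (by
      intro d
      by_cases hd : (d : MulAut K) = 1
      · rw [Nat.card_eq_zero.2 (Or.inl ⟨fun z => z.2.2 hd⟩)]
        exact Nat.zero_le _
      obtain ⟨k, hkN, hk, h2⟩ := H.two_fix hd hne d.2.1 d.2.2
      have h3 : Nat.card {P : Sylow p K // P ≠ P₀ ∧ (d : MulAut K) • P = P} ≤ a := by
        rw [H.card_fixed hne d.2.1 d.2.2, hk]
        exact ha k hkN (h2.imp id fun h4 => h4.1)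
      refine le_trans (Nat.card_le_card_of_injective (fun z i =>
        (⟨(z.1 i).1, (z.1 i).2, z.2.1 i⟩ : {P : Sylow p K // P ≠ P₀ ∧ (d : MulAut K) • P = P})) ?_) ?_
      · intro z z' hz
        exact Subtype.ext (funext fun i => Subtype.ext (congrArg (fun w => (w i).1) hz))
      · rw [Nat.card_fun, Nat.card_eq_fintype_card (α := Fin m), Fintype.card_fin]
        exact Nat.pow_le_pow_left h3 m)
  rw [Nat.card_fun, H.card_ne, Nat.card_eq_fintype_card (α := Fin m), Fintype.card_fin] at h1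
  have h2 := Nat.mul_le_mul_right (a ^ m) hD
  omega

/-- **The stabilizer of a pair of Sylow subgroups.** -/
theorem four_of_pair (hK : ¬ IsMulCommutative K) {S : Subgroup (MulAut K)} {P₀ P₁ : Sylow p K} (hne : P₁ ≠ P₀)
    (hS : ∀ s ∈ S, ∀ P : Sylow p K, (P = P₀ ∨ P = P₁) → (s • P = P₀ ∨ s • P = P₁)) {a f : ℕ}
    (ha : ∀ k, k < N → (k = 0 ∨ 1 + p ^ k ∣ (Q + 1) * h) → p ^ k ≤ a)
    (hf : Nat.card (Out K) ≤ f) (hlt : f * h * a ^ 3 < Q ^ 3) (h1 : 1 < h) : Four (InnG K) S := by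
  obtain ⟨z, hz⟩ := H.exists_base hK hne ha hf hlt
  have key : ∀ P : {P : Sylow p K // P ≠ P₀}, ∃ x ∈ InnG K, ∀ s : MulAut K, x⁻¹ * s * x ∈ S →
      (s • P₀ = P₀ ∨ s • P₀ = P.1) ∧ (s • P.1 = P₀ ∨ s • P.1 = P.1) := by
    intro P
    obtain ⟨u, hu, huP⟩ := H.trans hne P.2
    have hu0 : u • P₀ = P₀ := smul_self_of_mem hu
    refine ⟨MulAut.conj u, ⟨u, rfl⟩, fun s hs => ?_⟩
    have h2 : ∀ P' : Sylow p K, (P' = P₀ ∨ P' = P₁) → (s • u • P' = P₀ ∨ s • u • P' = P.1) := by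
      intro P' hP'
      have h3 := hS _ hs P' hP'
      rw [mul_smul, mul_smul, inv_smul_eq_iff, inv_smul_eq_iff] at h3
      change s • u • P' = u • P₀ ∨ s • u • P' = u • P₁ at h3
      rwa [hu0, huP] at h3
    have h3 := h2 P₀ (Or.inl rfl)
    have h4 := h2 P₁ (Or.inr rfl)
    rw [hu0] at h3
    rw [huP] at h4
    exact ⟨h3, h4⟩
  choose x hx hxs using key
  have hi : ∃ i, (z i).1 ≠ P₁ := by
    by_contra hcon
    push Not at hcon
    have h2 : 1 < Nat.card ↥(stabilizer K P₀ ⊓ stabilizer K P₁) := by rwa [H.card_two hne]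
    have := Finite.one_lt_card_iff_nontrivial.1 h2
    obtain ⟨t, ht⟩ := _root_.exists_ne (1 : ↥(stabilizer K P₀ ⊓ stabilizer K P₁))
    refine ht (Subtype.ext (conj_injective hK ?_))
    rw [OneMemClass.coe_one, map_one]
    exact hz _ t.2.1 t.2.2 fun i => by rw [hcon i]; exact t.2.2
  obtain ⟨i, hi⟩ := hi
  refine ⟨x (z 0), hx _, x (z 1), hx _, x (z 2), hx _, fun s hs a0 a1 a2 => ?_⟩
  have a : ∀ j, (x (z j))⁻¹ * s * x (z j) ∈ S := fun j => by
    fin_cases j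
    exacts [a0, a1, a2]
  have h0 : s • P₀ = P₀ := by
    rcases hS s hs P₀ (Or.inl rfl) with h2 | h2
    · exact h2
    · exact (hxs _ s (a i)).1.resolve_right fun h3 => hi (h3.symm.trans h2)
  have h2 : ∀ P : Sylow p K, P ≠ P₀ → s • P ≠ P₀ := fun P hP h3 => hP (smul_left_cancel s (h3.trans h0.symm))
  exact hz s h0 ((hS s hs P₁ (Or.inr rfl)).resolve_left (h2 _ hne))
    fun j => (hxs _ s (a j)).2.resolve_left (h2 _ (z j).2)

end TI

end Cfsg.Agent.SB.R1
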