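import Cfsg.Agent.SB.R1.U3M
import Cfsg.Agent.SB.Tor.U3d
import Cfsg.Agent.SB.C2.Main

/-!
# S5765: the box of the groups of rank one (helper61)
-/

set_option autoImplicit false

namespace Cfsg.Agent.SB.R1

theorem noFr3 : NoFr3 := by
  intro K V _ _ _ _ _ h F S hU hV hK hx hD
  rcases C2.nofrU hU hV.ge (fun _ => hK) hx hD with ⟨Z, h1, h2, h3, h4, -⟩ | ⟨-, h1⟩
  · exact Or.inl ⟨Z, h1, h2, h3, h4⟩
  · exact Or.inr h1

theorem ext3 : Ext3 := fun _ _ _ _ _ _ _ h F S Y => Tor.rowU3d h F S Y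

theorem box_one : Box fun K _ => RankOne K := box_one_of noFr3 ext3

end Cfsg.Agent.SB.R1
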