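import Cfsg.Agent.SB.R1.Zass
import Cfsg.Agent.H452.FprSz
import Cfsg.Agent.S2126

/-!
# S5765: the Suzuki groups (helper61)
-/

set_option autoImplicit false

namespace Cfsg.Agent.SB.R1

open Subgroup MulAction Cfsg Cfsg.Agent.H786.FC

theorem card_out_congr {K K' : Type*} [Group K] [Group K'] (e : K ≃* K') : Nat.card (Out K) = Nat.card (Out K') := by
  change (InnG K).index = (InnG K').index
  rw [← congr_innG e]
  exact (index_map_equiv _ (MulAut.congr e)).symm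

/-- a non-trivial subgroup all of whose Sylow subgroups are cyclic normalizes a subgroup of prime order -/
theorem exists_cyc_normal {K : Type*} [Group K] [Finite K] {C : Subgroup K} (h0 : C ≠ ⊥)
    (hc : ∀ r : ℕ, r.Prime → r ∣ Nat.card C → ∀ P : Sylow r K, IsCyclic P) :
    ∃ y ∈ C, (orderOf y).Prime ∧ C ≤ normalizer ((zpowers y : Subgroup K) : Set K) := by
  have hZ : IsZGroup C := ⟨fun r hr P => by
    have _ : Fact r.Prime := ⟨hr⟩
    by_cases hd : r ∣ Nat.card C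
    · obtain ⟨P', hP'⟩ := (P.isPGroup'.map C.subtype).exists_le_sylow
      have := hc r hr hd P'
      have h1 : IsCyclic ((P : Subgroup C).map C.subtype) := isCyclic_of_injective (inclusion hP') (inclusion_injective hP')
      exact isCyclic_of_surjective ((P : Subgroup C).equivMapOfInjective _ C.subtype_injective).symm
        (MulEquiv.surjective _)
    · obtain ⟨n, hn⟩ := P.isPGroup'.exists_card_eq
      have h1 : n = 0 := by
        by_contra h2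
        exact hd ((dvd_pow_self r h2).trans (hn ▸ card_subgroup_dvd_card _))
      rw [h1, pow_zero] at hn
      have := (Nat.card_eq_one_iff_unique.1 hn).1
      exact isCyclic_of_subsingleton⟩
  obtain ⟨X, h1, h2, h3, -, -, ⟨r, hr, h4⟩, -, -⟩ := exists_min (S := C) inferInstance h0 le_rfl
    fun s hs y hy => mul_mem (mul_mem hs hy) (inv_mem hs)
  obtain ⟨⟨y, hy⟩, hy1⟩ := ne_bot_iff_exists_ne_one.1 h2
  have hy1' : y ≠ 1 := fun h => hy1 (Subtype.ext h)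
  have _ : Fact r.Prime := ⟨hr⟩
  have ho : orderOf y = r := orderOf_eq_prime (h4 y hy) hy1'
  obtain ⟨-, h5⟩ := eq_zpowers_of_cyclic hr (hc r hr (ho ▸ orderOf_dvd_natCard C (h1 hy))) h4 hy hy1'
  exact ⟨y, h1 hy, ho ▸ hr, h5 ▸ le_normalizer_of_conj h3⟩

theorem cube_bound (a : ℕ) : (1 + a) * (a * (a - 1)) ≤ a ^ 3 := by
  rcases a with _ | a
  · simp
  · rw [Nat.add_sub_cancel]
    nlinarith

theorem sz_arith {n k : ℕ} (hn : 3 ≤ n) (h0 : 1 ≤ k) (hk : k < 2 * n)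
    (h1 : 1 + 2 ^ k ∣ ((2 ^ n) ^ 2 + 1) * (2 ^ n - 1)) : (2 ^ k) ^ 3 ≤ (2 ^ n) ^ 2 := by
  rw [← pow_mul, ← pow_mul]
  refine Nat.pow_le_pow_right (by norm_num) ?_
  have h2 : ((2 ^ n) ^ 2 + 1) * (2 ^ n - 1) ∣ 2 ^ (2 * (2 * n)) - 1 := by
    have e1 : 2 ^ (2 * (2 * n)) = ((2 ^ n) ^ 2) ^ 2 := by
      rw [← pow_mul, ← pow_mul]
      congr 1
      ring
    have e2 : ((2 ^ n) ^ 2) ^ 2 - 1 = ((2 ^ n) ^ 2 + 1) * ((2 ^ n) ^ 2 - 1) := by
      rw [← Nat.sq_sub_sq]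
    rw [e1, e2]
    refine Nat.mul_dvd_mul_left _ ?_
    simpa using Nat.sub_dvd_pow_sub_pow (2 ^ n) 1 2
  obtain ⟨t, ht⟩ := dvd_of_one_add_pow_dvd (by norm_num) h0 (h1.trans h2)
  have h3 : 3 ≤ t := by
    by_contra hcon
    have h4 : t = 0 ∨ t = 1 ∨ t = 2 := by omega
    rcases h4 with rfl | rfl | rfl
    · omega
    · omega
    · obtain rfl : n = k := by omega
      have h8 : 8 ≤ 2 ^ n := le_trans (by norm_num) (Nat.pow_le_pow_right (by norm_num) hn)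
      obtain ⟨c, hc⟩ : ∃ c, 2 ^ n = c + 3 := ⟨2 ^ n - 3, by omega⟩
      rw [hc] at h1 h8
      have e : ((c + 3) ^ 2 + 1) * (c + 3 - 1) + 4 = (1 + (c + 3)) * (c ^ 2 + 4 * c + 6) := by
        rw [show c + 3 - 1 = c + 2 from rfl]
        ring
      have h5 : 1 + (c + 3) ∣ 4 := (Nat.dvd_add_right h1).1 (e ▸ dvd_mul_right _ _)
      have := Nat.le_of_dvd (by norm_num) h5
      omega
  nlinarith

theorem row_sz_model {F : Type} [Field F] [Fintype F] {m : ℕ} (hm : 1 ≤ m) (hF : Fintype.card F = 2 ^ (2 * m + 1))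
    [Finite ↥(Cfsg.Sz F m)] [IsSimpleGroup ↥(Cfsg.Sz F m)] (hna : ¬ IsMulCommutative ↥(Cfsg.Sz F m))
    (hout : Nat.card (Out ↥(Cfsg.Sz F m)) ≤ 2 * m + 1) : Row ↥(Cfsg.Sz F m) := by
  have h2 : Fact (Nat.Prime 2) := ⟨Nat.prime_two⟩
  obtain ⟨a1, a2, a3, a4⟩ := H452.FprSz.sz_rank hm hF
  have H : TI 2 ↥(Cfsg.Sz F m) ((2 ^ (2 * m + 1)) ^ 2) (2 ^ (2 * m + 1) - 1) (2 * (2 * m + 1)) :=
    ⟨H452.FprSz.sz_ti hm hF, by rw [← pow_mul, mul_comm], a1, a2, a3, a4⟩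
  have hf : Fpf 2 ↥(Cfsg.Sz F m) := fun t ht ht2 P u hu h => H452.FprSz.sz_fpf hm hF ht ht2 rfl P hu h
  have hcyc : ∀ r : ℕ, r.Prime → r ≠ 2 → ∀ P : Sylow r ↥(Cfsg.Sz F m), IsCyclic P := fun r hr hr2 P =>
    haveI : Fact r.Prime := ⟨hr⟩
    S0331.result hm hF hr2 P
  have hnorm := fun k hk l hl hl2 hlk y hy => @H452.FprSz.card_norm_torus F _ _ m hm hF k hk l hl hl2 hlk y hy
  have harith := @sz_arith (2 * m + 1)
  have hfq : 2 * m + 1 ≤ 2 ^ (2 * m + 1) := (Nat.lt_pow_self (by norm_num)).le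
  have hq8 : 8 ≤ 2 ^ (2 * m + 1) :=
    calc 8 = 2 ^ 3 := by norm_num
      _ ≤ 2 ^ (2 * m + 1) := Nat.pow_le_pow_right (by norm_num) (by omega)
  have hs : 2 * 2 ^ (m + 1) ≤ 2 ^ (2 * m + 1) := by
    rw [← pow_succ']
    exact Nat.pow_le_pow_right (by norm_num) (by omega)
  have hs2 : (2 ^ (m + 1)) ^ 2 = 2 * 2 ^ (2 * m + 1) := by
    rw [← pow_mul, ← pow_succ']
    congr 1
    ring
  generalize 2 ^ (m + 1) = s at *
  generalize 2 ^ (2 * m + 1) = q at *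
  have hq2 : 8 * q ≤ q ^ 2 := by nlinarith
  have hfac : (q + s + 1) * (q - s + 1) = q ^ 2 + 1 := by
    obtain ⟨c, rfl⟩ : ∃ c, q = c + s := ⟨q - s, by omega⟩
    rw [Nat.add_sub_cancel]
    nlinarith
  have hN : ∀ y : ↥(Cfsg.Sz F m), (orderOf y).Prime → orderOf y ≠ 2 →
      Nat.card (normalizer ((zpowers y : Subgroup ↥(Cfsg.Sz F m)) : Set ↥(Cfsg.Sz F m))) ≤ 4 * (q + s + 1) := by
    intro y hy hy2
    by_cases hd : orderOf y ∣ q ^ 2 + 1
    · rw [← hfac] at hd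
      rcases (Nat.Prime.dvd_mul hy).1 hd with h1 | h1
      · exact hnorm _ (by simp) _ hy hy2 h1 y rfl
      · exact (hnorm _ (by simp) _ hy hy2 h1 y rfl).trans (by omega)
    · exact (H.card_norm_le' hf hna hy hy2 hd).trans (by omega)
  have hfix : ∀ α : MulAut ↥(Cfsg.Sz F m), α ≠ 1 → Nat.card (fixS α) ≤ q ^ 2 := by
    intro α hα
    rcases H.fix_cases_fpf hf hna hα with h1 | h1 | ⟨k, h1, h3, h4, h5⟩
    · by_cases h0 : fixS α = ⊥
      · rw [h0, card_bot]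
        omega
      obtain ⟨y, hy, hyp, hle⟩ := exists_cyc_normal h0 fun r hr hd => hcyc r hr fun h3 => h1 (h3 ▸ hd)
      refine (card_le_of_le hle).trans ((hN y hyp fun h3 => h1 (h3 ▸ orderOf_dvd_natCard _ hy)).trans ?_)
      omega
    · exact h1
    · exact h5.trans ((cube_bound _).trans (harith (by omega) h1 h3 h4))
  intro S hS hmax
  obtain ⟨Y, b1, b2, b3, -, ⟨r, hr, b4⟩, -⟩ := exists_minK hna hS hmax
  by_cases hr2 : r = 2
  · subst hr2
    obtain ⟨P₀, -, hP⟩ := H.fix_of_pgroup b1 (fun x => ⟨1, Subtype.ext (by rw [pow_one]; exact b4 x x.2)⟩) b3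
    refine H.good_of_par hna hP (a := q) (fun k h3 h4 => ?_) hout ?_ (by omega)
    · rcases Nat.eq_zero_or_pos k with rfl | h0
      · omega
      have h5 := harith (by omega) h0 h3 (h4.resolve_left h0.ne')
      by_contra hcon
      have h6 : q ^ 3 ≤ (2 ^ k) ^ 3 := Nat.pow_le_pow_left (by omega) 3
      have h7 : q ^ 2 < q ^ 3 := Nat.pow_lt_pow_right (by omega) (by norm_num)
      omega
    · calc (2 * m + 1) * (q - 1) * q ^ 2 < q * q * q ^ 2 :=
            Nat.mul_lt_mul_of_pos_right (Nat.mul_lt_mul_of_le_of_lt hfq (by omega) (by omega)) (by omega)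
        _ = _ := by ring
  · obtain ⟨⟨y, hy⟩, hy1⟩ := ne_bot_iff_exists_ne_one.1 b1
    obtain ⟨ho, hY⟩ := eq_zpowers_of_cyclic hr (hcyc r hr hr2) b4 hy fun h => hy1 (Subtype.ext h)
    have hR : Nat.card (innS S) ≤ 4 * (q + s + 1) :=
      (card_le_of_le (hY ▸ innS_le_norm b3)).trans (hN y (ho ▸ hr) (ho ▸ hr2))
    have h13 : 2 * (4 * (q + s + 1)) ≤ 13 * q := by omega
    refine good_of_fix3 hna hR hout (M := (q ^ 2 + 1) * (q - 1)) (fun α _ hα => ?_) ?_ ?_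
    · rw [a4, mul_comm]
      exact Nat.mul_le_mul_right _ (hfix α (ne_one_of_prime' hα))
    · generalize 4 * (q + s + 1) = r at *
      have h3 : (2 * r) ^ 4 ≤ (13 * q) ^ 4 := Nat.pow_le_pow_left h13 4
      have h4 : (7 * q ^ 3) ^ 3 ≤ (8 * ((q ^ 2 + 1) * (q - 1))) ^ 3 := by
        refine Nat.pow_le_pow_left ?_ 3
        calc 7 * q ^ 3 = q ^ 2 * (7 * q) := by ring
          _ ≤ (q ^ 2 + 1) * (8 * (q - 1)) := Nat.mul_le_mul (by omega) (by omega)
          _ = _ := by ring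
      have h5 : 8 ^ 4 ≤ q ^ 4 := Nat.pow_le_pow_left hq8 4
      have h6 : 16 * 512 * ((2 * m + 1) * r ^ 4) ≤ 16 * 512 * ((q ^ 2 + 1) * (q - 1)) ^ 3 := by
        calc 16 * 512 * ((2 * m + 1) * r ^ 4) = 512 * ((2 * m + 1) * (2 * r) ^ 4) := by ring
          _ ≤ 512 * (q * (13 * q) ^ 4) := Nat.mul_le_mul_left _ (Nat.mul_le_mul hfq h3)
          _ = (512 * 13 ^ 4) * q ^ 5 := by ring
          _ ≤ (16 * 343 * 8 ^ 4) * q ^ 5 := Nat.mul_le_mul_right _ (by norm_num)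
          _ ≤ (16 * 343 * q ^ 4) * q ^ 5 := Nat.mul_le_mul_right _ (Nat.mul_le_mul_left _ h5)
          _ = 16 * (7 * q ^ 3) ^ 3 := by ring
          _ ≤ 16 * (8 * ((q ^ 2 + 1) * (q - 1))) ^ 3 := Nat.mul_le_mul_left _ h4
          _ = _ := by ring
      exact Nat.le_of_mul_le_mul_left h6 (by norm_num)
    · rw [a4]
      have h3 : 7 * 7 ≤ (q ^ 2 + 1) * (q - 1) := Nat.mul_le_mul (by omega) (by omega)
      nlinarith

/-- **The box of the Suzuki groups.** -/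
theorem box_sz : Box fun K _ => Lie.IsoSuzuki K := by
  rintro T _ _ _ hT ⟨F, iF, iF', m, hm, hF, ⟨e⟩⟩
  obtain ⟨f⟩ := OddCyclic.ClaimC.SzIso.iso (F := F) hm hF
  let e' : T ≃* ↥(Cfsg.Sz F m) := e.trans f.symm
  have : Finite ↥(Cfsg.Sz F m) := Finite.of_equiv T e'.toEquiv
  have : IsSimpleGroup ↥(Cfsg.Sz F m) := e'.symm.isSimpleGroup
  refine Row.of_equiv e' (row_sz_model hm hF (fun h => hT ⟨⟨fun a b => e'.injective ?_⟩⟩)
    ((card_out_congr f).trans (S2126.result hm hF)).le)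
  rw [map_mul, map_mul]
  exact h.is_comm.comm _ _

end Cfsg.Agent.SB.R1
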