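import Cfsg.Agent.SB.R1.L2B
import Cfsg.Agent.SB.R1.Sz
import Cfsg.Agent.SB.Alt.Main
import Cfsg.Agent.H452.FprPsl2
import Cfsg.Agent.ClassicalGeometry.PSL2Klein
import Cfsg.Agent.ClassicalGeometry.PSL2ElemOrder
import Cfsg.Agent.S0252
import Cfsg.Agent.S0799
import Cfsg.Agent.S0809
import Cfsg.Agent.S0813
import Cfsg.Agent.S2475
import Cfsg.Agent.S2508

/-!
# S5765: the groups `PSL₂(q)` (helper61)
-/

set_option autoImplicit false
set_option linter.unusedSectionVars false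

namespace Cfsg.Agent.SB.R1

open Subgroup MulAction Cfsg Cfsg.Agent.H786.FC Cfsg.Agent.ClassicalGeometry Cfsg.Agent.ClassicalGeometry.KleinCount

/-- `PSL₂(F)` -/
abbrev PL (F : Type) [Field F] : Type := Matrix.ProjectiveSpecialLinearGroup (Fin 2) F

theorem sq_le_two_pow (n : ℕ) : n ^ 2 ≤ 2 ^ n + 1 := by
  rcases Nat.lt_or_ge n 4 with h | h
  · interval_cases n <;> norm_num
  · refine le_trans ?_ (Nat.le_succ _)
    induction n, h using Nat.le_induction with
    | base => norm_num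
    | succ k hk ih => rw [pow_succ 2 k]; nlinarith

theorem eight_mul_le (n : ℕ) (h : 3 ≤ n) : 8 * n ≤ 3 ^ n := by
  induction n, h using Nat.le_induction with
  | base => norm_num
  | succ k hk ih => rw [pow_succ 3 k]; omega

theorem dihedral_out {m : ℕ} (h3 : 3 ≤ m) {t : DihedralGroup m} (ht : orderOf t = m) (g : DihedralGroup m) :
    g ∈ zpowers t ∨ g * g = 1 := by
  have : NeZero m := ⟨by omega⟩
  rcases g with i | i
  · left
    rcases t with j | j
    · have h1 : zpowers (DihedralGroup.r j) ≤ zpowers (DihedralGroup.r (1 : ZMod m)) :=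
        zpowers_le.2 ⟨(j.val : ℕ), by simp⟩
      have h2 := eq_of_le_of_card_ge h1 (by rw [Nat.card_zpowers, Nat.card_zpowers, ht, DihedralGroup.orderOf_r_one])
      rw [h2]
      exact ⟨(i.val : ℕ), by simp⟩
    · rw [DihedralGroup.orderOf_sr] at ht
      omega
  · exact Or.inr (DihedralGroup.sr_mul_self i)

theorem index_centralizer_ne_one {K : Type*} [Group K] [IsSimpleGroup K] (hK : ¬ IsMulCommutative K) {g : K}
    (hg : g ≠ 1) : (centralizer ({g} : Set K)).index ≠ 1 := by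
  intro h
  rw [index_eq_one] at h
  refine hg (conj_injective hK ?_)
  ext x
  have h1 := mem_centralizer_singleton_iff.1 (h ▸ mem_top x : x ∈ centralizer ({g} : Set K))
  rw [map_one, MulAut.conj_apply, ← h1, mul_inv_cancel_right, MulAut.one_apply]

theorem fixS_conj {K : Type*} [Group K] (g : K) : fixS (MulAut.conj g) = centralizer ({g} : Set K) := by
  ext x
  rw [mem_fixS, mem_centralizer_singleton_iff, MulAut.conj_apply, mul_inv_eq_iff_eq_mul, eq_comm]

section facts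

variable {F : Type} [Field F] [Fintype F]

/-- four-groups are self-centralizing -/
theorem four_cent (h2 : (2 : F) ≠ 0) {a b : PL F} (V : CommInv a b) (g : PL F) (ha : g * a = a * g)
    (hb : g * b = b * g) : g ∈ V.four := by
  obtain ⟨A, rfl⟩ := QuotientGroup.mk_surjective a
  obtain ⟨B, rfl⟩ := QuotientGroup.mk_surjective b
  obtain ⟨G, rfl⟩ := QuotientGroup.mk_surjective g
  have hp := (PSL2Klein.commInv_iff h2).1 V
  have key : ∀ X : Matrix.SpecialLinearGroup (Fin 2) F, X.1 * A.1 = A.1 * X.1 → X.1 * B.1 = B.1 * X.1 →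
      PSL2Klein.mk X = 1 := fun X h1 h3 => by
    obtain ⟨c, hc⟩ := hp.commutant h2 h1 h3
    refine (QuotientGroup.eq_one_iff X).2 (mem_center_iff.2 fun Y => Subtype.ext ?_)
    change Y.1 * X.1 = X.1 * Y.1
    rw [hc]
    simp
  have sgn : ∀ X Y : Matrix.SpecialLinearGroup (Fin 2) F, PSL2Klein.mk X * PSL2Klein.mk Y =
      PSL2Klein.mk Y * PSL2Klein.mk X → X.1 * Y.1 = Y.1 * X.1 ∨ X.1 * Y.1 = -(Y.1 * X.1) := fun X Y h => by
    rcases PSL2Klein.mk_eq_mk.1 (show PSL2Klein.mk (X * Y) = PSL2Klein.mk (Y * X) from h) with h1 | h1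
    · exact Or.inl (congrArg Subtype.val h1)
    · exact Or.inr (congrArg Subtype.val h1)
  have fin : ∀ v ∈ V.four, PSL2Klein.mk G * v = 1 → PSL2Klein.mk G ∈ V.four := fun v hv h => by
    rw [eq_inv_of_mul_eq_one_left h]
    exact inv_mem hv
  have hab := hp.anti
  have hba := hp.anti'
  rcases sgn G A ha with h1 | h1 <;> rcases sgn G B hb with h3 | h3
  · rw [show (QuotientGroup.mk G : PL F) = 1 from key G h1 h3]
    exact one_mem _
  · refine fin (PSL2Klein.mk A) (V.mem_four.2 (by simp)) (key (G * A) ?_ ?_)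
    · change G.1 * A.1 * A.1 = A.1 * (G.1 * A.1)
      rw [h1, mul_assoc, h1]
    · change G.1 * A.1 * B.1 = B.1 * (G.1 * A.1)
      rw [mul_assoc, hab, mul_neg, ← mul_assoc, h3, neg_mul, neg_neg, mul_assoc]
  · refine fin (PSL2Klein.mk B) (V.mem_four.2 (by simp)) (key (G * B) ?_ ?_)
    · change G.1 * B.1 * A.1 = A.1 * (G.1 * B.1)
      rw [mul_assoc, hba, mul_neg, ← mul_assoc, h1, neg_mul, neg_neg, mul_assoc]
    · change G.1 * B.1 * B.1 = B.1 * (G.1 * B.1)
      rw [h3, mul_assoc, h3]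
  · refine fin (PSL2Klein.mk A * PSL2Klein.mk B) (V.mem_four.2 (by simp)) (key (G * (A * B)) ?_ ?_)
    · change G.1 * (A.1 * B.1) * A.1 = A.1 * (G.1 * (A.1 * B.1))
      rw [mul_assoc, mul_assoc, hba, mul_neg, mul_neg, ← mul_assoc, h1, neg_mul, neg_neg, mul_assoc]
    · change G.1 * (A.1 * B.1) * B.1 = B.1 * (G.1 * (A.1 * B.1))
      have e : A.1 * B.1 * B.1 = -(B.1 * (A.1 * B.1)) := by rw [← mul_assoc, hba, neg_mul, neg_neg]
      rw [mul_assoc, e, mul_neg, ← mul_assoc, h3, neg_mul, neg_neg, mul_assoc]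

variable {p n q d m h : ℕ} [Fact p.Prime] [CharP F p]

/-- the parameters -/
structure Par (F : Type) [Field F] [Fintype F] (p n q d m h : ℕ) : Prop where
  card : Fintype.card F = q
  pow : q = p ^ n
  big : 7 ≤ q
  gcd : Nat.gcd 2 (q - 1) = d
  hm : d * m = q + 1
  hh : d * h + 1 = q
  cases : (d = 1 ∧ p = 2) ∨ (d = 2 ∧ p ≠ 2)

namespace Par

variable (P : Par F p n q d m h)
include P

theorem d_pos : 0 < d := by rcases P.cases with h | h <;> omega

theorem em : (q + 1) / Nat.gcd 2 (q - 1) = m := by rw [P.gcd, ← P.hm, Nat.mul_div_cancel_left _ P.d_pos]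

theorem eh : (q - 1) / Nat.gcd 2 (q - 1) = h := by
  rw [P.gcd, ← P.hh, Nat.add_sub_cancel, Nat.mul_div_cancel_left _ P.d_pos]

theorem n_ne : n ≠ 0 := by
  rintro rfl
  have h1 := P.pow
  have h2 := P.big
  rw [pow_zero] at h1
  omega

theorem dvd : p ∣ q := P.pow ▸ dvd_pow_self p P.n_ne

theorem not_dvd_m : ¬ p ∣ m := fun h1 =>
  (Fact.out : p.Prime).one_lt.ne' (Nat.dvd_one.1 ((Nat.dvd_add_right P.dvd).1 (P.hm ▸ h1.mul_left d)))

theorem not_dvd_h : ¬ p ∣ h := fun h1 =>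
  (Fact.out : p.Prime).one_lt.ne' (Nat.dvd_one.1 ((Nat.dvd_add_right (h1.mul_left d)).1 (P.hh ▸ P.dvd)))

theorem simple : IsSimpleGroup (PL F) :=
  Matrix.ProjectiveSpecialLinearGroup.rank_two_simple (by
    rw [Nat.card_eq_fintype_card, P.card]
    have := P.big
    omega)

theorem noncomm : ¬ IsMulCommutative (PL F) := fun h =>
  PSL2Solvable.not_isSolvable_psl F (by rw [P.card]; have := P.big; omega)
    (Group.isSolvable_of_comm h.is_comm.comm)

theorem sq_sub : q ^ 2 - 1 = (q + 1) * h * d := by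
  rw [← P.hh]
  apply Nat.sub_eq_of_eq_add
  ring

theorem ord : Nat.card (PL F) = q * ((q + 1) * h) := by
  have h1 := PSL2Basic.card_PSL2_gcd F
  rw [P.card, P.gcd, P.sq_sub, ← mul_assoc] at h1
  exact Nat.eq_of_mul_eq_mul_right P.d_pos h1

theorem ti : TI p (PL F) q h n := by
  have := H452.FprPsl2.pfin (F := F)
  have := P.simple
  have hti : ∀ R R' : Sylow p (PL F), R ≠ R' → (R : Subgroup (PL F)) ⊓ R' = ⊥ := fun R R' hne => by
    rw [eq_bot_iff]
    intro x hx
    by_contra h1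
    exact hne (PSL2ElemOrder.sylow_eq_of_mem p R R' x h1 hx.1 hx.2)
  obtain ⟨a1, a2, a3⟩ := H452.FprRee.rank_one_data hti P.pow P.n_ne P.ord P.not_dvd_h (by
    have h1 := P.hh
    have h2 := Nat.le_mul_of_pos_left h P.d_pos
    omega)
  exact ⟨hti, P.pow, a1, a2, a3, P.ord⟩

theorem fpf : Fpf p (PL F) := by
  intro t ht htp R u hu htu
  have hp : p.Prime := Fact.out
  by_contra hu1
  obtain ⟨k, hk⟩ := IsPGroup.iff_orderOf.1 R.isPGroup' ⟨u, hu⟩
  rw [orderOf_mk] at hk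
  have hk0 : k ≠ 0 := by
    rintro rfl
    exact hu1 (orderOf_eq_one_iff.1 hk)
  have h1 : orderOf (t * u) = orderOf t * p ^ k := by
    rw [← hk]
    exact Commute.orderOf_mul_eq_mul_orderOf_of_coprime htu
      (hk ▸ Nat.Coprime.pow_right _ ((Nat.coprime_primes ht hp).2 htp))
  have h2 : orderOf (t * u) ∈ Set.range (orderOf : PL F → ℕ) := ⟨_, rfl⟩
  rw [S2475.result p (by rw [P.card]; have := P.big; omega), P.card, P.em, P.eh, h1] at h2
  have h3 : p ∣ orderOf t * p ^ k := (dvd_pow_self p hk0).mul_left _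
  rcases h2 with h2 | h2 | h2
  · exact htp ((Nat.prime_dvd_prime_iff_eq ht hp).1 ((dvd_mul_right _ _).trans h2))
  · exact P.not_dvd_h (h3.trans h2)
  · exact P.not_dvd_m (h3.trans h2)

theorem aut : Nat.card (MulAut (PL F)) = d * n * Nat.card (PL F) := by
  have h1 := S0813.result (F := F) p n (Nat.pos_of_ne_zero P.n_ne) (P.card.trans P.pow) 2 le_rfl
    fun _ => by rw [← P.pow]; have := P.big; omega
  rw [h1, PSL2Basic.card_PGL2, P.card, P.sq_sub, P.ord]
  simp only [if_true]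
  ring

theorem out : Nat.card (Out (PL F)) = d * n := by
  have := H452.FprPsl2.pfin (F := F)
  have := P.simple
  have h1 := (InnG (PL F)).index_mul_card
  rw [card_inn P.noncomm, P.aut] at h1
  exact Nat.eq_of_mul_eq_mul_right Nat.card_pos h1

theorem three_le : 3 ≤ h ∧ h < m := by
  have h1 := P.hm
  have h2 := P.hh
  have h3 := P.big
  rcases P.cases with ⟨rfl, -⟩ | ⟨rfl, -⟩ <;> omega

theorem tor : ∃ (t : PL F) (D : Subgroup (PL F)), Tor t D m := by
  have := H452.FprPsl2.pfin (F := F)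
  obtain ⟨C, D, h1, -, h2, h3, ⟨e⟩, h4⟩ := PSLTorus.exists_psl_torus F
  rw [P.card, P.em] at h3 e
  obtain ⟨t, ht⟩ := (Subgroup.isCyclic_iff_exists_zpowers_eq_top C).1 h2
  subst ht
  have h5 := P.three_le
  rw [Nat.card_zpowers] at h3
  have hD : Nat.card D = 2 * m := by rw [Nat.card_congr e.toEquiv, DihedralGroup.nat_card]
  refine ⟨t, D, h3, h1 (mem_zpowers t), hD.le, fun g hg => ?_, h4, fun h6 => ?_⟩
  · rcases dihedral_out (by omega) (t := e ⟨t, h1 (mem_zpowers t)⟩) (by rw [e.orderOf_eq, orderOf_mk, h3])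
      (e ⟨g, hg⟩) with ⟨i, hi⟩ | h6
    · exact Or.inl ⟨i, congrArg Subtype.val (e.injective ((map_zpow e _ i).trans hi))⟩
    · exact Or.inr (congrArg Subtype.val (e.injective ((map_mul e _ _).trans (h6.trans (map_one e).symm))))
  · rw [h6, card_top, P.ord] at hD
    have h7 := P.big
    have h8 : m ≤ q + 1 := P.hm ▸ Nat.le_mul_of_pos_left m P.d_pos
    have h9 : 7 * (m * 1) ≤ q * ((q + 1) * h) := Nat.mul_le_mul h7 (Nat.mul_le_mul h8 (by omega))
    omega

theorem odd (hp : p ≠ 2) : Odd q := P.pow ▸ ((Fact.out : p.Prime).odd_of_ne_two hp).pow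

theorem cyc {r : ℕ} (hr : r.Prime) (h2 : r ≠ 2) (hp : r ≠ p) (R : Sylow r (PL F)) : IsCyclic R :=
  haveI : Fact r.Prime := ⟨hr⟩
  H452.FprPsl2.psl_cyclic h2 (fun h1 => hp ((Nat.prime_dvd_prime_iff_eq hr Fact.out).1
    (hr.dvd_of_dvd_pow (P.pow ▸ P.card ▸ h1)))) R

theorem conj {x y : PL F} (hy : (orderOf y).Prime) (hp : orderOf y ≠ p) (hx : orderOf x = orderOf y) :
    ∃ g : PL F, y ∈ zpowers (MulAut.conj g x) := by
  have := H452.FprPsl2.pfin (F := F)
  by_cases h2 : orderOf y = 2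
  · obtain ⟨A, hA⟩ : ∃ A : Subgroup (Matrix.SpecialLinearGroup (Fin 2) F), Nat.card A = 4 := by
      have : Fact (Nat.Prime 2) := ⟨Nat.prime_two⟩
      refine Sylow.exists_subgroup_card_pow_prime 2 (n := 2) ?_
      rw [PSL2Basic.card_SL2, P.card]
      obtain ⟨k, hk⟩ := P.odd (h2 ▸ hp.symm)
      refine Dvd.dvd.mul_left ⟨k ^ 2 + k, ?_⟩ _
      rw [hk]
      apply Nat.sub_eq_of_eq_add
      ring
    obtain ⟨g, hg⟩ := isConj_iff.1 ((S0809.result P.card (P.odd (h2 ▸ hp.symm)) A hA).2.2.2 x y (hx.trans h2) h2)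
    exact ⟨g, hg ▸ mem_zpowers _⟩
  · have : Fact (orderOf y).Prime := ⟨hy⟩
    obtain ⟨g, hg⟩ := H452.FprRank.exists_conj_zpowers (P.cyc hy h2 hp) hx rfl
    rw [MonoidHom.map_zpowers] at hg
    exact ⟨g, hg ▸ mem_zpowers y⟩

theorem mul_le {k : ℕ} (hk : k < n) : p * p ^ k ≤ q := by
  rw [← pow_succ', P.pow]
  exact Nat.pow_le_pow_right (Fact.out : p.Prime).pos hk

theorem dvd_n {k : ℕ} (h0 : 1 ≤ k) (h1 : 1 + p ^ k ∣ (q + 1) * h) : k ∣ n := by
  refine dvd_of_one_add_pow_dvd (Fact.out : p.Prime).two_le h0 (h1.trans ?_)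
  rw [mul_comm 2, pow_mul, ← P.pow, P.sq_sub]
  exact dvd_mul_right _ _

theorem sq_le {k : ℕ} (hk : k < n) (h1 : k = 0 ∨ 1 + p ^ k ∣ (q + 1) * h) : (p ^ k) ^ 2 ≤ q := by
  rw [← pow_mul, P.pow]
  refine Nat.pow_le_pow_right (Fact.out : p.Prime).pos ?_
  rcases Nat.eq_zero_or_pos k with rfl | h0
  · omega
  obtain ⟨c, rfl⟩ := P.dvd_n h0 (h1.resolve_left h0.ne')
  refine Nat.mul_le_mul_left _ ?_
  by_contra h2
  have h3 : k * c ≤ k * 1 := Nat.mul_le_mul_left _ (by omega)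
  omega

/-- `S` normalizes a subgroup of prime order `≠ p` -/
theorem good_cyc {S : Subgroup (MulAut (PL F))} (hS : Group.IsSolvable S) (hm : MaxInv (InnG (PL F)) S) {y : PL F}
    (hy : (orderOf y).Prime) (hp : orderOf y ≠ p) (hSy : ∀ s ∈ S, s y ∈ zpowers y) : Good (InnG (PL F)) S := by
  have := H452.FprPsl2.pfin (F := F)
  have := P.simple
  have H := P.ti
  have hK := P.noncomm
  have : Fact (orderOf y).Prime := ⟨hy⟩
  have hy1 := ne_one_of_prime' hy
  have h7 := P.big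
  have h3 := P.three_le
  have hp2 := (Fact.out : p.Prime).two_le
  rcases PSL2ElemOrder.orderOf_dvd P.card p y
    (fun h1 => hp ((Nat.prime_dvd_prime_iff_eq Fact.out hy).1 h1).symm) with h1 | h1
  · rw [P.em] at h1
    obtain ⟨t, D, hT⟩ := P.tor
    obtain ⟨g, hg⟩ := P.conj (x := t ^ (orderOf t / orderOf y)) hy hp
      (orderOf_pow_orderOf_div (orderOf_pos t).ne' (hT.ord ▸ h1))
    have e1 := P.hm
    have e2 := P.hh
    refine H.good_of_tor hK hS hm (hT.map (MulAut.conj g)) (zpowers_le.2 ?_ hg) hy1 hSy (by omega) ?_ ?_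
      (fun k hk => ?_) ?_
    · rw [map_pow]
      exact pow_mem (mem_zpowers _) _
    · refine Nat.Coprime.mul_right ?_ ?_
      · refine Nat.Coprime.coprime_dvd_left (Dvd.intro_left d P.hm) ?_
        simp
      · rcases P.cases with ⟨rfl, rfl⟩ | ⟨rfl, -⟩
        · rw [show m = h + 2 by omega, Nat.coprime_self_add_left]
          exact Nat.prime_two.coprime_iff_not_dvd.2 P.not_dvd_h
        · rw [show m = h + 1 by omega]
          simp
    · rcases P.cases with ⟨rfl, -⟩ | ⟨rfl, -⟩ <;> omega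
    · have h4 := P.mul_le hk
      rcases P.cases with ⟨rfl, rfl⟩ | ⟨rfl, h5⟩
      · omega
      · have h6 : 3 * p ^ k ≤ p * p ^ k := Nat.mul_le_mul_right _ (by omega)
        omega
    · rw [P.ord]
      have h8 : m ≤ q + 1 := P.hm ▸ Nat.le_mul_of_pos_left m P.d_pos
      have h9 : 7 * (m * 2) ≤ q * ((q + 1) * h) := Nat.mul_le_mul h7 (Nat.mul_le_mul h8 (by omega))
      omega
  · rw [P.eh] at h1
    obtain ⟨R₀⟩ : Nonempty (Sylow p (PL F)) := inferInstance
    obtain ⟨R₁, hne⟩ := H.exists_ne R₀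
    obtain ⟨x, hx⟩ := exists_prime_orderOf_dvd_card' (G := ↥(stabilizer (PL F) R₀ ⊓ stabilizer (PL F) R₁)) (orderOf y)
      (by rwa [H.card_two hne])
    obtain ⟨g, hg⟩ := P.conj (x := x) hy hp (by rw [orderOf_coe, hx])
    have key : ∀ R : Sylow p (PL F), (x : PL F) • R = R → ∀ z ∈ zpowers y, z • g • R = g • R := fun R hR z hz => by
      refine (zpowers_le.2 (zpowers_le.2 (show _ ∈ stabilizer (PL F) (g • R) from ?_) hg)) hz
      rw [mem_stabilizer_iff, MulAut.conj_apply, mul_smul, mul_smul, inv_smul_smul, hR]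
    have hne' : g • R₁ ≠ g • R₀ := fun h2 => hne (smul_left_cancel g h2)
    refine good_of_four hK (H.four_of_pair hK hne' (fun s hs R hR => ?_) (a := q.sqrt)
      (fun k hk h2 => Nat.le_sqrt'.2 (P.sq_le hk h2)) P.out.le ?_ (by omega)) ?_
    · refine H.fix_le_two P.fpf hne' (t := s y) (fun h2 => hy1 (s.injective (h2.trans (map_one s).symm)))
        (key _ x.2.1 _ (hSy s hs)) (key _ x.2.2 _ (hSy s hs)) ?_
      rw [← smul_smul_sylow]
      rcases hR with rfl | rfl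
      · rw [key _ x.2.1 _ (mem_zpowers y)]
      · rw [key _ x.2.2 _ (mem_zpowers y)]
    · refine lt_of_pow_lt_pow_left₀ 2 (Nat.zero_le _) ?_
      have h4 : n ^ 2 ≤ q + 1 := (sq_le_two_pow n).trans (by
        rw [P.pow]
        exact Nat.succ_le_succ (Nat.pow_le_pow_left hp2 n))
      have h5 : (q.sqrt ^ 2) ^ 3 ≤ q ^ 3 := Nat.pow_le_pow_left (Nat.sqrt_le' q) 3
      obtain ⟨c, hc⟩ : ∃ c, c = d * h := ⟨_, rfl⟩
      have h6 := P.hh
      rw [← hc] at h6
      calc (d * n * h * q.sqrt ^ 3) ^ 2 = n ^ 2 * c ^ 2 * (q.sqrt ^ 2) ^ 3 := by rw [hc]; ring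
        _ ≤ (q + 1) * c ^ 2 * q ^ 3 := Nat.mul_le_mul (Nat.mul_le_mul_right _ h4) h5
        _ < q ^ 3 * q ^ 3 := Nat.mul_lt_mul_of_pos_right (by rw [← h6]; nlinarith) (by positivity)
        _ = _ := by ring
    · have h4 := (card_le_of_le (innS_le_norm fun s hs z hz => apply_mem_zpowers (hSy s hs) hz)).trans
        (H.card_norm_le P.fpf hne' hy1 (key _ x.2.1 _ (mem_zpowers y)) (key _ x.2.2 _ (mem_zpowers y)))
      rw [P.ord]
      have h9 : 7 * (2 * h) ≤ q * ((q + 1) * h) := Nat.mul_le_mul h7 (Nat.mul_le_mul_right _ (by omega))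
      omega

/-- centralizers of automorphisms, `q` odd -/
theorem fix_cases (hp : p ≠ 2) {α : MulAut (PL F)} (hα : α ≠ 1) :
    Nat.card (fixS α) ≤ q + 1 ∨ Nat.card (fixS α) = 12 ∨ Nat.card (fixS α) = 24 ∨ Nat.card (fixS α) = 60 ∨
    ∃ k : ℕ, 1 ≤ k ∧ k < n ∧ (p ^ k) ^ 2 ≤ q ∧ Nat.card (fixS α) ≤ (1 + p ^ k) * (p ^ k * (p ^ k - 1)) := by
  have := H452.FprPsl2.pfin (F := F)
  have := P.simple
  have H := P.ti
  have hpp : p.Prime := Fact.out
  have h3 := P.three_le
  have e1 := P.hm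
  obtain rfl : d = 2 := (P.cases.resolve_left fun h1 => hp h1.2).1
  rcases H.fix_cases_fpf P.fpf P.noncomm hα with h1 | h1 | ⟨k, h1, h2, h4, h5⟩
  · rcases S0799.result P.card p (fixS α) with ⟨k, h2, h4⟩ | ⟨R, B, h2, ⟨e⟩⟩ | ⟨⟨e⟩⟩ | ⟨⟨e⟩⟩ | ⟨⟨e⟩⟩ |
      ⟨K, iK, iK', j, h2, h4⟩
    · left
      rw [P.em, P.eh] at h2
      have h5 : k ≤ m := h2.elim (Nat.le_of_dvd (by omega)) fun h6 => (Nat.le_of_dvd (by omega) h6).trans h3.2.le
      rcases h4 with ⟨-, h4⟩ | ⟨⟨e⟩⟩
      · exact h4.le.trans (by omega)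
      · rw [Nat.card_congr e.toEquiv, DihedralGroup.nat_card]
        omega
    · left
      have h4 : Nat.card (fixS α) ∣ q * h := by
        rw [Nat.card_congr e.toEquiv, ← H.card_stab R]
        exact card_dvd_of_le fun x hx => Sylow.smul_eq_iff_mem_normalizer.2 (h2 hx)
      have h5 : Nat.card (fixS α) ∣ h := Nat.Coprime.dvd_of_dvd_mul_left
        (P.pow ▸ Nat.Coprime.pow_right _ (hpp.coprime_iff_not_dvd.2 h1).symm) h4
      have := Nat.le_of_dvd (by omega) h5
      omega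
    · right; left
      rw [Nat.card_congr e.toEquiv, nat_card_alternatingGroup]
      simp [Nat.factorial]
    · right; right; left
      rw [Nat.card_congr e.toEquiv, Nat.card_perm]
      simp [Nat.factorial]
    · right; right; right; left
      rw [Nat.card_congr e.toEquiv, nat_card_alternatingGroup]
      simp [Nat.factorial]
    · exfalso
      have h5 : p ∣ Fintype.card K := hpp.dvd_of_dvd_pow (h2 ▸ P.dvd)
      apply h1
      rcases h4 with ⟨⟨e⟩⟩ | ⟨⟨e⟩⟩
      · rw [Nat.card_congr e.toEquiv]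
        have h6 := h5.mul_right (Fintype.card K ^ 2 - 1)
        rw [← PSL2Basic.card_PSL2_gcd] at h6
        exact (hpp.dvd_mul.1 h6).resolve_right fun h7 =>
          hp ((Nat.prime_dvd_prime_iff_eq hpp Nat.prime_two).1 (h7.trans (Nat.gcd_dvd_left _ _)))
      · rw [Nat.card_congr e.toEquiv, PSL2Basic.card_PGL2]
        exact h5.mul_right _
  · exact Or.inl (by omega)
  · exact Or.inr (Or.inr (Or.inr (Or.inr ⟨k, h1, h2, P.sq_le h2 (Or.inr h4), h5⟩)))

end Par

end facts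

end Cfsg.Agent.SB.R1
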