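import Cfsg.Agent.SB.R1.L2A
import Cfsg.Agent.ClassicalGeometry.KleinCount

/-!
# S5765: normalizers of non-split tori and of four-groups (helper61)
-/

set_option autoImplicit false
set_option linter.unusedSectionVars false

namespace Cfsg.Agent.SB.R1

open Subgroup MulAction Cfsg Cfsg.Agent.H786.FC Cfsg.Agent.ClassicalGeometry.KleinCount
open scoped Pointwise

theorem eq_of_sq_cyclic {G : Type*} [Group G] [Finite G] {t c z : G} (hc : c ∈ zpowers t) (hz : z ∈ zpowers t)
    (hc2 : c * c = 1) (hz2 : z * z = 1) (hc1 : c ≠ 1) (hz1 : z ≠ 1) : c = z := by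
  classical
  have := Fintype.ofFinite (zpowers t)
  have h1 := IsCyclic.card_pow_eq_one_le (α := zpowers t) (n := 2) (by norm_num)
  by_contra hne
  have h2 : ({1, ⟨c, hc⟩, ⟨z, hz⟩} : Finset (zpowers t)) ⊆ Finset.univ.filter fun a => a ^ 2 = 1 := by
    intro x hx
    simp only [Finset.mem_insert, Finset.mem_singleton] at hx
    rw [Finset.mem_filter]
    refine ⟨Finset.mem_univ _, ?_⟩
    rcases hx with rfl | rfl | rfl
    · exact one_pow 2
    · exact Subtype.ext (by rw [pow_two]; exact hc2)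
    · exact Subtype.ext (by rw [pow_two]; exact hz2)
  have h3 := Finset.card_le_card h2
  rw [Finset.card_eq_three.2 ⟨_, _, _, fun h => hc1 (congrArg Subtype.val h).symm,
    fun h => hz1 (congrArg Subtype.val h).symm, fun h => hne (congrArg Subtype.val h), rfl⟩] at h3
  omega

theorem exists_conj_not_mem' {K : Type*} [Group K] [IsSimpleGroup K] {H : Subgroup K} (hH : H ≠ ⊤) {z : K}
    (hz : z ≠ 1) : ∃ x : K, x⁻¹ * z * x ∉ H := by
  by_contra hcon
  push Not at hcon
  rcases H.normalCore_normal.eq_bot_or_eq_top with h | h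
  · apply hz
    rw [← mem_bot, ← h]
    intro b
    simpa using hcon b⁻¹
  · exact hH (top_le_iff.1 (h ▸ H.normalCore_le))

theorem zpowers_ne_top {K : Type*} [Group K] (hK : ¬ IsMulCommutative K) (y : K) : zpowers y ≠ ⊤ := by
  intro h
  refine hK ⟨⟨fun a b => ?_⟩⟩
  obtain ⟨i, rfl⟩ : a ∈ zpowers y := h ▸ mem_top a
  obtain ⟨j, rfl⟩ : b ∈ zpowers y := h ▸ mem_top b
  exact zpow_mul_comm y i j

theorem apply_mem_zpowers {K : Type*} [Group K] {s : MulAut K} {y t x : K} (h : s y ∈ zpowers t) (hx : x ∈ zpowers y) :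
    s x ∈ zpowers t := by
  obtain ⟨i, rfl⟩ := hx
  rw [map_zpow]
  exact zpow_mem h i

/-- a cyclic TI-subgroup with its dihedral normalizer -/
structure Tor {K : Type*} [Group K] (t : K) (D : Subgroup K) (m : ℕ) : Prop where
  ord : orderOf t = m
  mem : t ∈ D
  card : Nat.card D ≤ 2 * m
  out : ∀ g ∈ D, g ∈ zpowers t ∨ g * g = 1
  ti : ∀ g, g ∉ D → ∀ x ∈ zpowers t, g⁻¹ * x * g ∈ zpowers t → x = 1
  ne_top : D ≠ ⊤

theorem Tor.map {K : Type*} [Group K] {t : K} {D : Subgroup K} {m : ℕ} (h : Tor t D m) (φ : MulAut K) :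
    Tor (φ t) (D.map φ.toMonoidHom) m where
  ord := (φ.orderOf_eq t).trans h.ord
  mem := mem_map_of_mem _ h.mem
  card := by rw [card_map_of_injective φ.injective]; exact h.card
  out := by
    rintro _ ⟨g, hg, rfl⟩
    rcases h.out g hg with h1 | h1
    · exact Or.inl (apply_mem_zpowers (mem_zpowers _) h1)
    · exact Or.inr ((map_mul φ g g).symm.trans (by rw [h1, map_one]))
  ti := by
    intro g hg x hx hgx
    obtain ⟨g, rfl⟩ := φ.surjective g
    obtain ⟨x, rfl⟩ := φ.surjective x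
    have key : ∀ y, φ y ∈ zpowers (φ t) → y ∈ zpowers t := fun y hy => by
      have := apply_mem_zpowers (s := φ⁻¹) (t := t) (by rw [MulAut.inv_apply_self]; exact mem_zpowers t) hy
      rwa [MulAut.inv_apply_self] at this
    rw [← map_inv, ← map_mul, ← map_mul] at hgx
    rw [h.ti g (fun h1 => hg (mem_map_of_mem _ h1)) x (key _ hx) (key _ hgx), map_one]
  ne_top := fun h1 => h.ne_top (by
    rw [eq_top_iff]
    intro x _
    exact (mem_map_iff_mem φ.injective).1 (h1 ▸ mem_top _))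

variable {p : ℕ} {K : Type*} [Group K] {Q h N : ℕ}

namespace TI

variable (H : TI p K Q h N)
include H

variable [Fact p.Prime] [Finite K] [IsSimpleGroup K]

theorem free_of_coprime {t : K} (hc : (orderOf t).Coprime (Q * h)) {c : K} (hct : c ∈ zpowers t) {P : Sylow p K}
    (hP : c • P = P) : c = 1 := by
  have h1 : orderOf c ∣ Q * h := H.card_stab P ▸ orderOf_dvd_natCard (stabilizer K P) hP
  have h2 : orderOf c ∣ orderOf t := orderOf_dvd_of_mem_zpowers hct
  exact orderOf_eq_one_iff.1 (Nat.eq_one_of_dvd_coprimes hc h2 h1)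

/-- the centralizer of a large fixed point free element acts freely -/
theorem semi {t : K} (hc : (orderOf t).Coprime (Q * h)) (h1 : t ≠ 1) (hk : ∀ k < N, p ^ k + 1 < orderOf t)
    {β : MulAut K} (hβ : β t = t) {P : Sylow p K} (hP : β • P = P) : β = 1 := by
  classical
  have := H.finite_sylow
  by_contra hβ1
  have hfix : ∀ c ∈ zpowers t, β • c • P = c • P := fun c hct => by
    rw [smul_smul_sylow, hP, (zpowers_le.2 (show t ∈ fixS β from hβ)) hct]
  have hne : t • P ≠ P := fun h2 => h1 (H.free_of_coprime hc (mem_zpowers t) h2)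
  obtain ⟨k, hkN, h2, -⟩ := H.two_fix hβ1 hne hP (hfix t (mem_zpowers t))
  rw [← H.card_fixed hne hP (hfix t (mem_zpowers t))] at h2
  have h3 : Nat.card (zpowers t) ≤ Nat.card (Option {P' : Sylow p K // P' ≠ P ∧ β • P' = P'}) := by
    refine Nat.card_le_card_of_injective
      (fun c => if h4 : (c : K) • P = P then none else some ⟨(c : K) • P, h4, hfix c c.2⟩) fun c c' hcc => ?_
    have h5 : (c : K) • P = (c' : K) • P := by
      by_cases a : (c : K) • P = P <;> by_cases a' : (c' : K) • P = P <;> simp only [a, a', dite_true, dite_false] at hcc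
      · rw [a, a']
      · cases hcc
      · cases hcc
      · exact congrArg Subtype.val (Option.some.inj hcc)
    have h6 := H.free_of_coprime hc (mul_mem (inv_mem c'.2) c.2) (P := P) (by rw [mul_smul, h5, inv_smul_smul])
    exact Subtype.ext (inv_mul_eq_one.1 h6).symm
  rw [Finite.card_option, h2, Nat.card_zpowers] at h3
  have := hk k hkN
  omega

/-- **The normalizer of a non-split torus.** -/
theorem good_of_tor (hK : ¬ IsMulCommutative K) {S : Subgroup (MulAut K)} (hS : Group.IsSolvable S)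
    (hm : MaxInv (InnG K) S) {t : K} {D : Subgroup K} {m : ℕ} (hT : Tor t D m) {y : K} (hy : y ∈ zpowers t)
    (hy1 : y ≠ 1) (hSy : ∀ s ∈ S, s y ∈ zpowers y) (h3 : 3 ≤ m) (hc : m.Coprime (Q * h)) (hQ : Q + 1 ≤ 2 * m)
    (hk : ∀ k < N, p ^ k + 1 < m) (h7 : 14 * m ≤ Nat.card K) : Good (InnG K) S := by
  have := H.finite_sylow
  have hinv : ∀ s ∈ S, ∀ x ∈ zpowers y, s x ∈ zpowers y := fun s hs x hx => apply_mem_zpowers (hSy s hs) hx
  have hRD : innS S ≤ D := fun g hg => by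
    by_contra hgD
    refine hy1 (hT.ti g hgD y hy (zpowers_le.2 hy ?_))
    have h1 := hSy _ (inv_mem hg)
    simpa using h1
  have htR : zpowers t ≤ innS S := by
    refine le_trans ?_ (norm_le_innS hK hm (zpowers_ne_bot.2 hy1) (zpowers_ne_top hK y) hinv)
    refine le_normalizer_of_conj fun s hs x hx => ?_
    obtain ⟨i, rfl⟩ := hs
    obtain ⟨j, hj⟩ := zpowers_le.2 hy hx
    have e : t ^ i * x * (t ^ i)⁻¹ = x := by
      rw [← hj]
      group
    exact e.symm ▸ hx
  have ht2 : t * t ≠ 1 := fun h1 => by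
    have h2 := Nat.le_of_dvd (by norm_num) (orderOf_dvd_of_pow_eq_one (x := t) (n := 2) (by rwa [pow_two]))
    rw [hT.ord] at h2
    omega
  have ht1 : t ≠ 1 := fun h1 => ht2 (by rw [h1, mul_one])
  have hSt : ∀ s ∈ S, s t ∈ zpowers t := fun s hs =>
    (hT.out _ (hRD (apply_mem_innS hs (htR (mem_zpowers t))))).resolve_right fun h1 =>
      ht2 (s.injective (by rw [map_mul, h1, map_one]))
  obtain ⟨x, hxD, hx⟩ : ∃ x : K, x ∉ D ∧ ∀ c ∈ zpowers t, c * c = 1 → c ≠ 1 → x⁻¹ * c * x ∉ D := by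
    by_cases h1 : ∃ z ∈ zpowers t, z * z = 1 ∧ z ≠ 1
    · obtain ⟨z, hz, hz2, hz1⟩ := h1
      obtain ⟨x, hx⟩ := exists_conj_not_mem' hT.ne_top hz1
      exact ⟨x, fun h2 => hx (mul_mem (mul_mem (inv_mem h2) (zpowers_le.2 hT.mem hz)) h2),
        fun c a1 a2 a3 => eq_of_sq_cyclic a1 hz a2 hz2 a3 hz1 ▸ hx⟩
    · obtain ⟨x, hx⟩ : ∃ x : K, x ∉ D := by
        by_contra h2
        push Not at h2
        exact hT.ne_top (eq_top_iff' _ |>.2 h2)
      exact ⟨x, hx, fun c a1 a2 a3 => absurd ⟨c, a1, a2, a3⟩ h1⟩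
  let M : Subgroup (MulAut K) := (zpowers t).map MulAut.conj
  have hMS : M ≤ S := by
    rintro _ ⟨c, hc, rfl⟩
    exact htR hc
  have hMn : ∀ s ∈ S, ∀ v ∈ M, s * v * s⁻¹ ∈ M := by
    rintro s hs _ ⟨c, hc, rfl⟩
    exact ⟨s c, apply_mem_zpowers (hSt s hs) hc, (conj_conj s c).symm⟩
  have hxM : ∀ v ∈ M, (MulAut.conj x)⁻¹ * v * MulAut.conj x ∈ S → v = 1 := by
    rintro _ ⟨c, hc, rfl⟩ h1
    rw [← map_inv, ← map_mul, ← map_mul] at h1
    have h2 := hRD h1
    have h4 : c = 1 := by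
      rcases hT.out _ h2 with h5 | h5
      · exact hT.ti x hxD c hc h5
      · by_contra h6
        refine hx c hc ?_ h6 h2
        have e : x⁻¹ * c * x * (x⁻¹ * c * x) = x⁻¹ * (c * c) * x⁻¹⁻¹ := by group
        exact conj_eq_one_iff.1 (e ▸ h5)
    rw [h4, map_one]
  have hv : MulAut.conj t ∈ M := ⟨t, mem_zpowers t, rfl⟩
  refine good_of_four hK (four_of_card_le_three (as_inn hK) ((as_inn hK).not_le hS) (x := MulAut.conj x)
    (y := MulAut.conj t * MulAut.conj x * (MulAut.conj t)⁻¹) ⟨x, rfl⟩ ((innG_normal K).conj_mem _ ⟨x, rfl⟩ _) ?_)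
    (le_trans (Nat.mul_le_mul_left _ ((card_le_of_le hRD).trans hT.card)) (by omega))
  set E := S ⊓ cjS S (MulAut.conj x) ⊓ cjS S (MulAut.conj t * MulAut.conj x * (MulAut.conj t)⁻¹) with hE
  have hEt : ∀ k ∈ E, k t = t := fun k hk => by
    have h1 := trick_key hMS hMn hxM hv hv hk.1.1 (mem_cjS.1 hk.1.2) (mem_cjS.1 hk.2)
    rw [conj_conj] at h1
    exact conj_injective hK h1
  obtain ⟨P⟩ : Nonempty (Sylow p K) := inferInstance
  have h1 : Nat.card (zpowers t × E) ≤ Nat.card (Sylow p K) := by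
    refine Nat.card_le_card_of_injective (fun z => (z.1 : K) • (z.2 : MulAut K) • P) ?_
    rintro ⟨c, k⟩ ⟨c', k'⟩ hck
    have h2 : (c : K) • (k : MulAut K) • P = (c' : K) • (k' : MulAut K) • P := hck
    have h4 : (c' : K)⁻¹ * c ∈ zpowers t := mul_mem (inv_mem c'.2) c.2
    have h5 := H.semi (hT.ord ▸ hc) ht1 (hT.ord ▸ hk) (β := (k' : MulAut K)⁻¹ * MulAut.conj ((c' : K)⁻¹ * c) * k)
      (by
        obtain ⟨j, hj⟩ := h4
        rw [MulAut.mul_apply, MulAut.mul_apply, hEt k k.2, ← hj, MulAut.conj_apply]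
        have e : t ^ j * t * (t ^ j)⁻¹ = t := by group
        rw [e]
        exact hEt _ (inv_mem k'.2)) (P := P) (by
        rw [mul_smul, mul_smul, inv_smul_eq_iff]
        change ((c' : K)⁻¹ * c) • (k : MulAut K) • P = _
        rw [mul_smul, h2, inv_smul_smul])
    have h6 : MulAut.conj ((c' : K)⁻¹ * c) = (k' : MulAut K) * (k : MulAut K)⁻¹ := by
      rw [eq_mul_inv_iff_mul_eq, ← inv_mul_eq_one_iff_eq', ← mul_assoc]
      exact h5
    have h8 : (k' : MulAut K) * (k : MulAut K)⁻¹ ∈ E := mul_mem k'.2 (inv_mem k.2)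
    have h7 := hxM _ ⟨_, h4, rfl⟩ (by rw [h6]; exact mem_cjS.1 h8.1.2)
    rw [h7] at h6
    have h9 : (c' : K)⁻¹ * c = 1 := conj_injective hK (h7.trans (map_one _).symm)
    exact Prod.ext (Subtype.ext (inv_mul_eq_one.1 h9).symm) (Subtype.ext (mul_inv_eq_one.1 h6.symm).symm)
  rw [Nat.card_prod, Nat.card_zpowers, hT.ord, H.count] at h1
  by_contra h2
  have h4 : m * 4 ≤ m * Nat.card E := Nat.mul_le_mul_left _ (by omega)
  omega
where
  inv_mul_eq_one_iff_eq' {a b : MulAut K} : b⁻¹ * a = 1 ↔ a = b := by rw [inv_mul_eq_one, eq_comm]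

theorem exists_swap {P₀ P₁ : Sylow p K} (hne : P₁ ≠ P₀) : ∃ w : K, w • P₀ = P₁ ∧ w • P₁ = P₀ := by
  obtain ⟨g, hg⟩ := exists_smul_eq K P₀ P₁
  have h1 : g • P₁ ≠ P₁ := fun h2 => hne (smul_left_cancel g (h2.trans hg.symm))
  obtain ⟨u, hu, h2⟩ := H.trans h1 hne.symm
  exact ⟨u * g, by rw [mul_smul, hg, smul_self_of_mem hu], by rw [mul_smul, h2]⟩

/-- if the Sylow subgroups have prime order, the two point stabilizer in `Aut K` is abelian -/
theorem comm_of_two (hQ : Q = p) {P₀ P₁ : Sylow p K} (hne : P₁ ≠ P₀) {β γ : MulAut K} (b0 : β • P₀ = P₀)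
    (b1 : β • P₁ = P₁) (c0 : γ • P₀ = P₀) (c1 : γ • P₁ = P₁) : β * γ = γ * β := by
  obtain ⟨u, hu, hu1⟩ := H.exists_ne_one P₀
  have h1 : zpowers u = P₀ := by
    have h2 := zpowers_eq_top_of_prime_card (G := P₀) (p := p) ((H.cardP P₀).trans hQ) (g := ⟨u, hu⟩)
      fun h3 => hu1 (congrArg Subtype.val h3)
    have h3 := congrArg (map (P₀ : Subgroup K).subtype) h2
    rwa [MonoidHom.map_zpowers, ← MonoidHom.range_eq_map, range_subtype] at h3
  have key : ∀ δ : MulAut K, δ • P₀ = P₀ → ∃ i : ℤ, δ u = u ^ i := fun δ hδ => by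
    have h2 := apply_mem_smul δ hu
    rw [hδ] at h2
    obtain ⟨i, hi⟩ : δ u ∈ zpowers u := h1 ▸ h2
    exact ⟨i, hi.symm⟩
  obtain ⟨i, hi⟩ := key β b0
  obtain ⟨j, hj⟩ := key γ c0
  rw [← inv_mul_eq_one]
  refine H.eq_one_of_cent hne (by rw [mul_smul, inv_smul_eq_iff, mul_smul, mul_smul, b1, c1, b1]) fun v hv => ?_
  have h2 : u ∈ fixS ((β * γ)⁻¹ * (γ * β)) := by
    rw [mem_fixS, MulAut.mul_apply, MulAut.inv_apply, MulEquiv.symm_apply_eq, MulAut.mul_apply, MulAut.mul_apply, hi,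
      hj, map_zpow, map_zpow, hi, hj, ← zpow_mul, ← zpow_mul, mul_comm]
  exact zpowers_le.2 h2 (h1 ▸ hv)

/-- centralizers of automorphisms when the Sylow subgroups have prime order -/
theorem fix_le_of_odd (hf : Fpf p K) (hK : ¬ IsMulCommutative K) (hQ : Q = p) (hN : N = 1) {α : MulAut K} (hα : α ≠ 1)
    {t : K} (ht : t ∈ fixS α) (hp : (orderOf t).Prime) (hp' : orderOf t ≠ p) (hd : ¬ orderOf t ∣ Q + 1)
    (hodd : Odd (Nat.card (centralizer ({t} : Set K)))) : Nat.card (fixS α) ≤ 2 * h := by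
  have := H.finite_sylow
  have ho : orderOf (MulAut.conj t) = orderOf t := orderOf_injective _ (conj_injective hK) t
  obtain ⟨P₀, h0⟩ := H.exists_first (α := MulAut.conj t) (ho ▸ hp) (ho ▸ hd)
  obtain ⟨P₁, hne, h1⟩ := H.exists_second (α := MulAut.conj t) (ho ▸ hp) (ho ▸ hp') h0
  have key : ∀ P : Sylow p K, t • P = P → α • P = P₀ ∨ α • P = P₁ := fun P hP => by
    refine H.fix_le_two hf hne (ne_one_of_prime' hp) h0 h1 ?_
    have h2 := smul_smul_sylow α t P
    rw [hP, mem_fixS.1 ht] at h2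
    exact h2.symm
  rcases key P₀ h0 with a0 | a0
  · have a1 : α • P₁ = P₁ := (key P₁ h1).resolve_left fun h2 => hne (smul_left_cancel α (h2.trans a0.symm))
    obtain ⟨k, hk, h2, -⟩ := H.two_fix hα hne a0 a1
    rw [show k = 0 by omega, pow_zero, ← H.card_fixed hne a0 a1] at h2
    have h3 := (Nat.card_eq_one_iff_unique.1 h2).1
    have h4 : ∀ g ∈ fixS α, ∀ P : Sylow p K, α • P = P → g • P = P₀ ∨ g • P = P₁ := fun g hg P hP => by
      by_cases h5 : g • P = P₀
      · exact Or.inl h5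
      · exact Or.inr (congrArg Subtype.val (h3.elim ⟨g • P, h5, by rw [smul_smul_sylow, mem_fixS.1 hg, hP]⟩
          ⟨P₁, hne, a1⟩))
    refine (card_le_two_mul _ fun g hg => h4 g hg P₀ a0).trans (Nat.mul_le_mul_left _ ?_)
    rw [← H.card_two hne]
    refine card_le_of_le fun g hg => ⟨hg.2, (h4 g hg.1 P₁ a1).resolve_left fun h5 => hne ?_⟩
    exact smul_left_cancel g (h5.trans (show g • P₀ = P₀ from hg.2).symm)
  · exfalso
    have a1 : α • P₁ = P₀ := (key P₁ h1).resolve_right fun h2 => hne (smul_left_cancel α (h2.trans a0.symm))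
    obtain ⟨w, w0, w1⟩ := H.exists_swap hne
    have h2 := H.comm_of_two hQ hne (β := MulAut.conj w * α) (γ := MulAut.conj t)
      (by rw [mul_smul, a0]; exact w1) (by rw [mul_smul, a1]; exact w0) h0 h1
    have h3 : α * MulAut.conj t = MulAut.conj t * α := by
      rw [← mul_inv_eq_iff_eq_mul, conj_conj, mem_fixS.1 ht]
    rw [mul_assoc, h3, ← mul_assoc, ← mul_assoc, mul_left_inj, ← map_mul, ← map_mul] at h2
    have h4 : w ∈ centralizer ({t} : Set K) := mem_centralizer_singleton_iff.2 (conj_injective hK h2)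
    obtain ⟨j, hj⟩ := hodd
    have h5 : w ^ (2 * j + 1) = 1 := by
      rw [← hj]
      exact congrArg Subtype.val (pow_card_eq_one' (x := (⟨w, h4⟩ : centralizer ({t} : Set K))))
    have h6 : (w ^ 2) ^ j • P₁ = P₁ := (stabilizer K P₁).pow_mem (show w ^ 2 • P₁ = P₁ by rw [pow_two, mul_smul, w1, w0]) j
    have h7 : w ^ (2 * j + 1) • P₀ = P₁ := by rw [pow_succ, mul_smul, w0, pow_mul, h6]
    rw [h5, one_smul] at h7
    exact hne h7.symm

end TI

section four

variable [Finite K] [IsSimpleGroup K] {a b : K} (V : CommInv a b)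
  (hC : ∀ g : K, g * a = a * g → g * b = b * g → g ∈ V.four) (hK : ¬ IsMulCommutative K)
include hC hK

theorem card_le_of_pairs (Z : Set (MulAut K)) (hZ : ∀ z ∈ Z, ∀ z' ∈ Z, z⁻¹ * z' ∈ InnG K) (D : Finset (K × K))
    (hD : ∀ z ∈ Z, (z a, z b) ∈ D) : Nat.card Z ≤ D.card * 4 := by
  have h1 := card_le_of_cover (fun (d : D) (z : Z) => ((z : MulAut K) a, (z : MulAut K) b) = d)
    (fun z => ⟨⟨_, hD z z.2⟩, rfl⟩) (c := 4) (by
      intro d
      rcases isEmpty_or_nonempty {z : Z // ((z : MulAut K) a, (z : MulAut K) b) = d} with h1 | ⟨⟨z₀⟩⟩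
      · rw [Nat.card_of_isEmpty]
        exact Nat.zero_le _
      rw [← V.isKleinFour_four.card_four, ← card_map_of_injective (K := V.four) (conj_injective hK)]
      refine Nat.card_le_card_of_injective (fun z => (⟨(z₀.1 : MulAut K)⁻¹ * z.1, ?_⟩ : V.four.map MulAut.conj)) ?_
      · obtain ⟨g, hg⟩ := hZ _ z₀.1.2 _ z.1.2
        have h2 := z.2.trans z₀.2.symm
        have h3 : ∀ x : K, (z.1 : MulAut K) x = (z₀.1 : MulAut K) x → g * x = x * g := fun x hx => by
          have h4 : MulAut.conj g x = x := by rw [hg, MulAut.mul_apply, hx, MulAut.inv_apply_self]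
          exact mul_inv_eq_iff_eq_mul.1 h4
        exact ⟨g, hC g (h3 a (congrArg Prod.fst h2)) (h3 b (congrArg Prod.snd h2)), hg⟩
      · intro z z' hz
        exact Subtype.ext (Subtype.ext (mul_left_cancel (congrArg Subtype.val hz))))
  rwa [Nat.card_eq_fintype_card (α := D), Fintype.card_coe] at h1

variable {S : Subgroup (MulAut K)} (hS : ∀ s ∈ S, ∀ y ∈ V.four, s y ∈ V.four)
include hS

omit hC hK in
theorem pair_cases {s : MulAut K} (hs : s ∈ S) : (s a = a ∧ s b = b) ∨ (s a = a ∧ s b = a * b) ∨ (s a = b ∧ s b = a) ∨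
    (s a = a * b ∧ s b = b) ∨ (s a = b ∧ s b = a * b) ∨ (s a = a * b ∧ s b = a) := by
  have h1 : s a ≠ 1 := fun h => V.hx (s.injective (h.trans (map_one s).symm))
  have h2 : s b ≠ 1 := fun h => V.hy (s.injective (h.trans (map_one s).symm))
  have h3 : s a ≠ s b := fun h => V.hxy (s.injective h)
  rcases V.mem_four.1 (hS s hs a (V.mem_four.2 (by simp))) with a1 | a1 | a1 | a1 <;>
    rcases V.mem_four.1 (hS s hs b (V.mem_four.2 (by simp))) with a2 | a2 | a2 | a2 <;>
    first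
    | exact absurd a1 h1
    | exact absurd a2 h2
    | exact absurd (a1.trans a2.symm) h3
    | simp only [a1, a2, and_self, true_or, or_true]

theorem card_innS_le : Nat.card (innS S) ≤ 24 := by
  classical
  rw [← card_innS hK]
  refine (card_le_of_pairs V hC hK ((S ⊓ InnG K : Subgroup (MulAut K)) : Set (MulAut K))
    (fun z hz z' hz' => mul_mem (inv_mem hz.2) hz'.2)
    {(a, b), (a, a * b), (b, a), (a * b, b), (b, a * b), (a * b, a)} fun z hz => ?_).trans ?_
  · simpa only [Finset.mem_insert, Finset.mem_singleton, Prod.mk.injEq] using pair_cases V hS hz.1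
  · exact Nat.mul_le_mul_right 4 Finset.card_le_six

theorem meet_le_sixteen {c : MulAut K} (hc : c * c = 1) : meet (InnG K) S c ≤ 16 := by
  classical
  have h1 := card_le_of_pairs V hC hK {z : MulAut K | z ∈ S ∧ ∃ x ∈ InnG K, x⁻¹ * c * x = z} (by
      rintro _ ⟨-, x, hx, rfl⟩ _ ⟨-, y, hy, rfl⟩
      have h1 := (innG_normal K).conj_mem _ (mul_mem hx (inv_mem hy)) c⁻¹
      have e : (x⁻¹ * c * x)⁻¹ * (y⁻¹ * c * y) = x⁻¹ * (c⁻¹ * (x * y⁻¹) * c⁻¹⁻¹) * y := by group
      rw [e]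
      exact mul_mem (mul_mem (inv_mem hx) h1) hy)
    {(a, b), (a, a * b), (b, a), (a * b, b)} (by
      rintro z ⟨hz, x, -, hx⟩
      have h1 : ∀ y, z (z y) = y := fun y => by
        have e : z * z = x⁻¹ * (c * c) * x := by rw [← hx]; group
        rw [← MulAut.mul_apply, e, hc, mul_one, inv_mul_cancel, MulAut.one_apply]
      simp only [Finset.mem_insert, Finset.mem_singleton, Prod.mk.injEq]
      rcases pair_cases V hS hz with h2 | h2 | h2 | h2 | h2 | h2
      · exact Or.inl h2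
      · exact Or.inr (Or.inl h2)
      · exact Or.inr (Or.inr (Or.inl h2))
      · exact Or.inr (Or.inr (Or.inr h2))
      · have h3 := h1 a
        rw [h2.1, h2.2] at h3
        exact absurd (mul_eq_left.1 h3) V.hy
      · have h3 := h1 b
        rw [h2.2, h2.1] at h3
        exact absurd (mul_eq_right.1 h3) V.hx)
  refine le_trans (le_of_eq ?_) (h1.trans (Nat.mul_le_mul_right 4 Finset.card_le_four))
  exact Nat.card_congr ⟨fun y => ⟨y.1.1, y.1.2, y.2⟩, fun z => ⟨⟨z.1, z.2.1⟩, z.2.2⟩, fun _ => rfl, fun _ => rfl⟩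

end four

theorem seven_of_weight {A : Type*} [Group A] [Finite A] {T S : Subgroup A} (w : ℚ) {s r : ℕ}
    (hw : ∀ c ∈ S, (orderOf c).Prime → (meet T S c : ℚ) ≤ w * cls T c) (hs : Nat.card S ≤ s)
    (hr : Nat.card ↥(S ⊓ T) ≤ r) (h : s * w ^ 4 * (Nat.card T : ℚ) ^ 4 + 6 * s * (r : ℚ) ^ 4 < (Nat.card T : ℚ) ^ 4) :
    Seven T S := by
  refine seven_of_sum (fun _ => w) hw (lt_of_le_of_lt ?_ h)
  rw [Finset.sum_const, nsmul_eq_mul]
  have h1 : ((primeElts S).card : ℚ) ≤ s := by exact_mod_cast (card_primeElts_lt S).le.trans hs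
  have h2 : (Nat.card S : ℚ) ≤ s := by exact_mod_cast hs
  have h3 : (Nat.card ↥(S ⊓ T) : ℚ) ≤ r := by exact_mod_cast hr
  have h4 : 0 ≤ w ^ 4 := by positivity
  gcongr

/-- seven points -/
theorem four_of_seven_points [Finite K] [IsSimpleGroup K] (hK : ¬ IsMulCommutative K) (hA : Nat.card (MulAut K) < 2520)
    {S : Subgroup (MulAut K)} {Y : Subgroup K} (h0 : Y ≠ ⊥) (h1 : Y ≠ ⊤) (hY : ∀ s ∈ S, ∀ y ∈ Y, s y ∈ Y)
    (h7 : (normalizer (Y : Set K)).index = 7) : Four (InnG K) S := by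
  classical
  have hSY : ∀ s ∈ S, s • Y = Y := fun s hs => by
    refine eq_of_le_of_card_ge ?_ (card_map_of_injective (f := s.toMonoidHom) s.injective).ge
    rintro _ ⟨y, hy, rfl⟩
    exact hY s hs y hy
  let L : Subgroup (MulAut K) := InnG K ⊔ stabilizer (MulAut K) Y
  have hn := innG_normal K
  have horb : ∀ Z : orbit L Y, ∃ x ∈ InnG K, x • Y = Z.1 := by
    rintro ⟨_, ⟨l, hl⟩, rfl⟩
    obtain ⟨x, hx, s, hs, rfl⟩ := mem_sup_of_normal_left.1 hl
    exact ⟨x, hx, by change x • Y = (x * s) • Y; rw [mul_smul, hs]⟩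
  have hcard : Nat.card (orbit L Y) = 7 := by
    have e : orbit L Y = orbit (ConjAct K) Y := by
      ext Z
      constructor
      · intro hZ
        obtain ⟨_, ⟨x, rfl⟩, hx⟩ := horb ⟨Z, hZ⟩
        exact ⟨ConjAct.toConjAct x, hx⟩
      · rintro ⟨x, rfl⟩
        exact ⟨⟨MulAut.conj (ConjAct.ofConjAct x), mem_sup_left ⟨_, rfl⟩⟩, rfl⟩
    rw [e, Nat.card_coe_set_eq, ← index_stabilizer, ← h7]
    have e2 : (stabilizer (ConjAct K) Y).comap (ConjAct.toConjAct (G := K)).toMonoidHom = normalizer (Y : Set K) := by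
      ext x
      exact conjAct_pointwise_smul_iff
    rw [← e2]
    exact (index_comap_of_surjective _ (f := (ConjAct.toConjAct (G := K)).toMonoidHom)
      ConjAct.toConjAct.surjective).symm
  have hfin : Finite (orbit L Y) := Nat.finite_of_card_ne_zero (by omega)
  have := Fintype.ofFinite (orbit L Y)
  let e : Fin 7 ≃ orbit L Y := (Finite.equivFinOfCardEq hcard).symm
  choose x hx hxe using fun i : Fin 4 => horb (e (Fin.castLE (by norm_num) i))
  refine four_of_four hx fun s hs => ?_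
  have hsL : s ∈ L := by
    have h2 : (x 0)⁻¹ * s * x 0 ∈ L := mem_sup_right (hSY _ (hs 0))
    have h3 := mul_mem (mul_mem (mem_sup_left (hx 0) : x 0 ∈ L) h2) (inv_mem (mem_sup_left (hx 0) : x 0 ∈ L))
    have e' : x 0 * ((x 0)⁻¹ * s * x 0) * (x 0)⁻¹ = s := by group
    rwa [e'] at h3
  let σ := toPermHom L (orbit L Y)
  have hfix : ∀ i : Fin 4, σ ⟨s, hsL⟩ (e (Fin.castLE (by norm_num) i)) = e (Fin.castLE (by norm_num) i) := fun i => by
    apply Subtype.ext
    change s • (e (Fin.castLE (by norm_num) i)).1 = _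
    have h2 := hSY _ (hs i)
    rw [mul_smul, mul_smul, inv_smul_eq_iff] at h2
    rw [← hxe, h2]
  have hsupp : (σ ⟨s, hsL⟩).support.card ≤ 3 := by
    have h2 : (σ ⟨s, hsL⟩).support ⊆ {e 4, e 5, e 6} := by
      intro Z hZ
      obtain ⟨j, rfl⟩ := e.surjective Z
      rw [Equiv.Perm.mem_support] at hZ
      fin_cases j
      · exact absurd (hfix 0) hZ
      · exact absurd (hfix 1) hZ
      · exact absurd (hfix 2) hZ
      · exact absurd (hfix 3) hZ
      all_goals simp
    exact (Finset.card_le_card h2).trans Finset.card_le_three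
  have htr : IsPretransitive σ.range (orbit L Y) := ⟨fun Z Z' => by
    obtain ⟨l, hl⟩ := exists_smul_eq L Z Z'
    exact ⟨⟨σ l, l, rfl⟩, hl⟩⟩
  have hprim : IsPreprimitive σ.range (orbit L Y) := IsPreprimitive.of_prime_card (by rw [hcard]; norm_num)
  have hlt : ¬ alternatingGroup (orbit L Y) ≤ σ.range := fun h2 => by
    have h3 := card_le_of_le h2
    have h4 : Nat.card σ.range ≤ Nat.card (MulAut K) :=
      (Nat.card_le_card_of_surjective _ σ.rangeRestrict_surjective).trans (card_le_card_group L)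
    have : Nontrivial (orbit L Y) := Finite.one_lt_card_iff_nontrivial.1 (by omega)
    have h5 := two_mul_nat_card_alternatingGroup (α := orbit L Y)
    rw [Nat.card_perm, hcard, show Nat.factorial 7 = 5040 from rfl] at h5
    omega
  have h2 : σ ⟨s, hsL⟩ = 1 := by
    have h3 := Equiv.Perm.card_support_ne_one (σ ⟨s, hsL⟩)
    have h4 : (σ ⟨s, hsL⟩).support.card ≠ 2 := fun h5 => hlt (by
      rw [Equiv.Perm.subgroup_eq_top_of_isPreprimitive_of_isSwap_mem hprim _ (Equiv.Perm.card_support_eq_two.1 h5)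
        ⟨_, rfl⟩]
      exact le_top)
    have h5 : (σ ⟨s, hsL⟩).support.card ≠ 3 := fun h6 => hlt
      (Equiv.Perm.alternatingGroup_le_of_isPreprimitive_of_isThreeCycle_mem hprim
        (card_support_eq_three_iff.1 h6) ⟨_, rfl⟩)
    exact Equiv.Perm.card_support_eq_zero.1 (by omega)
  by_contra hs1
  obtain ⟨z, hz, h3⟩ := exists_conj_not_mem (as_inn hK) (S := stabilizer (MulAut K) Y) (fun h4 => by
    have hN : Y.Normal := ⟨fun y hy g => by
      have h5 := smul_mem_pointwise_smul y (MulAut.conj g) Y hy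
      rwa [show MulAut.conj g • Y = Y from h4 ⟨g, rfl⟩] at h5⟩
    exact hN.eq_bot_or_eq_top.elim h0 h1) hs1
  apply h3
  have h4 := congrArg Subtype.val (DFunLike.congr_fun h2 ⟨z • Y, ⟨z, mem_sup_left hz⟩, rfl⟩)
  rw [mem_stabilizer_iff, mul_smul, mul_smul, inv_smul_eq_iff]
  exact h4

end Cfsg.Agent.SB.R1
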