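import Cfsg.Agent.SB.R1.L2
import Cfsg.Agent.S0253
import Cfsg.Agent.S0254

/-!
# S5765: the row of `PSL₂(q)` (helper61)
-/

set_option autoImplicit false
set_option linter.unusedSectionVars false

namespace Cfsg.Agent.SB.R1

open Subgroup MulAction Cfsg Cfsg.Agent.H786.FC Cfsg.Agent.ClassicalGeometry Cfsg.Agent.ClassicalGeometry.KleinCount

variable {F : Type} [Field F] [Fintype F] {p n q d m h : ℕ} [Fact p.Prime] [CharP F p]

namespace Par

variable (P : Par F p n q d m h)
include P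

/-- the class sizes -/
theorem idx (hp : p ≠ 2) {g : PL F} (hg : g ≠ 1) :
    ∃ i, Nat.card (centralizer ({g} : Set (PL F))) * i = q * ((q + 1) * h) ∧
      (i = (q ^ 2 - 1) / 2 ∨ (q % 4 = 1 ∧ i = q * (q + 1) / 2) ∨ (q % 4 = 3 ∧ i = q * (q - 1) / 2) ∨
        i = q * (q - 1) ∨ i = q * (q + 1)) := by
  have := P.simple
  have h1 := index_centralizer_ne_one P.noncomm hg
  obtain ⟨k, hk⟩ := P.odd hp
  have h2 := S2508.result (F := F) (by rw [P.card]; omega) (by rw [P.card]; exact P.big)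
  rw [P.card] at h2
  refine ⟨_, (card_mul_index _).trans P.ord, ?_⟩
  have h3 : (centralizer ({g} : Set (PL F))).index ∈
      Set.range fun g : PL F => (centralizer ({g} : Set (PL F))).index := ⟨g, rfl⟩
  rcases (by omega : q % 4 = 1 ∨ q % 4 = 3) with h4 | h4
  · rw [h2.1 h4] at h3
    simp only [Set.mem_insert_iff, Set.mem_singleton_iff] at h3
    tauto
  · rw [h2.2 h4] at h3
    simp only [Set.mem_insert_iff, Set.mem_singleton_iff] at h3
    tauto

theorem prime_case (hq : q.Prime) : p = q ∧ n = 1 := hq.pow_eq_iff.1 P.pow.symm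

/-- `q` prime -/
theorem fix_prime (hp : p ≠ 2) (hq : q.Prime) {α : MulAut (PL F)} (hα : α ≠ 1) :
    Nat.card (fixS α) ∣ q * ((q + 1) * h) ∧
    (Nat.card (fixS α) ≤ q + 1 ∨ Nat.card (fixS α) = 12 ∨ Nat.card (fixS α) = 24 ∨ Nat.card (fixS α) = 60) := by
  refine ⟨P.ord ▸ card_subgroup_dvd_card _, ?_⟩
  rcases P.fix_cases hp hα with h1 | h1 | h1 | h1 | ⟨k, h1, h2, -⟩
  · exact Or.inl h1
  · exact Or.inr (Or.inl h1)
  · exact Or.inr (Or.inr (Or.inl h1))
  · exact Or.inr (Or.inr (Or.inr h1))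
  · have := (P.prime_case hq).2
    omega

theorem fix_odd (hq : q.Prime) {α : MulAut (PL F)} (hα : α ≠ 1) {l : ℕ} (hl : l.Prime) (hlq : l ≠ q)
    (hd : ¬ l ∣ q + 1) (h1 : l ∣ Nat.card (fixS α))
    (h2 : ∀ t : PL F, t ≠ 1 → l ∣ Nat.card (centralizer ({t} : Set (PL F))) →
      Odd (Nat.card (centralizer ({t} : Set (PL F))))) : Nat.card (fixS α) ≤ 2 * h := by
  have := H452.FprPsl2.pfin (F := F)
  have := P.simple
  have : Fact l.Prime := ⟨hl⟩
  obtain ⟨e1, e2⟩ := P.prime_case hq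
  obtain ⟨t, ht⟩ := exists_prime_orderOf_dvd_card' l h1
  have ht' : orderOf (t : PL F) = l := by rw [orderOf_coe, ht]
  refine P.ti.fix_le_of_odd P.fpf P.noncomm e1.symm e2 hα t.2 (ht' ▸ hl) (by rw [ht', e1]; exact hlq) (ht' ▸ hd)
    (h2 t (ne_one_of_prime' (ht' ▸ hl)) ?_)
  exact ht' ▸ orderOf_dvd_natCard _ (mem_centralizer_singleton_iff.2 rfl)

/-- `S` normalizes a four-group -/
theorem good_four (hp : p ≠ 2) (h9 : q ≠ 9) {S : Subgroup (MulAut (PL F))} (hm : MaxInv (InnG (PL F)) S)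
    {a b : PL F} (V : CommInv a b) (hS : ∀ s ∈ S, ∀ y ∈ V.four, s y ∈ V.four) : Good (InnG (PL F)) S := by
  have := H452.FprPsl2.pfin (F := F)
  have := P.simple
  have hK := P.noncomm
  have hpp : p.Prime := Fact.out
  have h2 : (2 : F) ≠ 0 := fun h1 => hp ((Nat.prime_dvd_prime_iff_eq hpp Nat.prime_two).1
    ((CharP.cast_eq_zero_iff F p 2).1 (by exact_mod_cast h1)))
  have hC := four_cent h2 V
  have hR := card_innS_le V hC hK hS
  have hord := P.ord
  have hout := P.out
  have e1 := P.hm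
  have e2 := P.hh
  have h7 := P.big
  have hn := P.n_ne
  obtain rfl : d = 2 := (P.cases.resolve_left fun h1 => hp h1.2).1
  have hV : Nat.card V.four = 4 := V.isKleinFour_four.card_four
  have hV0 : V.four ≠ ⊥ := fun h1 => by rw [h1, card_bot] at hV; omega
  have hV1 : V.four ≠ ⊤ := fun h1 => by
    rw [h1, card_top, hord] at hV
    have h3 : 7 * (1 * 1) ≤ q * ((q + 1) * h) := Nat.mul_le_mul h7 (Nat.mul_le_mul (by omega) (by omega))
    omega
  have hN : innS S = normalizer (V.four : Set (PL F)) := le_antisymm (innS_le_norm hS) (norm_le_innS hK hm hV0 hV1 hS)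
  have hR4 : 4 ∣ Nat.card (innS S) := by
    rw [← hV, hN]
    exact card_dvd_of_le le_normalizer
  have hRK : Nat.card (innS S) ∣ q * ((q + 1) * h) := hord ▸ card_subgroup_dvd_card _
  have hp3 : 3 ≤ p := by have := hpp.two_le; omega
  have h3n : 3 ^ n ≤ q := P.pow ▸ Nat.pow_le_pow_left hp3 n
  have hfix := fun α : MulAut (PL F) => fun hα : (orderOf α).Prime => P.fix_cases hp (ne_one_of_prime' hα)
  rcases Nat.lt_or_ge q 49 with h49 | h49
  swap
  · have h8 : 8 * n ≤ q := by
      rcases Nat.lt_or_ge n 3 with h3 | h3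
      · omega
      · exact (eight_mul_le n h3).trans h3n
    have hq3 : 49 * 49 * q ≤ q ^ 3 := by
      rw [pow_succ, pow_two]
      exact Nat.mul_le_mul_right _ (Nat.mul_le_mul h49 h49)
    refine good_of_fix4 hK hR hout.le (M := 3 * q) (fun α _ hα => ?_) ?_ ?_
    · have h3 : Nat.card (fixS α) ^ 2 ≤ q ^ 3 := by
        have h4 : ∀ c : ℕ, c ≤ q + 11 → c ^ 2 ≤ q ^ 3 := fun c hc => by
          have h5 : c ^ 2 ≤ (2 * q) ^ 2 := Nat.pow_le_pow_left (by omega) 2
          have h6 : 4 * q ^ 2 ≤ q * q ^ 2 := Nat.mul_le_mul_right _ (by omega)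
          calc c ^ 2 ≤ 4 * q ^ 2 := by rw [mul_pow] at h5; exact h5
            _ ≤ q * q ^ 2 := h6
            _ = q ^ 3 := by ring
        rcases hfix α hα with h5 | h5 | h5 | h5 | ⟨k, -, -, h5, h6⟩
        · exact h4 _ (by omega)
        · exact h4 _ (by omega)
        · exact h4 _ (by omega)
        · exact h4 _ (by omega)
        · calc Nat.card (fixS α) ^ 2 ≤ ((p ^ k) ^ 3) ^ 2 := Nat.pow_le_pow_left (h6.trans (cube_bound _)) 2
            _ = ((p ^ k) ^ 2) ^ 3 := by ring
            _ ≤ _ := Nat.pow_le_pow_left h5 3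
      rw [hord, mul_comm 3, mul_assoc]
      refine Nat.mul_le_mul_left _ (le_of_sq_le_sq₀ ?_)
      have h4 : 7 * q ≤ 16 * h := by omega
      have h5 : (7 * q) ^ 2 ≤ (16 * h) ^ 2 := Nat.pow_le_pow_left h4 2
      have h6 : q ^ 2 ≤ (q + 1) ^ 2 := Nat.pow_le_pow_left (by omega) 2
      have h10 : 49 * q ^ 3 ≤ q * q ^ 3 := Nat.mul_le_mul_right _ h49
      refine Nat.le_of_mul_le_mul_left (c := 16 ^ 2) ?_ (by norm_num)
      calc 16 ^ 2 * (3 * Nat.card (fixS α)) ^ 2 = (16 ^ 2 * 9) * Nat.card (fixS α) ^ 2 := by ring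
        _ ≤ (49 * 49) * q ^ 3 := Nat.mul_le_mul (by norm_num) h3
        _ = 49 * (49 * q ^ 3) := by ring
        _ ≤ 49 * (q * q ^ 3) := Nat.mul_le_mul_left _ h10
        _ = q ^ 2 * (7 * q) ^ 2 := by ring
        _ ≤ (q + 1) ^ 2 * (16 * h) ^ 2 := Nat.mul_le_mul h6 h5
        _ = _ := by ring
    · calc 11 * (2 * n * 24 ^ 5) = (22 * 24 ^ 4 * 3) * (8 * n) := by ring
        _ ≤ (8 * 81 * (49 * 49 * 49)) * q := Nat.mul_le_mul (by norm_num) h8
        _ = (8 * 81 * q) * (49 * 49 * 49) := by ring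
        _ ≤ (8 * 81 * q) * (49 * 49 * q) := Nat.mul_le_mul_left _ (Nat.mul_le_mul_left _ h49)
        _ ≤ (8 * 81 * q) * q ^ 3 := Nat.mul_le_mul_left _ hq3
        _ = _ := by ring
    · rw [hord, ← mul_assoc, mul_comm _ q]
      exact Nat.mul_le_mul_left _ (le_trans (by norm_num) (Nat.mul_le_mul (show 6 ≤ q + 1 by omega) (show 1 ≤ h by omega)))
  have hn3 : n ≤ 3 := by
    by_contra h3
    have h4 : 3 ^ 4 ≤ 3 ^ n := Nat.pow_le_pow_right (by norm_num) (by omega)
    omega
  by_cases h25 : q = 25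
  · subst h25
    obtain rfl : h = 12 := by omega
    have hn2 : n = 2 := by
      have h3 : 5 ∣ p ^ n := P.pow ▸ (by norm_num)
      obtain rfl : 5 = p := (Nat.prime_dvd_prime_iff_eq (by norm_num) hpp).1 ((by norm_num : Nat.Prime 5).dvd_of_dvd_pow h3)
      exact Nat.pow_right_injective (by norm_num : 2 ≤ 5) (P.pow.symm.trans (by norm_num))
    subst hn2
    right
    refine seven_of_weight (16 / 65) (s := 96) (r := 24) (fun c hc hcp => ?_)
      ((card_le_out hK S).trans (by rw [hout]; omega)) (by rwa [card_innS hK]) (by rw [card_inn hK, hord]; norm_num)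
    by_cases hc2 : orderOf c = 2
    · have h3 : (meet (InnG (PL F)) S c : ℚ) ≤ 16 := by
        exact_mod_cast meet_le_sixteen V hC hK hS (by have := pow_orderOf_eq_one c; rwa [hc2, pow_two] at this)
      have h4 : (65 : ℚ) ≤ cls (InnG (PL F)) c := by
        have h5 : 65 ≤ cls (InnG (PL F)) c := le_cls hK (by
          rw [hord]
          rcases hfix c hcp with h5 | h5 | h5 | h5 | ⟨k, -, -, h5, h6⟩
          · omega
          · omega
          · omega
          · omega
          · have h8 : p ^ k ≤ 5 := by nlinarith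
            have h10 : (1 + p ^ k) * (p ^ k * (p ^ k - 1)) ≤ 6 * (5 * 4) :=
              Nat.mul_le_mul (by omega) (Nat.mul_le_mul h8 (by omega))
            omega)
        exact_mod_cast h5
      linarith
    · have hn := innG_normal (PL F)
      have h3 : c ∈ InnG (PL F) := by
        have h4 : orderOf (QuotientGroup.mk c : MulAut (PL F) ⧸ InnG (PL F)) ∣ orderOf c := orderOf_map_dvd (QuotientGroup.mk' _) c
        have h5 : orderOf (QuotientGroup.mk c : MulAut (PL F) ⧸ InnG (PL F)) ∣ 2 ^ 2 :=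
          (_root_.orderOf_dvd_natCard _).trans (by rw [show Nat.card (MulAut (PL F) ⧸ InnG (PL F)) = 2 * 2 from hout]; norm_num)
        have h6 := Nat.eq_one_of_dvd_coprimes (((Nat.coprime_primes hcp Nat.prime_two).2 hc2).pow_right 2) h4 h5
        exact (QuotientGroup.eq_one_iff c).1 (orderOf_eq_one_iff.1 h6)
      obtain ⟨g, rfl⟩ := h3
      have h3 : (meet (InnG (PL F)) S (MulAut.conj g) : ℚ) ≤ 24 := by
        exact_mod_cast (meet_le_inf hn hc).trans (by rwa [card_innS hK])
      have h4 : (312 : ℚ) ≤ cls (InnG (PL F)) (MulAut.conj g) := by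
        have h5 : 312 ≤ cls (InnG (PL F)) (MulAut.conj g) := le_cls hK (by
          obtain ⟨i, h5, h6⟩ := P.idx hp (g := g) fun h5 => ne_one_of_prime' hcp (by rw [h5, map_one])
          rw [hord, fixS_conj, ← h5, mul_comm]
          exact Nat.mul_le_mul_left _ (by omega))
        exact_mod_cast h5
      linarith
  rcases Nat.lt_or_ge q 23 with h23 | h23
  swap
  · refine good_of_fix4 hK hR (f := 6) (by omega) (M := 4 * q) (fun α _ hα => ?_) ?_ ?_
    · have h3 : Nat.card (fixS α) ≤ 60 := by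
        rcases hfix α hα with h5 | h5 | h5 | h5 | ⟨k, h4, -, h5, h6⟩
        · omega
        · omega
        · omega
        · omega
        · have h8 : p ^ k ≤ 6 := by nlinarith
          have h10 : Odd (p ^ k) := (hpp.odd_of_ne_two hp).pow
          have h11 : p ^ k ≠ 5 := fun h12 => by
            obtain ⟨rfl, -⟩ := (by norm_num : Nat.Prime 5).pow_eq_iff.1 h12
            have h13 := P.pow
            interval_cases n <;> omega
          have h12 : p ^ k ≤ 4 := by
            obtain ⟨j, hj⟩ := h10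
            omega
          have h13 : (1 + p ^ k) * (p ^ k * (p ^ k - 1)) ≤ 5 * (4 * 3) :=
            Nat.mul_le_mul (by omega) (Nat.mul_le_mul h12 (by omega))
          omega
      rw [hord, mul_comm 4, mul_assoc]
      exact Nat.mul_le_mul_left _ ((show _ ≤ 24 * 11 by omega).trans (Nat.mul_le_mul (by omega) (by omega)))
    · exact le_trans (by norm_num) (Nat.mul_le_mul_left _ (Nat.pow_le_pow_left (show 4 * 23 ≤ 4 * q by omega) 4))
    · rw [hord, ← mul_assoc, mul_comm _ q]
      exact Nat.mul_le_mul_left _ (le_trans (by norm_num) (Nat.mul_le_mul (show 8 ≤ q + 1 by omega) (show 1 ≤ h by omega)))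
  have hq : q.Prime := by
    have key : ∀ l : ℕ, l.Prime → l ∣ q → l = p := fun l hl h3 =>
      (Nat.prime_dvd_prime_iff_eq hl hpp).1 (hl.dvd_of_dvd_pow (P.pow ▸ h3))
    have h15 : q ≠ 15 := by
      rintro rfl
      exact absurd ((key 3 (by norm_num) (by norm_num)).trans (key 5 (by norm_num) (by norm_num)).symm) (by norm_num)
    have h21 : q ≠ 21 := by
      rintro rfl
      exact absurd ((key 3 (by norm_num) (by norm_num)).trans (key 7 (by norm_num) (by norm_num)).symm) (by norm_num)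
    rcases (by omega : q = 7 ∨ q = 11 ∨ q = 13 ∨ q = 17 ∨ q = 19) with rfl | rfl | rfl | rfl | rfl <;> norm_num
  obtain rfl := (P.prime_case hq).2
  have hfp := fun α : MulAut (PL F) => fun hα : (orderOf α).Prime => P.fix_prime hp hq (ne_one_of_prime' hα)
  have hfo := fun α : MulAut (PL F) => fun hα : (orderOf α).Prime => @fix_odd _ _ _ _ _ _ _ _ _ _ _ P hq _ (ne_one_of_prime' hα)
  have hq' : q = 7 ∨ q = 11 ∨ q = 13 ∨ q = 17 ∨ q = 19 := by
    by_contra hcon
    rcases (by omega : q = 15 ∨ q = 21) with rfl | rfl <;> norm_num at hq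
  rcases hq' with rfl | rfl | rfl | rfl | rfl
  · obtain rfl : h = 3 := by omega
    have : Fact (Nat.Prime 2) := ⟨Nat.prime_two⟩
    have h8 : 2 ^ (2 + 1) ∣ Nat.card (innS S) := by
      rw [hN]
      exact Sylow.prime_pow_dvd_card_normalizer (by rw [hord]; norm_num) hV
    have h0 : 0 < Nat.card (innS S) := Nat.card_pos
    rcases (by omega : Nat.card (innS S) = 8 ∨ Nat.card (innS S) = 16 ∨ Nat.card (innS S) = 24) with h3 | h3 | h3
    · refine good_of_fix3 hK h3.le hout.le (M := 21) (fun α _ hα => ?_) (by norm_num) (by omega)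
      obtain ⟨h4, h5⟩ := hfp α hα
      have h6 := hfo α hα (l := 3) (by norm_num) (by norm_num) (by norm_num)
      have h10 : 3 ∣ Nat.card (fixS α) → Nat.card (fixS α) ≤ 2 * 3 := fun h11 => h6 h11 fun t ht h12 => by
        obtain ⟨i, h13, h14⟩ := P.idx hp ht
        rw [Nat.odd_iff]
        rcases h14 with rfl | ⟨h14, -⟩ | ⟨-, rfl⟩ | rfl | rfl <;> omega
      omega
    · rw [h3] at hRK
      norm_num at hRK
    · refine good_of_four hK (four_of_seven_points hK (by rw [P.aut, hord]; norm_num) hV0 hV1 hS ?_) (by omega)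
      have h4 := (normalizer (V.four : Set (PL F))).card_mul_index
      rw [← hN, h3, hord] at h4
      rw [← hN]
      omega
  · obtain rfl : h = 5 := by omega
    have h3 : Nat.card (innS S) ≠ 24 := fun h3 => by rw [h3] at hRK; norm_num at hRK
    refine good_of_fix4 hK (r := 20) (by omega) hout.le (M := 55) (fun α _ hα => ?_) (by norm_num) (by omega)
    obtain ⟨h4, h5⟩ := hfp α hα
    have h6 := hfo α hα (l := 5) (by norm_num) (by norm_num) (by norm_num)
    have h10 : 5 ∣ Nat.card (fixS α) → Nat.card (fixS α) ≤ 2 * 5 := fun h11 => h6 h11 fun t ht h12 => by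
      obtain ⟨i, h13, h14⟩ := P.idx hp ht
      rw [Nat.odd_iff]
      rcases h14 with rfl | ⟨h14, -⟩ | ⟨-, rfl⟩ | rfl | rfl <;> omega
    have h11 : Nat.card (fixS α) ≠ 24 := fun h11 => by rw [h11] at h4; norm_num at h4
    omega
  · obtain rfl : h = 6 := by omega
    refine good_of_fix4 hK hR hout.le (M := 78) (fun α _ hα => ?_) (by norm_num) (by omega)
    obtain ⟨h4, h5⟩ := hfp α hα
    have h10 : Nat.card (fixS α) ≠ 24 := fun h11 => by rw [h11] at h4; norm_num at h4
    have h11 : Nat.card (fixS α) ≠ 60 := fun h11 => by rw [h11] at h4; norm_num at h4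
    omega
  · obtain rfl : h = 8 := by omega
    refine good_of_fix4 hK hR hout.le (M := 102) (fun α _ hα => ?_) (by norm_num) (by omega)
    obtain ⟨h4, h5⟩ := hfp α hα
    have h11 : Nat.card (fixS α) ≠ 60 := fun h11 => by rw [h11] at h4; norm_num at h4
    omega
  · obtain rfl : h = 9 := by omega
    have h3 : Nat.card (innS S) ≠ 24 := fun h3 => by rw [h3] at hRK; norm_num at hRK
    refine good_of_fix4 hK (r := 20) (by omega) hout.le (M := 57) (fun α _ hα => ?_) (by norm_num) (by omega)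
    obtain ⟨h4, h5⟩ := hfp α hα
    omega
where
  le_of_sq_le_sq₀ {x y : ℕ} (h : x ^ 2 ≤ y ^ 2) : x ≤ y := (Nat.pow_le_pow_iff_left (by norm_num)).1 h

theorem row (h9 : q ≠ 9) : Row (PL F) := by
  have := H452.FprPsl2.pfin (F := F)
  have := P.simple
  have hK := P.noncomm
  have hpp : p.Prime := Fact.out
  intro S hS hm
  obtain ⟨Y, b1, -, b3, b4, ⟨r, hr, b5⟩, -⟩ := exists_minK hK hS hm
  obtain ⟨⟨y, hy⟩, hy1⟩ := ne_bot_iff_exists_ne_one.1 b1
  have hy1' : y ≠ 1 := fun h1 => hy1 (Subtype.ext h1)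
  have : Fact r.Prime := ⟨hr⟩
  have ho : orderOf y = r := orderOf_eq_prime (b5 y hy) hy1'
  by_cases hrp : r = p
  · subst hrp
    obtain ⟨P₀, -, hP⟩ := P.ti.fix_of_pgroup b1 (fun x => ⟨1, Subtype.ext (by rw [pow_one]; exact b5 x x.2)⟩) b3
    refine P.ti.good_borel P.fpf hK hm hP fun k hk => ?_
    have h1 := P.mul_le hk
    have h2 := P.hh
    have h3 : 0 < r ^ k := pow_pos hpp.pos k
    rcases P.cases with ⟨rfl, rfl⟩ | ⟨rfl, h4⟩
    · omega
    · have h5 : 3 * r ^ k ≤ r * r ^ k := Nat.mul_le_mul_right _ (by have := hpp.two_le; omega)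
      omega
  by_cases hr2 : r = 2
  swap
  · obtain ⟨-, hY⟩ := eq_zpowers_of_cyclic hr (P.cyc hr hr2 hrp) b5 hy hy1'
    exact P.good_cyc hS hm (ho ▸ hr) (ho ▸ hrp) fun s hs => hY ▸ b3 s hs y hy
  subst hr2
  by_cases hc : ∀ s ∈ S, s y = y
  · exact P.good_cyc hS hm (ho ▸ hr) (by rwa [ho]) fun s hs => (hc s hs).symm ▸ mem_zpowers y
  push Not at hc
  obtain ⟨s, hs, hsy⟩ := hc
  have hb := b3 s hs y hy
  have V : CommInv y (s y) := ⟨hy1', fun h1 => hy1' (s.injective (h1.trans (map_one s).symm)), hsy.symm,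
    by rw [← pow_two]; exact b5 _ hy, by rw [← pow_two]; exact b5 _ hb, b4 _ hy _ hb⟩
  have h2 : (2 : F) ≠ 0 := fun h1 => hrp ((Nat.prime_dvd_prime_iff_eq hpp Nat.prime_two).1
    ((CharP.cast_eq_zero_iff F p 2).1 (by exact_mod_cast h1))).symm
  have hY : Y = V.four := by
    refine le_antisymm (fun g hg => four_cent h2 V g (b4 _ hg _ hy) (b4 _ hg _ hb)) fun g hg => ?_
    rcases V.mem_four.1 hg with rfl | rfl | rfl | rfl
    exacts [one_mem _, hy, hb, mul_mem hy hb]
  exact P.good_four (fun h1 => hrp h1.symm) h9 hm V (hY ▸ b3)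

end Par

/-- **The row of `PSL₂(q)`, `q ≥ 4`.** -/
theorem row_psl2 (F : Type) [Field F] [Fintype F] (h4 : 4 ≤ Fintype.card F) : Row (PL F) := by
  obtain ⟨p, hchar⟩ := CharP.exists F
  have hp : Fact p.Prime := ⟨CharP.char_is_prime F p⟩
  obtain ⟨n, -, hn⟩ := FiniteField.card F p
  by_cases h5 : Fintype.card F = 4
  · exact Alt.row_of_isAlternating ⟨5, le_rfl, S0252.result h5⟩
  by_cases h6 : Fintype.card F = 5
  · exact Alt.row_of_isAlternating ⟨5, le_rfl, S0253.result h6⟩
  by_cases h9 : Fintype.card F = 9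
  · exact Alt.row_of_isAlternating ⟨6, by norm_num, S0254.result h9⟩
  have key : ∀ l : ℕ, l.Prime → l ∣ Fintype.card F → l = p := fun l hl h3 =>
    (Nat.prime_dvd_prime_iff_eq hl hp.out).1 (hl.dvd_of_dvd_pow (hn ▸ h3))
  have h7 : 7 ≤ Fintype.card F := by
    by_contra hcon
    have h8 : Fintype.card F = 6 := by omega
    exact absurd ((key 2 (by norm_num) (by omega)).trans (key 3 (by norm_num) (by omega)).symm) (by norm_num)
  by_cases h2 : p = 2
  · have h8 : 2 ∣ Fintype.card F := hn ▸ h2 ▸ dvd_pow_self p n.ne_zero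
    refine Par.row (p := p) (d := 1) (m := Fintype.card F + 1) (h := Fintype.card F - 1)
      ⟨rfl, hn, h7, ?_, by omega, by omega, Or.inl ⟨rfl, h2⟩⟩ h9
    exact (Nat.prime_two.coprime_iff_not_dvd).2 (by omega)
  · have h8 : ¬ 2 ∣ Fintype.card F := fun h8 => h2 (key 2 Nat.prime_two h8).symm
    refine Par.row (p := p) (d := 2) (m := (Fintype.card F + 1) / 2) (h := (Fintype.card F - 1) / 2)
      ⟨rfl, hn, h7, ?_, by omega, by omega, Or.inr ⟨rfl, h2⟩⟩ h9
    exact Nat.gcd_eq_left (by omega)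

end Cfsg.Agent.SB.R1
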