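import Cfsg.Agent.SB.R1.TI
import Cfsg.Agent.H452.FprRee
import Cfsg.Agent.S1069
import Cfsg.Agent.S1155
import Cfsg.Agent.S1157
import Cfsg.Agent.S1158
import Cfsg.Agent.S2127
import Cfsg.Agent.S2358
import Cfsg.Agent.S2361

/-!
# S5765: the small Ree groups (helper61)
-/

set_option autoImplicit false

namespace Cfsg.Agent.SB.R1

open Subgroup MulAction Cfsg Cfsg.Lie Cfsg.Agent.H786.FC

theorem ne_one_of_prime {A : Type*} [Group A] {α : A} (h : (orderOf α).Prime) : α ≠ 1 := by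
  rintro rfl
  rw [orderOf_one] at h
  exact Nat.not_prime_one h

theorem card_normalizer_conj {G : Type*} [Group G] (A : Subgroup G) (g : G) :
    Nat.card (normalizer ((A.map (MulAut.conj g).toMonoidHom : Subgroup G) : Set G)) =
      Nat.card (normalizer (A : Set G)) := by
  rw [← map_equiv_normalizer_eq A (MulAut.conj g)]
  exact card_map_of_injective (MulAut.conj g).injective

theorem ree_arith {m k : ℕ} (hk : k < 3 * (2 * m + 1))
    (h : k = 0 ∨ 1 + 3 ^ k ∣ ((3 ^ (2 * m + 1)) ^ 3 + 1) * (3 ^ (2 * m + 1) - 1)) : 3 ^ k ≤ 3 ^ (2 * m + 1) := by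
  refine Nat.pow_le_pow_right (by norm_num) ?_
  rcases Nat.eq_zero_or_pos k with h0 | h0
  · omega
  have h1 := h.resolve_left h0.ne'
  have h2 : ((3 ^ (2 * m + 1)) ^ 3 + 1) * (3 ^ (2 * m + 1) - 1) ∣ 3 ^ (2 * (3 * (2 * m + 1))) - 1 := by
    have e1 : 3 ^ (2 * (3 * (2 * m + 1))) = ((3 ^ (2 * m + 1)) ^ 3) ^ 2 := by
      rw [← pow_mul, ← pow_mul]
      congr 1
      ring
    have e2 : ((3 ^ (2 * m + 1)) ^ 3) ^ 2 - 1 = ((3 ^ (2 * m + 1)) ^ 3 + 1) * ((3 ^ (2 * m + 1)) ^ 3 - 1) := by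
      rw [← Nat.sq_sub_sq]
    rw [e1, e2]
    refine Nat.mul_dvd_mul_left _ ?_
    simpa using Nat.sub_dvd_pow_sub_pow (3 ^ (2 * m + 1)) 1 3
  obtain ⟨t, ht⟩ := dvd_of_one_add_pow_dvd (by norm_num) h0 (h1.trans h2)
  have h3 : 3 ≤ t := by
    by_contra hcon
    have h4 : t = 0 ∨ t = 1 ∨ t = 2 := by omega
    rcases h4 with rfl | rfl | rfl <;> omega
  nlinarith

theorem row_ree_model {K : Type} [Field K] [Fintype K] {m : ℕ} (hm : 1 ≤ m) (hK : Fintype.card K = 3 ^ (2 * m + 1))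
    [Finite ↥(twistedG2 K (3 ^ m))] [IsSimpleGroup ↥(twistedG2 K (3 ^ m))]
    (hna : ¬ IsMulCommutative ↥(twistedG2 K (3 ^ m))) : Row ↥(twistedG2 K (3 ^ m)) := by
  have h3 : Fact (Nat.Prime 3) := ⟨Nat.prime_three⟩
  have hcard := S1069.result hK
  have hout := (S2127.result hm hK).le
  have hcyc := S1158.result hm hK
  have hconj := S2358.result hm hK
  have harith := @ree_arith m
  have hti := S1155.result hm hK
  have h168 := S1157.result hm hK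
  have hf : 2 * m + 1 ≤ 3 ^ (2 * m + 1) := (Nat.lt_pow_self (by norm_num)).le
  have hq27 : 27 ≤ 3 ^ (2 * m + 1) :=
    calc 27 = 3 ^ 3 := by norm_num
      _ ≤ 3 ^ (2 * m + 1) := Nat.pow_le_pow_right (by norm_num) (by omega)
  have hs : 3 * 3 ^ (m + 1) ≤ 3 ^ (2 * m + 1) := by
    rw [← pow_succ']
    exact Nat.pow_le_pow_right (by norm_num) (by omega)
  have h3q : 3 ∣ 3 ^ (2 * m + 1) := dvd_pow_self 3 (by omega)
  have hQ : (3 ^ (2 * m + 1)) ^ 3 = 3 ^ (3 * (2 * m + 1)) := by rw [← pow_mul, mul_comm]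
  intro S hS _
  obtain ⟨A, hA, hcases⟩ := S2361.result hm hK (innS S) (innS_solvable hna hS)
  generalize 3 ^ (2 * m + 1) = q at *
  have hq3 : q ≤ q ^ 3 := Nat.le_self_pow (by norm_num) q
  have hord : Nat.card ↥(twistedG2 K (3 ^ m)) = q ^ 3 * ((q ^ 3 + 1) * (q - 1)) := by rw [hcard]; ring
  obtain ⟨a1, a2, a3⟩ := H452.FprRee.rank_one_data hti hQ (by omega) hord (by omega) (by omega)
  have H : TI 3 ↥(twistedG2 K (3 ^ m)) (q ^ 3) (q - 1) (3 * (2 * m + 1)) := ⟨hti, hQ, a1, a2, a3, hord⟩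
  have hq2 : 27 * q ≤ q ^ 2 := by nlinarith
  have hq3' : 27 * q ^ 2 ≤ q ^ 3 := by nlinarith
  have small : Nat.card (innS S) ≤ 12 * q → Good (InnG _) S := by
    intro hr
    refine good_of_fix3 hna hr hout (M := q ^ 3) (fun α _ hα => H.fix_bound (fun k _ h2 h4 => ?_)
      (ne_one_of_prime hα)) ?_ ?_
    · have h5 := harith h2 (Or.inr h4)
      calc (1 + 3 ^ k) * 3 ^ k ≤ (1 + q) * q := Nat.mul_le_mul (by omega) h5
        _ = q + q ^ 2 := by ring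
        _ ≤ q ^ 3 + 1 := by omega
    · have h5 : 27 ^ 4 ≤ q ^ 4 := Nat.pow_le_pow_left hq27 4
      calc (2 * m + 1) * (12 * q) ^ 4 ≤ q * (12 * q) ^ 4 := Nat.mul_le_mul_right _ hf
        _ = 12 ^ 4 * q ^ 5 := by ring
        _ ≤ q ^ 4 * q ^ 5 := Nat.mul_le_mul_right _ (le_trans (by norm_num) h5)
        _ = _ := by ring
    · rw [hord]
      have h5 : 1 ≤ (q ^ 3 + 1) * (q - 1) := Nat.mul_pos (by omega) (by omega)
      nlinarith
  have hcyc' : ∀ k n : ℕ, (k, n) ∈ ({((q - 1) / 2, 2 * (q - 1)), ((q + 1) / 4, 6 * (q + 1)),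
      (q - 3 ^ (m + 1) + 1, 6 * (q - 3 ^ (m + 1) + 1)), (q + 3 ^ (m + 1) + 1, 6 * (q + 3 ^ (m + 1) + 1))} :
      Set (ℕ × ℕ)) → (k ∣ (q - 1) / 2 ∨ k ∣ (q + 1) / 4 ∨ k ∣ q - 3 ^ (m + 1) + 1 ∨ k ∣ q + 3 ^ (m + 1) + 1) →
      IsCyclic A → Nat.card A = k → n ≤ 12 * q → Good (InnG _) S := by
    intro k n hkn hd hAc hAk hn
    obtain ⟨B, hBc, hBk, hBn, -⟩ := hcyc _ hkn
    obtain ⟨g, hg⟩ := hconj k hd B A hBc hAc hBk hAk
    apply small
    refine (card_le_of_le hA).trans ?_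
    rw [hg, card_normalizer_conj, hBn]
    exact hn
  rcases hcases with ⟨P, rfl⟩ | ⟨P, rfl⟩ | ⟨hAc, h1 | h1 | h1 | h1⟩
  · apply small
    refine (card_le_of_le hA).trans ?_
    rw [(h168 P).2]
    omega
  · have hA' : innS S ≤ stabilizer _ P := fun x hx => Sylow.smul_eq_iff_mem_normalizer.2 (hA hx)
    by_cases h1 : ∀ u ∈ innS S, u ∈ P → u = 1
    · apply small
      have := H.card_le_of_inf_bot hA' h1
      omega
    · push Not at h1
      obtain ⟨u, hu, hu0, hu1⟩ := h1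
      refine H.good_of_par hna (H.fix_of_le hA' hu hu0 hu1) (a := q) (fun k h2 h4 => harith h2 h4) hout ?_ (by omega)
      calc (2 * m + 1) * (q - 1) * q ^ 2 ≤ q * q * q ^ 2 :=
            Nat.mul_le_mul_right _ (Nat.mul_le_mul hf (Nat.sub_le _ _))
        _ = q ^ 4 := by ring
        _ < q ^ 6 := Nat.pow_lt_pow_right (by omega) (by norm_num)
        _ = _ := by ring
  · exact hcyc' _ _ (by simp) (Or.inl dvd_rfl) hAc h1 (show 2 * (q - 1) ≤ 12 * q by omega)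
  · exact hcyc' _ _ (by simp) (Or.inr (Or.inl dvd_rfl)) hAc h1 (show 6 * (q + 1) ≤ 12 * q by omega)
  · exact hcyc' _ _ (by simp) (Or.inr (Or.inr (Or.inl dvd_rfl))) hAc h1
      (show 6 * (q - 3 ^ (m + 1) + 1) ≤ 12 * q by omega)
  · exact hcyc' _ _ (by simp) (Or.inr (Or.inr (Or.inr dvd_rfl))) hAc h1
      (show 6 * (q + 3 ^ (m + 1) + 1) ≤ 12 * q by omega)

/-- **The box of the small Ree groups.** -/
theorem box_ree : Box fun K _ => Lie.IsoRee K := by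
  rintro T _ _ _ hT ⟨K, iK, iK', m, hm, hK, ⟨e⟩⟩
  have : Finite ↥(twistedG2 K (3 ^ m)) := Finite.of_equiv T e.toEquiv
  have : IsSimpleGroup ↥(twistedG2 K (3 ^ m)) := e.symm.isSimpleGroup
  refine Row.of_equiv e (row_ree_model hm hK fun h => hT ⟨⟨fun a b => e.injective ?_⟩⟩)
  rw [map_mul, map_mul]
  exact h.is_comm.comm _ _

end Cfsg.Agent.SB.R1
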