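import Cfsg.Agent.SB.R1.Crit

/-!
# S5765: groups with `1 + |P|` Sylow `p`-subgroups, any two of them meeting trivially (helper61)

`Aut K` acts faithfully on the Sylow `p`-subgroups, `P` acts regularly on the other ones.  `fix_cases` describes the
centralizer in `K` of a non-trivial automorphism, `four_of_par` treats the stabilizer of a Sylow `p`-subgroup.
-/

set_option autoImplicit false

namespace Cfsg.Agent.SB.R1

open Subgroup MulAction Cfsg Cfsg.Agent.H786.FC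
open scoped Pointwise

theorem card_le_of_cover {Y D : Type*} [Finite Y] [Finite D] (r : D → Y → Prop) (hc : ∀ y, ∃ d, r d y) {c : ℕ}
    (h : ∀ d, Nat.card {y // r d y} ≤ c) : Nat.card Y ≤ Nat.card D * c := by
  classical
  have _ := Fintype.ofFinite D
  have h1 : Nat.card Y ≤ Nat.card (Σ d : D, {y // r d y}) := by
    refine Nat.card_le_card_of_surjective (fun z : (Σ d : D, {y // r d y}) => z.2.1) fun y => ?_
    obtain ⟨d, hd⟩ := hc y
    exact ⟨⟨d, y, hd⟩, rfl⟩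
  rw [Nat.card_sigma] at h1
  refine h1.trans ((Finset.sum_le_sum fun d _ => h d).trans ?_)
  rw [Finset.sum_const, smul_eq_mul, Finset.card_univ, Nat.card_eq_fintype_card]

theorem dvd_of_one_add_pow_dvd {p k N : ℕ} (hp : 2 ≤ p) (hk : 1 ≤ k) (h : 1 + p ^ k ∣ p ^ (2 * N) - 1) : k ∣ N := by
  have h0 : ∀ n, 1 ≤ p ^ n := fun n => Nat.one_le_pow _ _ (by omega)
  have h1 : 1 + p ^ k ∣ p ^ (2 * k) - 1 := by
    have : p ^ (2 * k) - 1 = (1 + p ^ k) * (p ^ k - 1) := by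
      obtain ⟨t, ht⟩ : ∃ t, p ^ k = t + 1 := ⟨p ^ k - 1, by have := h0 k; omega⟩
      rw [mul_comm 2 k, pow_mul, ht, Nat.add_sub_cancel]
      have : (t + 1) ^ 2 = (1 + (t + 1)) * t + 1 := by ring
      omega
    rw [this]
    exact dvd_mul_right _ _
  have h2 := Nat.dvd_gcd h1 h
  rw [Nat.pow_sub_one_gcd_pow_sub_one, Nat.gcd_mul_left] at h2
  have h3 : 0 < Nat.gcd k N := Nat.gcd_pos_of_pos_left _ hk
  have h4 : 1 < p ^ (2 * Nat.gcd k N) := Nat.one_lt_pow (by omega) (by omega)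
  have h5 := Nat.le_of_dvd (by omega) h2
  have h6 : p ^ k < p ^ (2 * Nat.gcd k N) := by omega
  have h7 : k < 2 * Nat.gcd k N := (Nat.pow_lt_pow_iff_right (by omega)).1 h6
  obtain ⟨t, ht⟩ := Nat.gcd_dvd_left k N
  have h8 : t = 1 := by
    rcases Nat.lt_or_ge t 2 with h9 | h9
    · interval_cases t
      · omega
      · rfl
    · nlinarith
  rw [h8, mul_one] at ht
  rw [ht]
  exact Nat.gcd_dvd_right k N

/-- the setting -/
structure TI (p : ℕ) (K : Type*) [Group K] (Q h N : ℕ) : Prop where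
  ti : ∀ P P' : Sylow p K, P ≠ P' → (P : Subgroup K) ⊓ P' = ⊥
  pow : Q = p ^ N
  cardP : ∀ P : Sylow p K, Nat.card (P : Subgroup K) = Q
  one_lt : 1 < Q
  count : Nat.card (Sylow p K) = 1 + Q
  ord : Nat.card K = Q * ((Q + 1) * h)

variable {p : ℕ} {K : Type*} [Group K] {Q h N : ℕ}

theorem mem_smul_sylow {α : MulAut K} {P : Sylow p K} {x : K} : x ∈ α • P ↔ α⁻¹ x ∈ P :=
  mem_pointwise_smul_iff_inv_smul_mem (S := (P : Subgroup K))

theorem apply_mem_smul (α : MulAut K) {P : Sylow p K} {x : K} (hx : x ∈ P) : α x ∈ α • P := by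
  rw [mem_smul_sylow, MulAut.inv_apply_self]
  exact hx

theorem smul_smul_sylow (α : MulAut K) (x : K) (P : Sylow p K) : α • x • P = α x • α • P := by
  rw [Sylow.smul_def, Sylow.smul_def, ← conj_conj, mul_smul, mul_smul, inv_smul_smul]

theorem smul_self_of_mem {P : Sylow p K} {u : K} (hu : u ∈ P) : u • P = P :=
  Sylow.smul_eq_iff_mem_normalizer.2 (le_normalizer hu)

theorem mem_of_smul_eq {P P₀ : Sylow p K} {u : K} (hu : u ∈ P₀) (h : u • P = P) : u ∈ P := by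
  have h1 : u ∈ (P₀ : Subgroup K) ⊓ normalizer P := ⟨hu, Sylow.smul_eq_iff_mem_normalizer.1 h⟩
  rw [P₀.isPGroup'.inf_normalizer_sylow] at h1
  exact h1.2

namespace TI

variable (H : TI p K Q h N)
include H

theorem eq_of_mem {P P' : Sylow p K} {u : K} (hu : u ∈ P) (hu' : u ∈ P') (h1 : u ≠ 1) : P = P' := by
  by_contra hne
  have h2 : u ∈ (P : Subgroup K) ⊓ P' := ⟨hu, hu'⟩
  rw [H.ti P P' hne, mem_bot] at h2
  exact h1 h2

theorem free {P₀ P : Sylow p K} (hne : P ≠ P₀) {u : K} (hu : u ∈ P₀) (h : u • P = P) : u = 1 := by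
  by_contra h1
  exact hne (H.eq_of_mem (mem_of_smul_eq hu h) hu h1)

theorem smul_ne {P₀ P : Sylow p K} (hne : P ≠ P₀) {u : K} (hu : u ∈ P₀) : u • P ≠ P₀ := by
  intro h1
  apply hne
  rw [← inv_smul_smul u P, h1]
  exact smul_self_of_mem (inv_mem hu)

theorem smul_inj {P₀ P : Sylow p K} (hne : P ≠ P₀) {u v : K} (hu : u ∈ P₀) (hv : v ∈ P₀) (h : u • P = v • P) :
    u = v := by
  have h1 : (v⁻¹ * u) • P = P := by rw [mul_smul, h, inv_smul_smul]
  exact (inv_mul_eq_one.1 (H.free hne (mul_mem (inv_mem hv) hu) h1)).symm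

theorem finite_sylow : Finite (Sylow p K) := Nat.finite_of_card_ne_zero (by rw [H.count]; omega)

theorem card_ne (P₀ : Sylow p K) : Nat.card {P : Sylow p K // P ≠ P₀} = Q := by
  classical
  have := H.finite_sylow
  have h1 : Nat.card {P : Sylow p K // P = P₀} + Nat.card {P : Sylow p K // ¬ P = P₀} = Nat.card (Sylow p K) := by
    rw [← Nat.card_sum, Nat.card_congr (Equiv.sumCompl fun P : Sylow p K => P = P₀)]
  rw [H.count, Nat.card_unique] at h1
  exact Nat.add_left_cancel h1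

theorem trans {P₀ P P' : Sylow p K} (hP : P ≠ P₀) (hP' : P' ≠ P₀) : ∃ u ∈ P₀, u • P = P' := by
  have := H.finite_sylow
  have h1 : Function.Injective fun u : P₀ => (⟨(u : K) • P, H.smul_ne hP u.2⟩ : {P : Sylow p K // P ≠ P₀}) :=
    fun u v huv => Subtype.ext (H.smul_inj hP u.2 v.2 (congrArg Subtype.val huv))
  obtain ⟨u, hu⟩ := (h1.bijective_of_nat_card_le (by rw [H.card_ne]; exact (H.cardP P₀).ge)).2 ⟨P', hP'⟩
  exact ⟨u, u.2, congrArg Subtype.val hu⟩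

theorem exists_ne (P₀ : Sylow p K) : ∃ P : Sylow p K, P ≠ P₀ := by
  have h1 : 0 < Nat.card {P : Sylow p K // P ≠ P₀} := by
    rw [H.card_ne]
    have := H.one_lt
    omega
  obtain ⟨P, hP⟩ := (Nat.card_pos_iff.1 h1).1
  exact ⟨P, hP⟩

theorem exists_ne_one (P : Sylow p K) : ∃ u ∈ P, u ≠ 1 := by
  have h1 : 1 < Nat.card P := by rw [H.cardP]; exact H.one_lt
  have : Finite P := Nat.finite_of_card_ne_zero (by omega)
  have := Finite.one_lt_card_iff_nontrivial.1 h1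
  obtain ⟨u, hu⟩ := _root_.exists_ne (1 : P)
  exact ⟨u, u.2, fun h => hu (Subtype.ext h)⟩

theorem faithful [IsSimpleGroup K] {α : MulAut K} (hα : ∀ P : Sylow p K, α • P = P) : α = 1 := by
  have hker : ∀ g : K, (∀ P : Sylow p K, g • P = P) → g = 1 := by
    rcases (inferInstance : (toPermHom K (Sylow p K)).ker.Normal).eq_bot_or_eq_top with h1 | h1
    · intro g hg
      rw [← mem_bot, ← h1, MonoidHom.mem_ker]
      ext P : 1
      exact hg P
    · exfalso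
      obtain ⟨P₀⟩ : Nonempty (Sylow p K) := inferInstance
      obtain ⟨P, hP⟩ := H.exists_ne P₀
      obtain ⟨u, hu, hu1⟩ := H.exists_ne_one P₀
      have h2 : u ∈ (toPermHom K (Sylow p K)).ker := h1 ▸ mem_top u
      exact hu1 (H.free hP hu (DFunLike.congr_fun (MonoidHom.mem_ker.1 h2) P))
  ext g
  have h1 := hker (g⁻¹ * α g) fun P => by
    rw [mul_smul, inv_smul_eq_iff]
    have h2 := smul_smul_sylow α g P
    rw [hα, hα] at h2
    exact h2.symm
  exact (inv_mul_eq_one.1 h1).symm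

theorem smul_eq_of_fix {α : MulAut K} {P : Sylow p K} {u : K} (hu : u ∈ P) (h1 : u ≠ 1) (h : α u ∈ P) : α • P = P :=
  H.eq_of_mem (apply_mem_smul α hu) h fun h2 => h1 (α.injective (h2.trans (map_one α).symm))

theorem eq_one_of_cent [IsSimpleGroup K] {α : MulAut K} {P₀ P₁ : Sylow p K} (hne : P₁ ≠ P₀) (h1 : α • P₁ = P₁)
    (h : ∀ u ∈ P₀, α u = u) : α = 1 := by
  refine H.faithful fun P => ?_
  by_cases hP : P = P₀
  · obtain ⟨u, hu, hu1⟩ := H.exists_ne_one P₀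
    rw [hP]
    exact H.smul_eq_of_fix hu hu1 (by rw [h u hu]; exact hu)
  · obtain ⟨u, hu, rfl⟩ := H.trans hne hP
    rw [smul_smul_sylow, h u hu, h1]

/-- the fixed points of `α` other than `P₀` -/
theorem card_fixed {α : MulAut K} {P₀ P₁ : Sylow p K} (hne : P₁ ≠ P₀) (h0 : α • P₀ = P₀) (h1 : α • P₁ = P₁) :
    Nat.card {P : Sylow p K // P ≠ P₀ ∧ α • P = P} = Nat.card ↥(fixS α ⊓ P₀) := by
  symm
  refine Nat.card_congr (Equiv.ofBijective (fun u : ↥(fixS α ⊓ P₀) =>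
    (⟨(u : K) • P₁, H.smul_ne hne u.2.2, by rw [smul_smul_sylow, mem_fixS.1 u.2.1, h1]⟩ :
      {P : Sylow p K // P ≠ P₀ ∧ α • P = P})) ⟨fun u v huv => ?_, ?_⟩)
  · exact Subtype.ext (H.smul_inj hne u.2.2 v.2.2 (congrArg Subtype.val huv))
  · rintro ⟨P, hP, hPα⟩
    obtain ⟨u, hu, rfl⟩ := H.trans hne hP
    rw [smul_smul_sylow, h1] at hPα
    have h2 : α u ∈ P₀ := by
      rw [← h0]
      exact apply_mem_smul α hu
    exact ⟨⟨u, H.smul_inj hne h2 hu hPα, hu⟩, rfl⟩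

variable [Fact p.Prime] [Finite K]

theorem card_stab (P : Sylow p K) : Nat.card (stabilizer K P) = Q * h := by
  have h1 := (stabilizer K P).card_mul_index
  rw [index_stabilizer_of_transitive, H.count, H.ord] at h1
  have h2 : Q * ((Q + 1) * h) = Q * h * (1 + Q) := by ring
  rw [h2] at h1
  exact Nat.eq_of_mul_eq_mul_right (by omega) h1

/-- a subgroup fixing `P₀`, modulo its stabilizer of `P₁` -/
theorem card_two {P₀ P₁ : Sylow p K} (hne : P₁ ≠ P₀) :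
    Nat.card ↥(stabilizer K P₀ ⊓ stabilizer K P₁) = h := by
  have h1 : Nat.card (P₀ × ↥(stabilizer K P₀ ⊓ stabilizer K P₁)) = Nat.card (stabilizer K P₀) := by
    refine Nat.card_congr (Equiv.ofBijective (fun z : P₀ × ↥(stabilizer K P₀ ⊓ stabilizer K P₁) =>
      (⟨(z.1 : K) * z.2, mul_mem (smul_self_of_mem z.1.2) z.2.2.1⟩ : stabilizer K P₀)) ⟨?_, ?_⟩)
    · rintro ⟨u, t⟩ ⟨v, s⟩ huv
      have h2 : (u : K) * t = v * s := congrArg Subtype.val huv
      have h3 : (u : K) = v := by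
        refine H.smul_inj hne u.2 v.2 ?_
        have h4 : (t : K) • P₁ = P₁ := t.2.2
        have h5 : (s : K) • P₁ = P₁ := s.2.2
        conv_lhs => rw [← h4]
        conv_rhs => rw [← h5]
        rw [smul_smul, smul_smul, h2]
      rw [h3] at h2
      exact Prod.ext (Subtype.ext h3) (Subtype.ext (mul_left_cancel h2))
    · rintro ⟨b, hb⟩
      have h2 : b • P₁ ≠ P₀ := by
        intro h3
        apply hne
        rw [← inv_smul_smul b P₁, h3]
        exact inv_mem hb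
      obtain ⟨u, hu, hub⟩ := H.trans hne h2
      refine ⟨⟨⟨u, hu⟩, ⟨u⁻¹ * b, mem_inf.2 ⟨mul_mem (inv_mem (smul_self_of_mem hu)) hb, ?_⟩⟩⟩, ?_⟩
      · rw [mem_stabilizer_iff, mul_smul, ← hub, inv_smul_smul]
      · exact Subtype.ext (mul_inv_cancel_left u b)
  rw [Nat.card_prod, H.cardP, H.card_stab] at h1
  exact Nat.eq_of_mul_eq_mul_left (by have := H.one_lt; omega) h1

omit [Fact p.Prime] [Finite K] in
/-- the stabilizer of `P₀` in the centralizer of `α` -/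
theorem card_fix_stab {α : MulAut K} {P₀ P₁ : Sylow p K} (hne : P₁ ≠ P₀) (h0 : α • P₀ = P₀) (h1 : α • P₁ = P₁) :
    Nat.card ↥(fixS α ⊓ stabilizer K P₀) =
      Nat.card ↥(fixS α ⊓ P₀) * Nat.card ↥(fixS α ⊓ (stabilizer K P₀ ⊓ stabilizer K P₁)) := by
  rw [← Nat.card_prod]
  symm
  refine Nat.card_congr (Equiv.ofBijective
    (fun z : ↥(fixS α ⊓ P₀) × ↥(fixS α ⊓ (stabilizer K P₀ ⊓ stabilizer K P₁)) =>
      (⟨(z.1 : K) * z.2, mem_inf.2 ⟨mul_mem (mem_inf.1 z.1.2).1 (mem_inf.1 z.2.2).1,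
        mul_mem (smul_self_of_mem z.1.2.2) z.2.2.2.1⟩⟩ : ↥(fixS α ⊓ stabilizer K P₀))) ⟨?_, ?_⟩)
  · rintro ⟨u, t⟩ ⟨v, s⟩ huv
    have h2 : (u : K) * t = v * s := congrArg Subtype.val huv
    have h3 : (u : K) = v := by
      refine H.smul_inj hne u.2.2 v.2.2 ?_
      have h4 : (t : K) • P₁ = P₁ := t.2.2.2
      have h5 : (s : K) • P₁ = P₁ := s.2.2.2
      conv_lhs => rw [← h4]
      conv_rhs => rw [← h5]
      rw [smul_smul, smul_smul, h2]
    rw [h3] at h2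
    exact Prod.ext (Subtype.ext h3) (Subtype.ext (mul_left_cancel h2))
  · rintro ⟨b, hbα, hb⟩
    have hb' : b ∈ stabilizer K P₀ := hb
    have h2 : b • P₁ ≠ P₀ := by
      intro h3
      apply hne
      rw [← inv_smul_smul b P₁, h3]
      exact inv_mem hb'
    obtain ⟨u, hu, hub⟩ := H.trans hne h2
    have h3 : α u = u := by
      have h4 : α u ∈ P₀ := by
        rw [← h0]
        exact apply_mem_smul α hu
      refine H.smul_inj hne h4 hu ?_
      have h5 := smul_smul_sylow α u P₁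
      rw [h1] at h5
      rw [← h5, hub, smul_smul_sylow, mem_fixS.1 hbα, h1]
    have hu' : u ∈ fixS α := h3
    have hbα' : b ∈ fixS α := hbα
    refine ⟨⟨⟨u, mem_inf.2 ⟨hu', hu⟩⟩, ⟨u⁻¹ * b, mem_inf.2 ⟨mul_mem (inv_mem hu') hbα',
      mem_inf.2 ⟨mul_mem (inv_mem (smul_self_of_mem hu)) hb', ?_⟩⟩⟩⟩, ?_⟩
    · rw [mem_stabilizer_iff, mul_smul, ← hub, inv_smul_smul]
    · exact Subtype.ext (mul_inv_cancel_left u b)

/-- a non-trivial automorphism fixing two Sylow subgroups -/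
theorem two_fix [IsSimpleGroup K] {α : MulAut K} (hα : α ≠ 1) {P₀ P₁ : Sylow p K} (hne : P₁ ≠ P₀)
    (h0 : α • P₀ = P₀) (h1 : α • P₁ = P₁) :
    ∃ k < N, Nat.card ↥(fixS α ⊓ P₀) = p ^ k ∧ (k = 0 ∨ (1 + p ^ k ∣ (Q + 1) * h ∧
      Nat.card (fixS α) = (1 + p ^ k) * (p ^ k * Nat.card ↥(fixS α ⊓ (stabilizer K P₀ ⊓ stabilizer K P₁))))) := by
  classical
  have hp : p.Prime := Fact.out
  have hfin := H.finite_sylow
  obtain ⟨k, hk⟩ := (P₀.isPGroup'.to_inf_right (H := fixS α)).exists_card_eq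
  have hkN : k < N := by
    by_contra hcon
    have h2 : Nat.card P₀ ≤ Nat.card ↥(fixS α ⊓ P₀) := by
      rw [hk, H.cardP, H.pow]
      exact Nat.pow_le_pow_right hp.pos (by omega)
    have h3 : fixS α ⊓ P₀ = P₀ := eq_of_le_of_card_ge inf_le_right h2
    exact hα (H.eq_one_of_cent hne h1 fun u hu => (h3.ge hu).1)
  refine ⟨k, hkN, hk, ?_⟩
  rcases Nat.eq_zero_or_pos k with hk0 | hk0
  · exact Or.inl hk0
  right
  -- the fixed points of `α` form one orbit of its centralizer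
  have hcard : Nat.card {P : Sylow p K // α • P = P} = 1 + p ^ k := by
    rw [← hk, ← H.card_fixed hne h0 h1]
    have h2 : Nat.card {z : {P : Sylow p K // α • P = P} // z.1 = P₀} +
        Nat.card {z : {P : Sylow p K // α • P = P} // ¬ z.1 = P₀} = Nat.card {P : Sylow p K // α • P = P} := by
      rw [← Nat.card_sum, Nat.card_congr (Equiv.sumCompl _)]
    rw [← h2]
    congr 1
    · rw [Nat.card_eq_one_iff_unique]
      exact ⟨⟨fun a b => Subtype.ext (Subtype.ext (a.2.trans b.2.symm))⟩, ⟨⟨⟨P₀, h0⟩, rfl⟩⟩⟩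
    · exact Nat.card_congr ⟨fun z => ⟨z.1.1, z.2, z.1.2⟩, fun z => ⟨⟨z.1, z.2.2⟩, z.2.1⟩, fun _ => rfl, fun _ => rfl⟩
  have hQ1 : 1 < Nat.card ↥(fixS α ⊓ P₁) := by
    have h2 : Nat.card {z : {P : Sylow p K // α • P = P} // z.1 = P₁} +
        Nat.card {z : {P : Sylow p K // α • P = P} // ¬ z.1 = P₁} = Nat.card {P : Sylow p K // α • P = P} := by
      rw [← Nat.card_sum, Nat.card_congr (Equiv.sumCompl _)]
    have h3 : Nat.card {z : {P : Sylow p K // α • P = P} // z.1 = P₁} = 1 := by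
      rw [Nat.card_eq_one_iff_unique]
      exact ⟨⟨fun a b => Subtype.ext (Subtype.ext (a.2.trans b.2.symm))⟩, ⟨⟨⟨P₁, h1⟩, rfl⟩⟩⟩
    have h4 : Nat.card {z : {P : Sylow p K // α • P = P} // ¬ z.1 = P₁} =
        Nat.card {P : Sylow p K // P ≠ P₁ ∧ α • P = P} :=
      Nat.card_congr ⟨fun z => ⟨z.1.1, z.2, z.1.2⟩, fun z => ⟨⟨z.1, z.2.2⟩, z.2.1⟩, fun _ => rfl, fun _ => rfl⟩
    rw [h3, h4, hcard, H.card_fixed hne.symm h1 h0] at h2
    have h5 : 1 < p ^ k := Nat.one_lt_pow hk0.ne' hp.one_lt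
    omega
  have := Finite.one_lt_card_iff_nontrivial.1 hQ1
  obtain ⟨v, hv⟩ := _root_.exists_ne (1 : ↥(fixS α ⊓ P₁))
  have hv0 : (v : K) • P₀ ≠ P₀ := fun h2 => hv (Subtype.ext (H.free hne.symm v.2.2 h2))
  have horb : orbit (fixS α) P₀ = {P : Sylow p K | α • P = P} := by
    ext P
    constructor
    · rintro ⟨x, rfl⟩
      change α • (x : K) • P₀ = (x : K) • P₀
      rw [smul_smul_sylow, mem_fixS.1 x.2, h0]
    · intro hP
      have hP' : α • P = P := hP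
      by_cases h2 : P = P₀
      · rw [h2]
        exact mem_orbit_self _
      obtain ⟨u, hu, huP⟩ := H.trans hv0 h2
      have h3 : α u = u := by
        have h4 : α u ∈ P₀ := by
          rw [← h0]
          exact apply_mem_smul α hu
        refine H.smul_inj hv0 h4 hu ?_
        have h5 := smul_smul_sylow α u ((v : K) • P₀)
        rw [smul_smul_sylow α v, mem_fixS.1 v.2.1, h0, huP, hP'] at h5
        rw [← h5, huP]
      refine ⟨⟨u * v, mul_mem (show u ∈ fixS α from h3) (mem_inf.1 v.2).1⟩, ?_⟩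
      change (u * v) • P₀ = P
      rw [mul_smul, huP]
  have hidx : (stabilizer (fixS α) P₀).index = 1 + p ^ k := by
    rw [index_stabilizer, horb, ← hcard, ← Nat.card_coe_set_eq]
    rfl
  have hst : Nat.card (stabilizer (fixS α) P₀) = Nat.card ↥(fixS α ⊓ stabilizer K P₀) :=
    Nat.card_congr ⟨fun x => ⟨x.1.1, x.1.2, x.2⟩, fun x => ⟨⟨x.1, x.2.1⟩, x.2.2⟩, fun _ => rfl, fun _ => rfl⟩
  have hmain := (stabilizer (fixS α) P₀).card_mul_index
  rw [hidx, hst, H.card_fix_stab hne h0 h1, hk] at hmain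
  refine ⟨?_, by rw [← hmain]; ring⟩
  have h2 : 1 + p ^ k ∣ Nat.card K := (Dvd.intro_left _ hmain).trans (card_subgroup_dvd_card _)
  rw [H.ord, H.pow] at h2
  rw [H.pow]
  refine Nat.Coprime.dvd_of_dvd_mul_left ?_ h2
  refine Nat.Coprime.pow_right _ ?_
  rw [Nat.coprime_comm, hp.coprime_iff_not_dvd]
  intro h3
  exact hp.one_lt.ne' (Nat.dvd_one.1 ((Nat.dvd_add_left (dvd_pow_self p hk0.ne')).1 h3))

/-- **The centralizer of a non-trivial automorphism.** -/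
theorem fix_cases [IsSimpleGroup K] {α : MulAut K} (hα : α ≠ 1) :
    ¬ p ∣ Nat.card (fixS α) ∨ (∃ P₀ : Sylow p K, (∀ P : Sylow p K, α • P = P ↔ P = P₀) ∧ fixS α ≤ stabilizer K P₀) ∨
    ∃ (P₀ P₁ : Sylow p K) (k : ℕ), P₁ ≠ P₀ ∧ α • P₀ = P₀ ∧ α • P₁ = P₁ ∧ 1 ≤ k ∧ k < N ∧
      Nat.card ↥(fixS α ⊓ P₀) = p ^ k ∧ 1 + p ^ k ∣ (Q + 1) * h ∧
      Nat.card (fixS α) = (1 + p ^ k) * (p ^ k * Nat.card ↥(fixS α ⊓ (stabilizer K P₀ ⊓ stabilizer K P₁))) := by
  have hp : p.Prime := Fact.out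
  by_cases hd : p ∣ Nat.card (fixS α)
  swap
  · exact Or.inl hd
  right
  obtain ⟨u, hu⟩ := exists_prime_orderOf_dvd_card' p hd
  have hu1 : (u : K) ≠ 1 := by
    intro h1
    rw [show u = 1 from Subtype.ext h1, orderOf_one] at hu
    exact hp.one_lt.ne hu
  have hup : IsPGroup p (zpowers (u : K)) :=
    IsPGroup.of_card (n := 1) (by rw [Nat.card_zpowers, orderOf_coe, hu, pow_one])
  obtain ⟨P₀, hP₀⟩ := hup.exists_le_sylow
  have huP : (u : K) ∈ P₀ := hP₀ (mem_zpowers _)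
  have h0 : α • P₀ = P₀ := H.smul_eq_of_fix huP hu1 (by rw [mem_fixS.1 u.2]; exact huP)
  by_cases h1 : ∃ P₁ : Sylow p K, P₁ ≠ P₀ ∧ α • P₁ = P₁
  · right
    obtain ⟨P₁, hne, h1⟩ := h1
    obtain ⟨k, hkN, hk, h2⟩ := H.two_fix hα hne h0 h1
    have hk0 : k ≠ 0 := by
      intro h3
      rw [h3, pow_zero, card_eq_one] at hk
      have h4 : (u : K) ∈ fixS α ⊓ P₀ := ⟨u.2, huP⟩
      rw [hk, mem_bot] at h4
      exact hu1 h4
    exact ⟨P₀, P₁, k, hne, h0, h1, Nat.pos_of_ne_zero hk0, hkN, hk, h2.resolve_left hk0⟩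
  · left
    push Not at h1
    have h2 : ∀ P : Sylow p K, α • P = P → P = P₀ := fun P hP => by
      by_contra hne
      exact h1 P hne hP
    refine ⟨P₀, fun P => ⟨h2 P, fun h3 => h3 ▸ h0⟩, fun x hx => h2 _ ?_⟩
    rw [smul_smul_sylow, mem_fixS.1 hx, h0]

theorem card_le_h {P₀ P₁ : Sylow p K} (hne : P₁ ≠ P₀) (X : Subgroup K) :
    Nat.card ↥(X ⊓ (stabilizer K P₀ ⊓ stabilizer K P₁)) ≤ h := by
  rw [← H.card_two hne]
  exact card_le_of_le inf_le_right

theorem le_of_not_dvd {X : Subgroup K} (hX : ¬ p ∣ Nat.card X) : Nat.card X ∣ (Q + 1) * h := by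
  have h2 : Nat.card X ∣ Nat.card K := card_subgroup_dvd_card _
  rw [H.ord] at h2
  refine Nat.Coprime.dvd_of_dvd_mul_left ?_ h2
  rw [H.pow]
  exact Nat.Coprime.pow_right _ (((Fact.out : p.Prime).coprime_iff_not_dvd.2 hX).symm)

theorem h_pos : 0 < h := by
  have h1 : 0 < Nat.card K := Nat.card_pos
  rw [H.ord] at h1
  exact Nat.pos_of_ne_zero fun h2 => by simp [h2] at h1

/-- all class sizes are at least `Q` -/
theorem fix_bound [IsSimpleGroup K] (hk : ∀ k, 1 ≤ k → k < N → 1 + p ^ k ∣ (Q + 1) * h → (1 + p ^ k) * p ^ k ≤ Q + 1)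
    {α : MulAut K} (hα : α ≠ 1) : Q * Nat.card (fixS α) ≤ Nat.card K := by
  rw [H.ord]
  refine Nat.mul_le_mul_left _ ?_
  rcases H.fix_cases hα with h1 | ⟨P₀, -, h1⟩ | ⟨P₀, P₁, k, hne, -, -, h1, h2, -, h3, h4⟩
  · exact Nat.le_of_dvd (Nat.mul_pos (by omega) H.h_pos) (H.le_of_not_dvd h1)
  · refine (card_le_of_le h1).trans ?_
    rw [H.card_stab]
    exact Nat.mul_le_mul_right _ (by omega)
  · rw [h4, ← mul_assoc]
    exact Nat.mul_le_mul (hk k h1 h2 h3) (H.card_le_h hne _)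

/-- **The stabilizer of a Sylow subgroup** -/
theorem four_of_par [IsSimpleGroup K] (hK : ¬ IsMulCommutative K) {S : Subgroup (MulAut K)} {P₀ : Sylow p K}
    (hS : ∀ s ∈ S, s • P₀ = P₀) {a f : ℕ} (ha : ∀ k, k < N → (k = 0 ∨ 1 + p ^ k ∣ (Q + 1) * h) → p ^ k ≤ a)
    (hf : Nat.card (Out K) ≤ f) (hlt : f * h * a ^ 2 < Q ^ 2) : Four (InnG K) S := by
  classical
  have hfin := H.finite_sylow
  obtain ⟨P₁, hne⟩ := H.exists_ne P₀
  let D : Subgroup (MulAut K) := S ⊓ stabilizer (MulAut K) P₁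
  have hD : Nat.card D ≤ f * h := by
    refine (card_le_out hK D).trans ?_
    rw [mul_comm]
    refine Nat.mul_le_mul hf ?_
    rw [← H.card_two hne]
    exact card_le_of_le fun x hx => ⟨hS _ hx.1, hx.2⟩
  have hex : ∃ z : {P : Sylow p K // P ≠ P₀} × {P : Sylow p K // P ≠ P₀},
      ∀ d : D, (d : MulAut K) • z.1.1 = z.1.1 → (d : MulAut K) • z.2.1 = z.2.1 → (d : MulAut K) = 1 := by
    by_contra hcon
    push Not at hcon
    have h1 := card_le_of_cover (fun (d : D) (z : {P : Sylow p K // P ≠ P₀} × {P : Sylow p K // P ≠ P₀}) =>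
      (d : MulAut K) • z.1.1 = z.1.1 ∧ (d : MulAut K) • z.2.1 = z.2.1 ∧ (d : MulAut K) ≠ 1) hcon (c := a ^ 2) (by
        intro d
        by_cases hd : (d : MulAut K) = 1
        · rw [Nat.card_eq_zero.2 (Or.inl ⟨fun z => z.2.2.2 hd⟩)]
          exact Nat.zero_le _
        obtain ⟨k, hkN, hk, h2⟩ := H.two_fix hd hne (hS _ d.2.1) d.2.2
        have h3 : Nat.card {P : Sylow p K // P ≠ P₀ ∧ (d : MulAut K) • P = P} ≤ a := by
          rw [H.card_fixed hne (hS _ d.2.1) d.2.2, hk]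
          exact ha k hkN (h2.imp id fun h4 => h4.1)
        refine le_trans (Nat.card_le_card_of_injective (fun z =>
          ((⟨z.1.1.1, z.1.1.2, z.2.1⟩, ⟨z.1.2.1, z.1.2.2, z.2.2.1⟩) :
            {P : Sylow p K // P ≠ P₀ ∧ (d : MulAut K) • P = P} ×
              {P : Sylow p K // P ≠ P₀ ∧ (d : MulAut K) • P = P})) ?_) ?_
        · intro z z' hz
          exact Subtype.ext (Prod.ext (Subtype.ext (congrArg (fun w => w.1.1) hz))
            (Subtype.ext (congrArg (fun w => w.2.1) hz)))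
        · rw [Nat.card_prod, pow_two]
          exact Nat.mul_le_mul h3 h3)
    rw [Nat.card_prod, H.card_ne, ← pow_two] at h1
    have h2 := Nat.mul_le_mul_right (a ^ 2) hD
    omega
  obtain ⟨⟨⟨P₂, hP₂⟩, ⟨P₃, hP₃⟩⟩, hz⟩ := hex
  have key : ∀ P : Sylow p K, ∃ x ∈ InnG K, ∀ s : MulAut K, x⁻¹ * s * x ∈ S → s • P = P := by
    intro P
    obtain ⟨x, rfl⟩ := exists_smul_eq K P₀ P
    refine ⟨MulAut.conj x, ⟨x, rfl⟩, fun s hs => ?_⟩
    have h1 := hS _ hs
    rw [mul_smul, mul_smul, inv_smul_eq_iff] at h1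
    exact h1
  obtain ⟨x₁, a1, b1⟩ := key P₁
  obtain ⟨x₂, a2, b2⟩ := key P₂
  obtain ⟨x₃, a3, b3⟩ := key P₃
  exact ⟨x₁, a1, x₂, a2, x₃, a3, fun s hs c1 c2 c3 => hz ⟨s, hs, b1 s c1⟩ (b2 s c2) (b3 s c3)⟩

theorem good_of_par [IsSimpleGroup K] (hK : ¬ IsMulCommutative K) {S : Subgroup (MulAut K)} {P₀ : Sylow p K}
    (hS : ∀ s ∈ S, s • P₀ = P₀) {a f : ℕ} (ha : ∀ k, k < N → (k = 0 ∨ 1 + p ^ k ∣ (Q + 1) * h) → p ^ k ≤ a)
    (hf : Nat.card (Out K) ≤ f) (hlt : f * h * a ^ 2 < Q ^ 2) (h6 : 6 ≤ Q) : Good (InnG K) S := by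
  refine good_of_four hK (H.four_of_par hK hS ha hf hlt) ?_
  have h1 : Nat.card (innS S) ≤ Q * h := by
    rw [← H.card_stab P₀]
    exact card_le_of_le fun x hx => hS _ hx
  rw [H.ord]
  nlinarith

omit [Fact p.Prime] [Finite K] in
/-- if the inner part of `S` lies in the normalizer of `P₀` and meets `P₀`, then `S` fixes `P₀` -/
theorem fix_of_le {S : Subgroup (MulAut K)} {P₀ : Sylow p K} (h1 : innS S ≤ stabilizer K P₀) {u : K}
    (hu : u ∈ innS S) (hu0 : u ∈ P₀) (hu1 : u ≠ 1) : ∀ s ∈ S, s • P₀ = P₀ := fun s hs =>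
  H.smul_eq_of_fix hu0 hu1 (mem_of_smul_eq (apply_mem_smul s hu0) (h1 (apply_mem_innS hs hu)))

/-- a subgroup of the normalizer of `P₀` meeting `P₀` trivially -/
theorem card_le_of_inf_bot {X : Subgroup K} {P₀ : Sylow p K} (h1 : X ≤ stabilizer K P₀)
    (h2 : ∀ u ∈ X, u ∈ P₀ → u = 1) : Nat.card X ≤ h := by
  have h3 : Nat.card (P₀ × X) ≤ Nat.card (stabilizer K P₀) := by
    refine Nat.card_le_card_of_injective (fun z : P₀ × X =>
      (⟨(z.1 : K) * z.2, mul_mem (smul_self_of_mem z.1.2) (h1 z.2.2)⟩ : stabilizer K P₀)) ?_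
    rintro ⟨u, t⟩ ⟨v, s⟩ huv
    have h4 : (u : K) * t = v * s := congrArg Subtype.val huv
    have h5 : (s : K) * (t : K)⁻¹ = (v : K)⁻¹ * u := by
      rw [eq_inv_mul_iff_mul_eq, ← mul_assoc, ← h4, mul_inv_cancel_right]
    have h6 := h2 _ (mul_mem s.2 (inv_mem t.2)) (h5 ▸ mul_mem (inv_mem v.2) u.2)
    have h7 : (t : K) = s := (mul_inv_eq_one.1 h6).symm
    rw [h7] at h4
    exact Prod.ext (Subtype.ext (mul_right_cancel h4)) (Subtype.ext h7)
  rw [Nat.card_prod, H.cardP, H.card_stab] at h3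
  exact Nat.le_of_mul_le_mul_left h3 (by have := H.one_lt; omega)

end TI

end Cfsg.Agent.SB.R1
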