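import Cfsg.Agent.SB.Tor.U1
import Cfsg.Agent.SB.Tor.Refl
import Cfsg.Agent.SB.Fld.Rows
import Cfsg.Agent.SB.Cl.Basic

/-!
# S5765: three-dimensional unitary groups, stabilizers of lines (helper61)

`FixL h v` is the stabilizer of the line of `v`; `four_line` : four conjugates of it meet trivially.
-/

set_option autoImplicit false
set_option linter.unusedSectionVars false

namespace Cfsg.Agent.SB.R1

open Cfsg Cfsg.Agent.DS.Cl Cfsg.Agent.DS.Cl.Fwd Module Cfsg.Agent.SB.Tor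

variable {K V : Type} [Field K] [Finite K] [AddCommGroup V] [Module K V] [Finite V] {h : HF K V}

/-- the stabilizer of the line of `v` -/
def FixL (h : HF K V) (v : V) : Subgroup (RingAut h.EB) where
  carrier := {γ | ∀ a, h.ap (γ a) v = 0 ↔ h.ap a v = 0}
  mul_mem' := fun hγ hδ a => (hγ _).trans (hδ a)
  one_mem' := fun _ => Iff.rfl
  inv_mem' := fun {γ} hγ a => by rw [← hγ (γ⁻¹ a), ra_apply_inv]

theorem FixL_smul {c : K} (hc : c ≠ 0) (v : V) : FixL h (c • v) = FixL h v := by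
  ext γ
  refine forall_congr' fun a => ?_
  rw [map_smul, map_smul, smul_eq_zero_iff_right hc, smul_eq_zero_iff_right hc]

theorem FixL.exists_smul {γ : RingAut h.EB} (L : SL h γ) {v : V} (hγ : γ ∈ FixL h v) : ∃ c : K, L.g v = c • v := by
  by_contra hcon
  push Not at hcon
  obtain ⟨y, h1, h2⟩ := exists_sep (h := h) hcon
  have h3 : h.b v y = 0 := by rw [h.swap, h1, map_zero, mul_zero]
  have h4 := (hγ (γ⁻¹ (h.eb (h.ro (L.g v) y)))).1 (by rw [ra_apply_inv, h.ap_eb, h.ro_apply, h3, zero_smul])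
  have h5 := L.conj (γ⁻¹ (h.eb (h.ro (L.g v) y))) v
  rw [h4, map_zero, ra_apply_inv, h.ap_eb, h.ro_apply, smul_eq_zero_iff_right (h.ne_swap h2)] at h5
  exact hcon 0 (by rw [h5, zero_smul])

theorem mem_FixL {γ : RingAut h.EB} (L : SL h γ) {v : V} {c : K} (hv : L.g v = c • v) : γ ∈ FixL h v := by
  intro a
  by_cases hc : c = 0
  · rw [hc, zero_smul, map_eq_zero_iff _ L.g.injective] at hv
    simp [hv]
  rw [← smul_eq_zero_iff_right hc, ← map_smul, ← hv, L.conj, map_eq_zero_iff _ L.g.injective]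

theorem ap_cj_zero {u : h.EBˣ} {v w : V} {c : K} (hc : c ≠ 0) (hu : h.ap u v = c • w) (a : h.EB) :
    h.ap (cj h.EB u a) w = 0 ↔ h.ap a v = 0 := by
  rw [← smul_eq_zero_iff_right hc, ← map_smul, ← hu, ← h.ap_mul, cj_mul_eq, h.ap_mul]
  refine ⟨fun h0 => ?_, fun h0 => by rw [h0, map_zero]⟩
  rw [← ap_inv_ap h u (h.ap a v), h0, map_zero]

theorem cj_mem_FixL {u : h.EBˣ} {v : V} (hu : h.ap u v = v) : cj h.EB u ∈ FixL h v :=
  ap_cj_zero one_ne_zero (by rw [hu, one_smul])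

theorem conj_FixL {u : h.EBˣ} {v w : V} {c : K} (hc : c ≠ 0) (hu : h.ap u v = c • w) {s : RingAut h.EB}
    (hs : (cj h.EB u)⁻¹ * s * cj h.EB u ∈ FixL h v) : s ∈ FixL h w := by
  intro a
  obtain ⟨a, rfl⟩ := (cj h.EB u).surjective a
  rw [ap_cj_zero hc hu, ← hs a, ← ap_cj_zero hc hu, ra_mul, ra_mul, ra_apply_inv]

/-- three independent vectors -/
def Ind3 (K : Type) {V : Type} [Field K] [AddCommGroup V] [Module K V] (x y z : V) : Prop :=
  ∀ a b c : K, a • x + b • y + c • z = 0 → a = 0 ∧ b = 0 ∧ c = 0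

theorem Ind3.span (hV : finrank K V = 3) {x y z : V} (H : Ind3 K x y z) (v : V) :
    ∃ a b c : K, v = a • x + b • y + c • z := by
  have : Module.Finite K V := Module.Finite.of_finite
  have h1 : LinearIndependent K ![x, y, z] := by
    rw [Fintype.linearIndependent_iff]
    intro g hg i
    rw [Fin.sum_univ_three] at hg
    obtain ⟨a, b, c⟩ := H _ _ _ hg
    fin_cases i
    exacts [a, b, c]
  have h2 := h1.span_eq_top_of_card_eq_finrank' (by rw [hV, Fintype.card_fin])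
  obtain ⟨g, hg⟩ := (Submodule.mem_span_range_iff_exists_fun K).1 (h2 ▸ Submodule.mem_top : v ∈ _)
  rw [Fin.sum_univ_three] at hg
  exact ⟨_, _, _, hg.symm⟩

theorem Ind3.eq_zero (hV : finrank K V = 3) {x y z : V} (H : Ind3 K x y z) {v : V} (h1 : h.b x v = 0)
    (h2 : h.b y v = 0) (h3 : h.b z v = 0) : v = 0 := h.nondeg v fun u => by
  obtain ⟨a, b, c, rfl⟩ := H.span hV u
  rw [h.add_left, h.add_left, h.smul_left, h.smul_left, h.smul_left, h1, h2, h3]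
  simp

theorem exists_perp (hV : 3 ≤ finrank K V) (x y : V) : ∃ w, w ≠ 0 ∧ h.b w x = 0 ∧ h.b w y = 0 := by
  have : Module.Finite K V := Module.Finite.of_finite
  have h1 := LinearMap.ker_ne_bot_of_finrank_lt (f := (h.lin x).prod (h.lin y)) (by simp; omega)
  obtain ⟨w, hw, hw0⟩ := Submodule.exists_mem_ne_zero_of_ne_bot h1
  exact ⟨w, hw0, congrArg Prod.fst (LinearMap.mem_ker.1 hw), congrArg Prod.snd (LinearMap.mem_ker.1 hw)⟩

theorem b_zero {x y : V} (h0 : h.b x y = 0) : h.b y x = 0 := by rw [h.swap, h0, map_zero, mul_zero]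

theorem qr_smul (κ c : K) (y : V) : qr h κ (c • y) = qr h (κ * h.τ c * c) y := h.ap_ext fun x => by
  rw [ap_qr, ap_qr, h.smul_right, smul_smul]
  congr 2
  ring

/-- `u` is an isometry and a quasi-reflection or a transvection -/
def IsQ (u : h.EBˣ) : Prop := (u : h.EB) * star (u : h.EB) = 1 ∧ ∃ κ y, (u : h.EB) = qr h κ y

/-- a quasi-reflection or a transvection takes the line of `v` to the line of `w` -/
def Reach (h : HF K V) (v w : V) : Prop := ∃ u : h.EBˣ, IsQ u ∧ ∃ c : K, c ≠ 0 ∧ h.ap u v = c • w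

section unitary

variable (hU : Cl.IsU h)
include hU

theorem tau_ne : h.τ ≠ RingHom.id K := fun e => by
  obtain ⟨c, hc⟩ := hU.2
  exact hc (by rw [e]; rfl)

theorem b_swap (x y : V) : h.b y x = h.τ (h.b x y) := by rw [h.swap, hU.1, one_mul]

theorem exists_norm {v : V} (hv : h.b v v ≠ 0) {n : K} (hn : h.τ n = n) (h0 : n ≠ 0) :
    ∃ c : K, c ≠ 0 ∧ h.b (c • v) (c • v) = n := by
  obtain ⟨c, hc⟩ := ClassicalGeometry.InvolutiveNorm.exists_mul_sigma_eq (tau_ne hU) h.τ_τ (a := n / h.b v v)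
    (by rw [map_div₀, hn, tau_self hU.1])
  refine ⟨c, ?_, by rw [h.smul_left, h.smul_right, ← mul_assoc, hc, div_mul_cancel₀ _ hv]⟩
  rintro rfl
  rw [zero_mul] at hc
  exact div_ne_zero h0 hv hc.symm

theorem exists_gen : ∃ ξ : K, ξ * h.τ ξ = 1 ∧ (Nat.card K ≠ 4 → ξ ^ 3 ≠ 1) ∧ h.τ ξ ≠ ξ ∧
    ∀ σ : K →+* K, σ ξ = ξ → σ = RingHom.id K := by
  let τ : K ≃+* K := ⟨⟨h.τ, h.τ, h.τ_τ, h.τ_τ⟩, map_mul h.τ, map_add h.τ⟩
  obtain ⟨ξ, h1, h2, -, h3⟩ := H324.FC.exists_xi τ h.τ_τ hU.2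
  exact ⟨ξ, h1, h2, fun e => tau_ne hU (h3 _ e), h3⟩

theorem exists_sym (hK : Nat.card K ≠ 4) (m : K) : ∃ n : K, h.τ n = n ∧ n ≠ 0 ∧ n ≠ m := by
  by_cases hm : m = 1
  swap
  · exact ⟨1, map_one _, one_ne_zero, Ne.symm hm⟩
  obtain ⟨ξ, h1, h2, h3, -⟩ := exists_gen hU
  refine ⟨-1 - ξ - h.τ ξ, ?_, fun e => h2 hK ?_, fun e => h3 ?_⟩
  · simp only [map_sub, map_neg, map_one, h.τ_τ]
    ring
  · linear_combination (1 - ξ) * ξ * e + (1 - ξ) * h1
  · have h8 : (ξ + 1) ^ 2 = 0 := by linear_combination (-ξ) * e - ξ * hm - h1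
    rw [eq_neg_of_add_eq_zero_left (pow_eq_zero_iff two_ne_zero |>.1 h8), map_neg, map_one]

theorem house {v w : V} (hvw : h.b w w = h.b v v) (hβ : h.b w (w - v) ≠ 0) : ∃ u : h.EBˣ, IsQ u ∧ h.ap u w = v := by
  have h1 : h.τ (h.b w (w - v)) = h.b w w - h.b v w := by
    rw [h.sub_right, map_sub, tau_self hU.1, b_swap hU w v]
  have h2 : h.τ (h.b w (w - v)) ≠ 0 := by simpa using hβ
  have h3 : h.b (w - v) (w - v) = h.b w (w - v) + h.τ (h.b w (w - v)) := by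
    rw [h1, h.sub_left, h.sub_right v, ← hvw]
    ring
  refine ⟨isoU h _ (qr_form h hU.1 (κ := (h.b w (w - v))⁻¹) (v := w - v) ?_), ⟨isoU_ms _ _ _, _, _, rfl⟩, ?_⟩
  · rw [h3, map_inv₀]
    field_simp
    ring
  · rw [isoU_val, ap_qr, inv_mul_cancel₀ hβ, one_smul, sub_sub_cancel]

theorem reach_iso {v w : V} (hv : h.b v v = 0) (hw : h.b w w = 0) (hvw : h.b v w ≠ 0) : Reach h v w := by
  obtain ⟨u, h1, h2⟩ := house hU (hv.trans hw.symm) (by rwa [h.sub_right, hv, zero_sub, neg_ne_zero])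
  exact ⟨u, h1, 1, one_ne_zero, by rw [h2, one_smul]⟩

theorem reach {v w : V} (hv : h.b v v ≠ 0) (hw : h.b w w ≠ 0) : Reach h v w := by
  obtain ⟨c, hc, h1⟩ := exists_norm hU hw (tau_self hU.1 v) hv
  by_cases h2 : h.b v (v - c • w) = 0
  swap
  · obtain ⟨u, h3, h4⟩ := house hU h1.symm h2
    exact ⟨u, h3, c, hc, h4⟩
  obtain ⟨ξ, a1, -, a2, -⟩ := exists_gen hU
  rw [h.sub_right, sub_eq_zero] at h2
  obtain ⟨u, h3, h4⟩ := house hU (v := ξ • c • w) (w := v)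
    (by rw [h.smul_left, h.smul_right, h1, ← mul_assoc, a1, one_mul]) (fun h3 => by
      rw [h.sub_right, h.smul_right, ← h2, ← one_sub_mul, mul_eq_zero_iff_right hv, sub_eq_zero] at h3
      rw [← h3, mul_one] at a1
      exact a2 (h3.symm.trans a1.symm))
  exact ⟨u, h3, ξ * c, mul_ne_zero (left_ne_zero_of_mul (a1.trans_ne one_ne_zero)) hc, by rw [h4, mul_smul]⟩

theorem transv_mem (hV : 3 ≤ finrank K V) (F : FR h.EB) {u : h.EBˣ} (hu : (u : h.EB) * star (u : h.EB) = 1) {κ : K}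
    {y : V} (hq : (u : h.EB) = qr h κ y) (hy : h.b y y = 0) : cj h.EB u ∈ F.S := by
  have : Module.Finite K V := Module.Finite.of_finite
  by_cases h0 : κ = 0 ∨ y = 0
  · have h1 : u = 1 := Units.ext (h.ap_ext fun x => by
      rw [hq, ap_qr]
      rcases h0 with rfl | rfl <;> simp [h.ap_one])
    rw [h1, map_one]
    exact one_mem _
  push Not at h0
  obtain ⟨θ, hθ⟩ := hU.2
  obtain ⟨x, hx⟩ := h.exists_ne h0.2
  have h1 : h.τ κ = -κ := by
    have h2 := (h.unit_iff u).1 hu x x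
    rw [hq, ap_qr, h.sub_left, h.sub_right, h.sub_right, h.smul_left, h.smul_left, h.smul_right, h.smul_right, hy,
      b_swap hU x y, map_mul] at h2
    have h3 : h.b x y * h.τ (h.b x y) ≠ 0 := mul_ne_zero hx (by simpa using hx)
    apply mul_left_cancel₀ h3
    linear_combination -h2
  obtain ⟨-, t, ht, ht'⟩ := (Fld.luU h hθ).transv F hV (s := h.eb (((-κ) • h.lin y).smulRight y)) (by
      refine h.ap_ext fun z => h.ext_right fun w => ?_
      rw [h.b_star]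
      change h.b ((-κ * h.b w y) • y) z = h.b w (-((-κ * h.b z y) • y))
      rw [← neg_smul, h.smul_left, h.smul_right, b_swap hU z y, map_neg, map_mul, map_neg, h1]
      ring) h0.2 (f := (-κ) • h.lin y) (fun h2 => mul_ne_zero (neg_ne_zero.2 h0.1) hx (LinearMap.congr_fun h2 x))
    (show -κ * h.b y y = 0 by rw [hy, mul_zero]) rfl
  refine ⟨t, ht, congrArg _ (Units.ext (h.ap_ext fun z => ?_))⟩
  rw [ht', hq, ap_qr, h.ap_add, h.ap_one, sub_eq_add_neg, ← neg_smul, ← neg_mul]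
  rfl

/-- quasi-reflections and transvections lie in `T S` -/
theorem qr_TS (hV : 3 ≤ finrank K V) (F : FR h.EB) {S : Subgroup (RingAut h.EB)} {y₀ : V} (hy₀ : h.b y₀ y₀ ≠ 0)
    (hS : ∀ k ∈ F.Iso, (∃ κ, (k : h.EB) = qr h κ y₀) → cj h.EB k ∈ S) {u : h.EBˣ} (hu : IsQ u) :
    ∃ s ∈ S, cj h.EB u * s⁻¹ ∈ F.S := by
  obtain ⟨h1, κ, y, h2⟩ := hu
  by_cases hy : h.b y y = 0
  · exact ⟨1, one_mem _, by rw [inv_one, mul_one]; exact transv_mem hU hV F h1 h2 hy⟩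
  obtain ⟨g, hg, c, -, hc⟩ := reach hU hy hy₀
  have hF := L_eq_of_U hU F
  have hg' := mem_Iso_max hF hg.1
  have hu' := mem_Iso_max hF h1
  have hk : g * u * g⁻¹ ∈ F.Iso := mul_mem (mul_mem hg' hu') (inv_mem hg')
  have h3 := Cl.cj_TS F (inv_mem hg') hk (hS _ hk ⟨_, by
    rw [Units.val_mul, Units.val_mul, h2, qr_conj h hg.1, hc, qr_smul]⟩)
  have e : g⁻¹ * (g * u * g⁻¹) * g⁻¹⁻¹ = u := by group
  rwa [e] at h3

variable (hV : finrank K V = 3)
include hV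

theorem third {x y : V} (hd : h.b x x * h.b y y ≠ h.b x y * h.b y x) {n : K} (hn : h.τ n = n) (h0 : n ≠ 0) :
    ∃ w, h.b w w = n ∧ h.b w x = 0 ∧ h.b w y = 0 ∧ Ind3 K x y w := by
  obtain ⟨w, hw0, h1, h2⟩ := exists_perp (h := h) hV.ge x y
  have key : ∀ w, w ≠ 0 → h.b w x = 0 → h.b w y = 0 → Ind3 K x y w := fun w hw0 h1 h2 a b c habc => by
    have h3 := congrArg (fun v => h.b v x) habc
    have h4 := congrArg (fun v => h.b v y) habc
    simp only [h.add_left, h.smul_left, h.zero_left, h1, h2, mul_zero, add_zero] at h3 h4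
    have ha : a = 0 := (mul_eq_zero.1 (show a * (h.b x x * h.b y y - h.b x y * h.b y x) = 0 by
      linear_combination h.b y y * h3 - h.b y x * h4)).resolve_right (sub_ne_zero.2 hd)
    have hb : b = 0 := (mul_eq_zero.1 (show b * (h.b x x * h.b y y - h.b x y * h.b y x) = 0 by
      linear_combination h.b x x * h4 - h.b x y * h3)).resolve_right (sub_ne_zero.2 hd)
    rw [ha, hb, zero_smul, zero_smul, add_zero, zero_add] at habc
    exact ⟨ha, hb, (smul_eq_zero.1 habc).resolve_right hw0⟩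
  obtain ⟨c, hc, h3⟩ := exists_norm hU (v := w)
    (fun h3 => hw0 ((key w hw0 h1 h2).eq_zero hV (b_zero h1) (b_zero h2) h3)) hn h0
  have h4 : h.b (c • w) x = 0 := by rw [h.smul_left, h1, mul_zero]
  have h5 : h.b (c • w) y = 0 := by rw [h.smul_left, h2, mul_zero]
  exact ⟨c • w, h3, h4, h5, key _ (smul_ne_zero hc hw0) h4 h5⟩

theorem second {x : V} (hx : h.b x x ≠ 0) {n : K} (hn : h.τ n = n) (h0 : n ≠ 0) :
    ∃ y, h.b y y = n ∧ h.b y x = 0 := by
  suffices H : ∃ y, h.b y y ≠ 0 ∧ h.b y x = 0 by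
    obtain ⟨y, h1, h2⟩ := H
    obtain ⟨c, -, hc⟩ := exists_norm hU h1 hn h0
    exact ⟨c • y, hc, by rw [h.smul_left, h2, mul_zero]⟩
  by_contra hcon
  push Not at hcon
  have h1 : ∀ y, h.b y x = 0 → h.b y y = 0 := fun y hy => by
    by_contra h2
    exact hcon y h2 hy
  obtain ⟨w, hw0, hw, -⟩ := exists_perp (h := h) hV.ge x x
  obtain ⟨y, hy⟩ := h.exists_ne hw0
  obtain ⟨z, hz, hzw⟩ : ∃ z, h.b z x = 0 ∧ h.b z w ≠ 0 :=
    ⟨y - (h.b y x / h.b x x) • x, by rw [h.sub_left, h.smul_left, div_mul_cancel₀ _ hx, sub_self],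
      by rwa [h.sub_left, h.smul_left, b_zero hw, mul_zero, sub_zero]⟩
  obtain ⟨c, hc⟩ := ClassicalGeometry.InvolutiveNorm.exists_add_sigma_ne_zero (tau_ne hU)
  have h2 := h1 (w + (c / h.b z w) • z) (by rw [h.add_left, h.smul_left, hw, hz, mul_zero, add_zero])
  rw [h.add_left, h.add_right, h.smul_left, h.smul_right, h.add_right, h.smul_right, h1 w hw, h1 z hz, mul_zero,
    add_zero, zero_add, div_mul_cancel₀ _ hzw, b_swap hU z w, ← map_mul, div_mul_cancel₀ _ hzw, add_comm] at h2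
  exact hc h2

end unitary

/-- a frame of the projective plane which is fixed by the identity only -/
structure Cfg (h : HF K V) (x y z : V) : Prop where
  ind : Ind3 K x y z
  ratio : ∃ ξ : K, (∀ σ : K →+* K, σ ξ = ξ → σ = RingHom.id K) ∧
    ((h.b x x ≠ 0 ∧ h.b y x = ξ * h.b x x) ∨ (h.b y x ≠ 0 ∧ h.b z x = ξ * h.b y x))

theorem Cfg.eq_one (hV : finrank K V = 3) {x y z : V} (C : Cfg h x y z) {γ : RingAut h.EB} (hγ : γ ∈ SAut h.EB)
    (h1 : γ ∈ FixL h x) (h2 : γ ∈ FixL h y) (h3 : γ ∈ FixL h z) (h4 : γ ∈ FixL h (x + y + z)) : γ = 1 := by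
  have : Nontrivial V := Module.nontrivial_of_finrank_pos (R := K) (by omega)
  obtain ⟨L⟩ := exists_SL h hγ
  obtain ⟨a, ha⟩ := FixL.exists_smul L h1
  obtain ⟨b, hb⟩ := FixL.exists_smul L h2
  obtain ⟨c, hc⟩ := FixL.exists_smul L h3
  obtain ⟨d, hd⟩ := FixL.exists_smul L h4
  rw [map_add, map_add, ha, hb, hc] at hd
  obtain ⟨e1, e2, e3⟩ := C.ind (a - d) (b - d) (c - d) (by linear_combination (norm := module) hd)
  rw [sub_eq_zero.1 e1] at ha
  rw [sub_eq_zero.1 e2] at hb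
  rw [sub_eq_zero.1 e3] at hc
  have key : ∀ s s' ξ, L.g s = d • s → L.g s' = d • s' → h.b s x ≠ 0 → h.b s' x = ξ * h.b s x → L.σ ξ = ξ := by
    intro s s' ξ a1 a2 a3 a4
    have a5 := L.form s x
    have a6 := L.form s' x
    rw [a1, ha, h.smul_left, h.smul_right] at a5
    rw [a2, ha, h.smul_left, h.smul_right, a4, map_mul] at a6
    apply mul_left_cancel₀ (mul_ne_zero L.μ_ne ((map_ne_zero L.σ).2 a3))
    linear_combination ξ * a5 - a6
  obtain ⟨ξ, hξ, h5⟩ := C.ratio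
  have hσ : ∀ c, L.σ c = c := RingHom.congr_fun (hξ (L.σ : K →+* K)
    (h5.elim (fun h6 => key x y ξ ha hb h6.1 h6.2) fun h6 => key y z ξ hb hc h6.1 h6.2))
  refine L.eq_one (c := d) fun v => ?_
  obtain ⟨s, t, u, rfl⟩ := C.ind.span hV v
  rw [map_add, map_add, L.smul, L.smul, L.smul, hσ, hσ, hσ, ha, hb, hc]
  module

variable (hU : Cl.IsU h) (hV : finrank K V = 3)
include hU hV

theorem cfg_iso {e : V} (he0 : e ≠ 0) (he : h.b e e = 0) : ∃ y z w : V, Cfg h e y z ∧ h.b w w ≠ 0 ∧ h.b e w = 0 ∧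
    ∀ v, v = y ∨ v = z ∨ v = e + y + z → h.b v v = 0 ∧ h.b e v ≠ 0 := by
  obtain ⟨f, hfe, hff⟩ : ∃ f, h.b f e = 1 ∧ h.b f f = 0 := by
    obtain ⟨y, hy⟩ := h.exists_ne he0
    have h1 : h.b ((h.b y e)⁻¹ • y) e = 1 := by rw [h.smul_left, inv_mul_cancel₀ hy]
    generalize (h.b y e)⁻¹ • y = y at h1
    obtain ⟨t, ht⟩ := ClassicalGeometry.InvolutiveNorm.exists_add_sigma_eq (tau_ne hU) h.τ_τ (tau_self hU.1 y)
    refine ⟨y - t • e, by rw [h.sub_left, h.smul_left, h1, he, mul_zero, sub_zero], ?_⟩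
    rw [h.sub_left, h.sub_right, h.sub_right, h.smul_left, h.smul_left, h.smul_right, h.smul_right, he, b_swap hU y e,
      h1, map_one]
    linear_combination -ht
  have hef : h.b e f = 1 := by rw [b_swap hU, hfe, map_one]
  obtain ⟨w, hw, hwe, hwf, hI⟩ := third hU hV (x := e) (y := f) (by rw [he, hef, hfe]; simp) (map_one _) one_ne_zero
  have hew := b_zero hwe
  have hfw := b_zero hwf
  obtain ⟨ξ, a1, -, a2, a3⟩ := exists_gen hU
  obtain ⟨θ, hθ⟩ := ClassicalGeometry.InvolutiveNorm.exists_add_sigma_eq (tau_ne hU) h.τ_τ (a := -1) (by simp)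
  have hξ0 : ξ ≠ 0 := left_ne_zero_of_mul (a1.trans_ne one_ne_zero)
  have hξ1 : 1 + ξ ≠ 0 := fun h0 => a2 (by rw [eq_neg_of_add_eq_zero_right h0, map_neg, map_one])
  have hθ0 : h.τ θ ≠ 0 := fun h0 => by
    rw [h0, (map_eq_zero h.τ).1 h0, add_zero] at hθ
    exact one_ne_zero (neg_eq_zero.1 hθ.symm)
  obtain ⟨s, hs0, hs⟩ : ∃ s : K, s ≠ 0 ∧ -(1 + ξ) * (ξ * s) = h.τ θ :=
    ⟨h.τ θ / (-(1 + ξ) * ξ), div_ne_zero hθ0 (mul_ne_zero (neg_ne_zero.2 hξ1) hξ0), by field_simp⟩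
  have hs' := congrArg h.τ hs
  simp only [map_mul, map_neg, map_add, map_one, h.τ_τ] at hs'
  have hτ : ∀ c : K, c ≠ 0 → h.τ c ≠ 0 := fun c hc => by simpa using hc
  refine ⟨s • f, -(1 + h.τ ξ) • e + (ξ * s) • f + w, w, ⟨fun a b c habc => ?_, ξ, a3, Or.inr ⟨?_, ?_⟩⟩,
    hw.trans_ne one_ne_zero, hew, ?_⟩
  · obtain ⟨b1, b2, b3⟩ := hI (a - c * (1 + h.τ ξ)) (b * s + c * (ξ * s)) c (by linear_combination (norm := module) habc)
    rw [b3, zero_mul, sub_zero] at b1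
    rw [b3, zero_mul, add_zero] at b2
    exact ⟨b1, (mul_eq_zero.1 b2).resolve_right hs0, b3⟩
  · rwa [h.smul_left, hfe, mul_one]
  · simp only [h.add_left, h.smul_left, he, hfe, hwe]
    ring
  · rintro v (rfl | rfl | rfl) <;>
      simp only [h.add_left, h.add_right, h.smul_left, h.smul_right, he, hfe, hef, hff, hwe, hwf, hew, hfw, hw,
        map_mul, map_neg, map_add, map_one, h.τ_τ, mul_zero, mul_one, add_zero, zero_add]
    · exact ⟨trivial, hτ s hs0⟩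
    · exact ⟨by linear_combination hθ + hs + hs', mul_ne_zero (hτ ξ hξ0) (hτ s hs0)⟩
    · refine ⟨by linear_combination hθ + hs + hs', ?_⟩
      rw [← one_add_mul, ← map_one h.τ, ← map_add]
      exact mul_ne_zero (hτ _ hξ1) (hτ s hs0)

theorem cfg_an (hK : Nat.card K ≠ 4) {x : V} (hx : h.b x x = 1) : ∃ y z : V, Cfg h x y z ∧ h.b x z = 0 ∧
    ∀ v, v = y ∨ v = z ∨ v = x + y + z → h.b v v ≠ 0 := by
  obtain ⟨ξ, a1, -, -, a3⟩ := exists_gen hU
  obtain ⟨n, n1, n2, n3⟩ := exists_sym hU hK (-1)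
  obtain ⟨y, hy, hyx⟩ := second hU hV (hx.trans_ne one_ne_zero) n1 n2
  have hxy := b_zero hyx
  obtain ⟨m, m1, m2, m3⟩ := exists_sym hU hK (-((1 + ξ) * (1 + h.τ ξ) + n))
  obtain ⟨w, hw, hwx, hwy, hI⟩ := third hU hV (x := x) (y := y) (by rw [hx, hy, hyx]; simpa using n2) m1 m2
  have hxw := b_zero hwx
  have hyw := b_zero hwy
  refine ⟨ξ • x + y, w, ⟨fun a b c habc => ?_, ξ, a3, Or.inl ⟨hx.trans_ne one_ne_zero, ?_⟩⟩, hxw, ?_⟩
  · obtain ⟨b1, b2, b3⟩ := hI (a + b * ξ) b c (by linear_combination (norm := module) habc)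
    rw [b2, zero_mul, add_zero] at b1
    exact ⟨b1, b2, b3⟩
  · rw [h.add_left, h.smul_left, hyx, add_zero]
  · rintro v (rfl | rfl | rfl) <;>
      simp only [h.add_left, h.add_right, h.smul_left, h.smul_right, hx, hy, hw, hxy, hyx, hwx, hwy, hxw, hyw,
        mul_zero, mul_one, add_zero, zero_add]
    · exact fun h0 => n3 (by linear_combination h0 - a1)
    · exact m2
    · exact fun h0 => m3 (by linear_combination h0)

/-- **Stabilizers of lines.** -/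
theorem four_line (hK : Nat.card K ≠ 4) (F : FR h.EB) {v : V} (hv : v ≠ 0) : Four F.S (F.Aut ⊓ FixL h v) := by
  have key : ∀ x y z w : V, Cfg h x y z → h.b w w ≠ 0 → h.b x w = 0 → Reach h x y → Reach h x z →
      Reach h x (x + y + z) → Four F.S (F.Aut ⊓ FixL h x) := by
    rintro x y z w C hw hxw ⟨u₁, a₁, c₁, b₁, d₁⟩ ⟨u₂, a₂, c₂, b₂, d₂⟩ ⟨u₃, a₃, c₃, b₃, d₃⟩
    have h1 := @qr_TS _ _ _ _ _ _ _ _ hU hV.ge F (F.Aut ⊓ FixL h x) w hw fun k hk ⟨κ, hκ⟩ =>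
      ⟨FR.cj_mem_Aut hk, cj_mem_FixL (by rw [hκ, ap_qr, hxw, mul_zero, zero_smul, sub_zero])⟩
    exact four_of_TS (h1 a₁) (h1 a₂) (h1 a₃) fun s hs e₁ e₂ e₃ =>
      C.eq_one hV hs.1.1 hs.2 (conj_FixL b₁ d₁ e₁.2) (conj_FixL b₂ d₂ e₂.2) (conj_FixL b₃ d₃ e₃.2)
  by_cases h0 : h.b v v = 0
  · obtain ⟨y, z, w, C, h1, h2, h3⟩ := cfg_iso hU hV hv h0
    have h4 := fun u hu => reach_iso hU h0 (h3 u hu).1 (h3 u hu).2
    exact key v y z w C h1 h2 (h4 _ (Or.inl rfl)) (h4 _ (Or.inr (Or.inl rfl))) (h4 _ (Or.inr (Or.inr rfl)))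
  · obtain ⟨c, hc, h1⟩ := exists_norm hU h0 (map_one _) one_ne_zero
    obtain ⟨y, z, C, h2, h3⟩ := cfg_an hU hV hK h1
    have h4 := fun u hu => reach hU (h1.trans_ne one_ne_zero) (h3 u hu)
    rw [← FixL_smul hc]
    exact key _ y z z C (h3 _ (Or.inr (Or.inl rfl))) h2 (h4 _ (Or.inl rfl)) (h4 _ (Or.inr (Or.inl rfl)))
      (h4 _ (Or.inr (Or.inr rfl)))

end Cfsg.Agent.SB.R1
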