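import Cfsg.Agent.SB.R1.U3A

/-!
# S5765: three-dimensional unitary groups, invariant lines (helper61)
-/

set_option autoImplicit false
set_option linter.unusedSectionVars false

namespace Cfsg.Agent.SB.R1

open Cfsg Cfsg.Agent.DS.Cl Cfsg.Agent.DS.Cl.Fwd Module Cfsg.Agent.SB.Tor

variable {K V : Type} [Field K] [Finite K] [AddCommGroup V] [Module K V] [Finite V] {h : HF K V}

theorem ind3_of {x y z : V} (H : Ind K x y) (hz : ∀ a b : K, z ≠ a • x + b • y) : Ind3 K x y z := by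
  intro a b c habc
  have hc : c = 0 := by
    by_contra hc
    refine hz (-(c⁻¹ * a)) (-(c⁻¹ * b)) (smul_right_injective V hc ?_)
    change c • z = c • (-(c⁻¹ * a) • x + -(c⁻¹ * b) • y)
    rw [smul_add, smul_smul, smul_smul, mul_neg, mul_neg, mul_inv_cancel_left₀ hc, mul_inv_cancel_left₀ hc]
    linear_combination (norm := module) habc
  rw [hc, zero_smul, add_zero] at habc
  exact ⟨(H a b habc).1, (H a b habc).2, hc⟩

theorem ap_pow_sc {z : h.EB} {c : K} (hz : ∀ v, h.ap z v = c • v) (n : ℕ) (v : V) : h.ap (z ^ n) v = c ^ n • v := by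
  induction n with
  | zero => rw [pow_zero, pow_zero, one_smul, h.ap_one]
  | succ n ih => rw [pow_succ', pow_succ', h.ap_mul, ih, hz, mul_smul]

variable (hV : finrank K V = 3) {S : Subgroup (RingAut h.EB)} (hS : S ≤ SAut h.EB)
include hV hS

/-- an invariant subspace gives an invariant line -/
theorem line_of_sub (W : Submodule K V) (h0 : W ≠ ⊥) (h1 : W ≠ ⊤)
    (hW : ∀ γ ∈ S, ∀ L : SL h γ, ∀ w ∈ W, L.g w ∈ W) : ∃ v, v ≠ 0 ∧ S ≤ FixL h v := by
  obtain ⟨x, hx, hx0⟩ := Submodule.exists_mem_ne_zero_of_ne_bot h0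
  have : Nontrivial V := ⟨x, 0, hx0⟩
  by_cases h2 : ∀ w ∈ W, ∃ c : K, w = c • x
  · refine ⟨x, hx0, fun γ hγ => ?_⟩
    obtain ⟨L⟩ := exists_SL h (hS hγ)
    obtain ⟨c, hc⟩ := h2 _ (hW γ hγ L x hx)
    exact mem_FixL L hc
  push Not at h2
  obtain ⟨y, hy, hxy⟩ := h2
  have hI := ind_of_ne hx0 hxy
  obtain ⟨v, hv0, hvx, hvy⟩ := exists_perp (h := h) hV.ge x y
  have h3 : ∀ w ∈ W, h.b w v = 0 := fun w hw => by
    by_cases h4 : ∃ a b : K, w = a • x + b • y
    · obtain ⟨a, b, rfl⟩ := h4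
      rw [h.add_left, h.smul_left, h.smul_left, b_zero hvx, b_zero hvy]
      simp
    push Not at h4
    refine absurd (eq_top_iff.2 fun u _ => ?_) h1
    obtain ⟨a, b, c, rfl⟩ := (ind3_of hI h4).span hV u
    exact W.add_mem (W.add_mem (W.smul_mem _ hx) (W.smul_mem _ hy)) (W.smul_mem _ hw)
  refine ⟨v, hv0, fun γ hγ => ?_⟩
  obtain ⟨L⟩ := exists_SL h (hS hγ)
  have h4 : ∀ w ∈ W, h.b w (L.g v) = 0 := fun w hw => by
    obtain ⟨w', hw'⟩ := Finite.surjective_of_injective (f := fun u : W => (⟨L.g u, hW γ hγ L u u.2⟩ : W))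
      (fun a b hab => Subtype.ext (L.g.injective (congrArg Subtype.val hab))) ⟨w, hw⟩
    rw [← show L.g w' = w from congrArg Subtype.val hw', L.form, h3 _ w'.2, map_zero, mul_zero]
  obtain ⟨z, hz⟩ := h.exists_ne hv0
  refine mem_FixL L (c := h.τ (h.b z (L.g v) / h.b z v)) (sub_eq_zero.1 ((ind3_of hI (z := z) fun a b hab => hz ?_).eq_zero
    (h := h) hV ?_ ?_ ?_))
  · exact h3 z (hab ▸ W.add_mem (W.smul_mem _ hx) (W.smul_mem _ hy))
  · rw [h.sub_right, h.smul_right, h3 x hx, h4 x hx, mul_zero, sub_zero]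
  · rw [h.sub_right, h.smul_right, h3 y hy, h4 y hy, mul_zero, sub_zero]
  · rw [h.sub_right, h.smul_right, h.τ_τ, div_mul_cancel₀ _ hz, sub_self]

/-- the parabolic case -/
theorem line_of_par {F : FR h.EB} (hsolv : Group.IsSolvable S) {p : ℕ} (hp : p.Prime) (h0 : (p : h.EB) = 0)
    (hn : ¬ NPar p F.S S) : ∃ v, v ≠ 0 ∧ S ≤ FixL h v := by
  have : Nontrivial V := Module.nontrivial_of_finrank_pos (R := K) (by omega)
  have : Fact p.Prime := ⟨hp⟩
  obtain ⟨v₀, hv₀⟩ := exists_ne (0 : V)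
  have hK : (p : K) = 0 := by
    have h1 : (p : Module.End K V) v₀ = 0 := LinearMap.congr_fun (show (p : Module.End K V) = 0 from h0) v₀
    rw [Module.End.natCast_apply, ← Nat.cast_smul_eq_nsmul K] at h1
    exact (smul_eq_zero.1 h1).resolve_right hv₀
  have : CharP K p := (CharP.charP_iff_prime_eq_zero hp).2 hK
  unfold NPar at hn
  push Not at hn
  obtain ⟨Y, hY, hYp, hYn, hY0⟩ := hn
  obtain ⟨X, hXY, hX0, hXn, -, hXc, ⟨r, hr, hXr⟩, -⟩ := exists_min hsolv hY0 (hY.trans inf_le_left) hYn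
  obtain ⟨⟨x, hx⟩, hx1⟩ := Subgroup.ne_bot_iff_exists_ne_one.1 hX0
  have hx1' : x ≠ 1 := fun h1 => hx1 (Subtype.ext h1)
  obtain rfl : r = p := by
    have : Fact r.Prime := ⟨hr⟩
    obtain ⟨k, hk⟩ := hYp ⟨x, hXY hx⟩
    have h1 : orderOf x ∣ p ^ k := orderOf_dvd_of_pow_eq_one (congrArg Subtype.val hk)
    rw [orderOf_eq_prime (hXr x hx) hx1'] at h1
    exact (Nat.prime_dvd_prime_iff_eq hr hp).1 (hr.dvd_of_dvd_pow h1)
  let P : Subgroup h.EBˣ :=
    { carrier := {u | cj h.EB u ∈ X ∧ u ^ r = 1}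
      one_mem' := ⟨by rw [map_one]; exact one_mem _, one_pow _⟩
      inv_mem' := fun hu => ⟨by rw [map_inv]; exact inv_mem hu.1, by rw [inv_pow, hu.2, inv_one]⟩
      mul_mem' := fun {a b} ha hb => ⟨by rw [map_mul]; exact mul_mem ha.1 hb.1, by
        obtain ⟨z, hz, h1⟩ := cj_eq_iff.1 (show cj h.EB (a * b * a⁻¹) = cj h.EB b by
          rw [map_mul, map_mul, map_inv, hXc _ ha.1 _ hb.1, mul_inv_cancel_right])
        obtain ⟨c, hc⟩ := exists_sc h hz
        have h2 := congrArg (· ^ r) h1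
        simp only [conj_pow, hb.2, mul_one, mul_inv_cancel] at h2
        rw [Commute.mul_pow (units_comm hz b), hb.2, one_mul] at h2
        have h3 := ap_pow_sc hc r v₀
        rw [← Units.val_pow_eq_pow_val, ← h2, Units.val_one, h.ap_one] at h3
        have h4 : c = 1 := frobenius_inj K r (by
          rw [map_one, frobenius_def]
          exact smul_left_injective K hv₀ (h3.symm.trans (one_smul K v₀).symm))
        have h5 : z = 1 := Units.ext (h.ap_ext fun v => by rw [hc, h4, one_smul]; rfl)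
        rw [h5, mul_one, mul_inv_eq_iff_eq_mul] at h1
        rw [Commute.mul_pow h1, ha.2, hb.2, one_mul]⟩ }
  let W : Submodule K V :=
    { carrier := {w | ∀ u ∈ P, h.ap u w = w}
      zero_mem' := fun _ _ => map_zero _
      add_mem' := fun ha hb u hu => by rw [map_add, ha u hu, hb u hu]
      smul_mem' := fun c w hw u hu => by rw [map_smul, hw u hu] }
  refine line_of_sub hV hS W (fun h1 => ?_) (fun h1 => ?_) fun γ hγ L w hw u hu => ?_
  · let _ : MulAction P V :=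
      { smul := fun u v => h.ap (u : h.EBˣ) v
        one_smul := fun _ => rfl
        mul_smul := fun _ _ _ => rfl }
    have hP : IsPGroup r P := fun u => ⟨1, Subtype.ext (by rw [pow_one]; exact u.2.2)⟩
    have := Fintype.ofFinite K
    obtain ⟨n, -, hn⟩ := FiniteField.card K r
    obtain ⟨w, h2, h3⟩ := hP.exists_fixed_point_of_prime_dvd_card_of_fixed_point V (a := 0) (by
      rw [Module.natCard_eq_pow_finrank (K := K), hV, Nat.card_eq_fintype_card, hn]
      exact (dvd_pow_self r n.ne_zero).trans (dvd_pow_self _ (by norm_num))) fun u => map_zero (h.ap (u : h.EBˣ))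
    have h4 : w ∈ W := fun u hu => h2 ⟨u, hu⟩
    rw [h1] at h4
    exact h3 ((Submodule.mem_bot K).1 h4).symm
  · obtain ⟨u, -, rfl⟩ := F.S_le_PI (hY (hXY hx)).2
    have h2 := hXr _ hx
    rw [← map_pow, cj_eq_one_iff] at h2
    obtain ⟨c, hc⟩ := exists_sc h h2
    obtain ⟨d, rfl⟩ := surjective_frobenius K r c
    have hd : d ≠ 0 := by
      rintro rfl
      have h3 := ap_inv_ap h (u ^ r) v₀
      rw [hc, map_zero, zero_smul, map_zero] at h3
      exact hv₀ h3.symm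
    let z : h.EBˣ := ⟨h.eb (d⁻¹ • 1), h.eb (d • 1),
      h.ap_ext fun v => by rw [h.ap_mul, ap_sc, ap_sc, inv_smul_smul₀ hd]; rfl,
      h.ap_ext fun v => by rw [h.ap_mul, ap_sc, ap_sc, smul_inv_smul₀ hd]; rfl⟩
    have hz : (z : h.EB) ∈ Subring.center h.EB := h.smul_mem_center _
    have h3 : cj h.EB (u * z) = cj h.EB u := cj_eq_iff.2 ⟨z, hz, rfl⟩
    have h4 : u * z ∈ P := ⟨h3 ▸ hx, Units.ext (h.ap_ext fun v => by
      rw [Commute.mul_pow (units_comm hz u), Units.val_mul, h.ap_mul, hc, Units.val_pow_eq_pow_val,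
        ap_pow_sc (ap_sc h d⁻¹), smul_smul, frobenius_def, ← mul_pow, mul_inv_cancel₀ hd, one_pow, one_smul]
      rfl)⟩
    have h5 : u * z = 1 := Units.ext (h.ap_ext fun v => (h1 ▸ Submodule.mem_top : v ∈ W) _ h4)
    exact hx1' (by rw [← h3, h5, map_one])
  · have h1 : um γ⁻¹ u ∈ P := ⟨by rw [← conj_cj]; exact hXn _ (inv_mem hγ) _ hu.1, by rw [← map_pow, hu.2, map_one]⟩
    have h2 := L.conj (um γ⁻¹ u : h.EBˣ) w
    rwa [hw _ h1, um_val, ra_apply_inv] at h2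

/-- frames -/
theorem line_of_fr {D : Finset h.EB} (hD : Fr D) (hI : Inv S D) :
    (∃ v, v ≠ 0 ∧ S ≤ FixL h v) ∨ Cl.Many (Cl.rk h) D 1 := by
  have : Module.Finite K V := Module.Finite.of_finite
  have hfix := fun e he => exists_fix (h := h) (hD.idem e he) (hD.ne e he)
  have hz := fun {e e'} he he' hee {w} => Fr.ap_eq_zero h hD (e := e) (e' := e') he he' hee (w := w)
  by_cases h1 : ∃ e ∈ D, 2 ≤ Cl.rk h e
  · obtain ⟨e, he, h1⟩ := h1
    obtain ⟨x, hx, hx0⟩ := hfix e he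
    obtain ⟨y, hy, hxy⟩ := exists_ind h1 (hD.idem e he) hx0
    refine Or.inl (line_of_sub hV hS (LinearMap.range (h.ap e)) (fun h2 => hx0 ?_) (fun h2 => ?_) ?_)
    · exact (Submodule.mem_bot K).1 (h2 ▸ ⟨x, hx⟩)
    · obtain ⟨e', he', hee⟩ := Finset.exists_mem_ne hD.two e
      obtain ⟨w, hw, hw0⟩ := hfix e' he'
      obtain ⟨u, rfl⟩ : w ∈ LinearMap.range (h.ap e) := h2 ▸ Submodule.mem_top
      exact hw0 (hw.symm.trans (hz he' he hee (by rw [← h.ap_mul, hD.idem e he])))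
    · rintro γ hγ L _ ⟨w, rfl⟩
      have h2 : γ e = e := by
        by_contra h2
        have h3 := hI γ hγ e he
        have h4 : L.g x ≠ 0 := by simpa using hx0
        obtain ⟨a, b, c, h5⟩ := (ind3_of hxy (z := L.g x) fun a b hab => h4 (by
          rw [← L.map_fix hx, hab, map_add, map_smul, map_smul, hz h3 he h2 hx, hz h3 he h2 hy]
          simp)).span hV (L.g y)
        have h6 := congrArg (h.ap (γ e)) h5
        rw [map_add, map_add, map_smul, map_smul, map_smul, hz h3 he h2 hx, hz h3 he h2 hy, L.map_fix hx, L.map_fix hy,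
          smul_zero, smul_zero, add_zero, zero_add, ← L.σ.apply_symm_apply c, ← L.smul] at h6
        exact one_ne_zero (hxy (-L.σ.symm c) 1 (by rw [L.g.injective h6]; simp)).2
      exact ⟨L.g w, by rw [← L.conj, h2]⟩
  push Not at h1
  have h2 : ∀ e ∈ D, Cl.rk h e = 1 := fun e he => by
    have h3 := h1 e he
    obtain ⟨x, hx, hx0⟩ := hfix e he
    have h4 : Cl.rk h e ≠ 0 := fun h4 =>
      hx0 ((Submodule.mem_bot K).1 (Submodule.finrank_eq_zero.1 h4 ▸ (⟨x, hx⟩ : x ∈ LinearMap.range (h.ap e))))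
    omega
  refine Or.inr ⟨Or.inl (le_antisymm ?_ ?_), h2⟩
  · by_contra h3
    obtain ⟨e₁, e₂, e₃, e₄, m₁, m₂, m₃, m₄, n12, n13, n14, n23, n24, n34⟩ := Finset.three_lt_card_iff.1 (not_le.1 h3)
    obtain ⟨x₁, a₁, b₁⟩ := hfix e₁ m₁
    obtain ⟨x₂, a₂, b₂⟩ := hfix e₂ m₂
    obtain ⟨x₃, a₃, b₃⟩ := hfix e₃ m₃
    obtain ⟨x₄, a₄, b₄⟩ := hfix e₄ m₄
    obtain ⟨a, b, c, h4⟩ := (ind3_of (ind_of_ne (y := x₂) b₁ fun c hc => b₂ (by
      rw [← a₂, hc, map_smul, hz m₂ m₁ n12.symm a₁, smul_zero])) (z := x₃) fun a b hab => b₃ (by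
      rw [← a₃, hab, map_add, map_smul, map_smul, hz m₃ m₁ n13.symm a₁, hz m₃ m₂ n23.symm a₂]
      simp)).span hV x₄
    refine b₄ ?_
    rw [← a₄, h4, map_add, map_add, map_smul, map_smul, map_smul, hz m₄ m₁ n14.symm a₁, hz m₄ m₂ n24.symm a₂,
      hz m₄ m₃ n34.symm a₃]
    simp
  · have h3 := finrank_le_sum h hD.sum
    rwa [Finset.sum_congr rfl h2, Finset.sum_const, smul_eq_mul, mul_one, hV] at h3

omit hS in
/-- the centralizer of `T` is trivial -/
theorem cent_three (hU : Cl.IsU h) (F : FR h.EB) : ∀ γ ∈ F.Aut, (∀ s ∈ F.S, γ * s = s * γ) → γ = 1 := by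
  intro γ hγ hc
  have : Nontrivial V := Module.nontrivial_of_finrank_pos (R := K) (by omega)
  obtain ⟨L⟩ := exists_SL h hγ.1
  obtain ⟨θ, hθ⟩ := hU.2
  have hκ : θ - h.τ θ ≠ 0 := sub_ne_zero.2 hθ.symm
  have key : ∀ v, v ≠ 0 → h.b v v = 0 → γ ∈ FixL h v := fun v hv0 hv => by
    have h1 := qr_form h hU.1 (κ := θ - h.τ θ) (v := v) (by rw [hv, map_sub, h.τ_τ]; ring)
    have h2 := hc _ (transv_mem hU hV.ge F (isoU_ms h _ h1) rfl hv)
    rw [← mul_inv_eq_iff_eq_mul, conj_cj] at h2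
    obtain ⟨z, hz, h3⟩ := cj_eq_iff.1 h2
    obtain ⟨c, hc⟩ := exists_sc h hz
    have h4 := fun x => congrArg (fun u : h.EBˣ => h.ap u x) h3
    simp only [um_val, Units.val_mul, isoU_val, L.map_qr, h.ap_mul, hc, map_smul, ap_qr] at h4
    obtain ⟨x, hx0, h5, h6⟩ := exists_perp (h := h) hV.ge v (L.g v)
    have h7 := h4 x
    rw [h5, h6, mul_zero, mul_zero, zero_smul, zero_smul, sub_zero] at h7
    have h8 : c = 1 := smul_left_injective K hx0 (h7.symm.trans (one_smul K x).symm)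
    obtain ⟨y, hy⟩ := h.exists_ne (v := L.g v) (by simpa using hv0)
    have h9 := h4 y
    rw [h8, one_smul, sub_right_inj] at h9
    have h10 : L.σ (θ - h.τ θ) / L.μ * h.b y (L.g v) ≠ 0 :=
      mul_ne_zero (div_ne_zero ((map_ne_zero L.σ).2 hκ) L.μ_ne) hy
    exact mem_FixL L (by rw [← inv_smul_smul₀ h10 (L.g v), h9, smul_smul])
  obtain ⟨e, he0, he⟩ : ∃ e, e ≠ 0 ∧ h.b e e = 0 := by
    obtain ⟨v, hv⟩ := exists_ne (0 : V)
    by_cases h1 : h.b v v = 0
    · exact ⟨v, hv, h1⟩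
    obtain ⟨y, h2, h3⟩ := second hU hV h1 (n := -h.b v v) (by rw [map_neg, tau_self hU.1]) (neg_ne_zero.2 h1)
    refine ⟨v + y, fun h4 => h1 ?_, by rw [h.add_left, h.add_right, h.add_right, h2, h3, b_zero h3]; ring⟩
    have h5 := h.add_left v y v
    rwa [h4, h.zero_left, h3, add_zero, eq_comm] at h5
  obtain ⟨y, z, -, C, -, -, h1⟩ := cfg_iso hU hV he0 he
  have h2 := fun v hv => key v (fun h0 => (h1 v hv).2 (by rw [h0, h.zero_right])) (h1 v hv).1
  exact C.eq_one hV hγ.1 (key e he0 he) (h2 _ (Or.inl rfl)) (h2 _ (Or.inr (Or.inl rfl))) (h2 _ (Or.inr (Or.inr rfl)))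

end Cfsg.Agent.SB.R1
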