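import Cfsg.Agent.SB.R1.U3A

/-!
# S5765: three-dimensional unitary groups, Singer cycles (helper61, after helper52)
-/

set_option autoImplicit false
set_option linter.unusedSectionVars false

namespace Cfsg.Agent.SB.R1

open Module Cfsg.Agent.DS.Cl Cfsg.Agent.DS.Cl.Fwd Cfsg.Agent.SB.Cl Cfsg.Agent.SB.Fld

section general

variable {A : Type} [Ring A] [StarRing A] {K V : Type} [Field K] [AddCommGroup V] [Module K V]

/-- a good parameter -/
theorem exists_good' {E : Subalgebra K (End K V)} (h : MaxF E) [Finite K] [Module.Finite K V] {v : V} (hv : v ≠ 0)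
    (f : V →ₗ[K] K) (S : AddSubgroup (End K V)) (hS : ∀ y ∈ S, y ∈ E) (X : Set K) (hX : ∀ y ∈ S, f (y v) ∈ X)
    (h4 : 4 * Nat.card X ≤ Nat.card S) :
    ∃ y ∈ S, y ≠ 0 ∧ f (y v) = 0 ∧
      ∀ a ∈ E, a ≠ 0 → ¬ ∀ b ∈ E, LinearMap.trace K V (a * b) = f ((a * y) v) * f ((b * y) v) := by
  by_contra hcon
  push Not at hcon
  have hV : Finite V := Module.finite_of_finite K
  have hE : Finite (End K V) := Finite.of_injective (fun x : End K V => (x : V → V)) DFunLike.coe_injective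
  let φ : S →+ K :=
    { toFun := fun y => f (y.1 v)
      map_zero' := by simp
      map_add' := fun a b => by simp }
  have h1 : 4 ≤ Nat.card φ.ker := by
    have h2 := AddSubgroup.card_mul_index φ.ker
    rw [AddSubgroup.index_ker] at h2
    have h3 : Nat.card φ.range ≤ Nat.card X := Nat.card_le_card_of_injective
      (fun y => ⟨y.1, by obtain ⟨_, y, rfl⟩ := y; exact hX _ y.2⟩) fun a b hab => Subtype.ext (Subtype.mk.inj hab)
    have h5 : 0 < Nat.card φ.range := Nat.card_pos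
    by_contra h6
    have h7 : Nat.card φ.ker * Nat.card φ.range ≤ 3 * Nat.card X := Nat.mul_le_mul (by omega) h3
    omega
  obtain ⟨b₀, hb₀, htr⟩ := h.exists_trace hv
  have hnd : ∀ x ∈ E, (∀ b ∈ E, LinearMap.trace K V (x * b) = 0) → x = 0 := by
    intro x hx h0
    by_contra h2
    obtain ⟨d, hd, h3, -⟩ := h.inv hx h2
    have h5 := h0 _ (mul_mem hd hb₀)
    rw [← mul_assoc, h3, one_mul] at h5
    exact htr h5
  have hk : ∀ {a y : End K V}, a ∈ E → a ≠ 0 →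
      (∀ b ∈ E, LinearMap.trace K V (a * b) = f ((a * y) v) * f ((b * y) v)) → f ((a * y) v) ≠ 0 :=
    fun ha ha0 hb h0 => ha0 (hnd _ ha fun b hb' => by rw [hb b hb', h0, zero_mul])
  classical
  obtain ⟨y₁, hy₁⟩ : ∃ y : φ.ker, y ≠ 0 := by
    have : Nontrivial φ.ker := Finite.one_lt_card_iff_nontrivial.1 (by omega)
    exact exists_ne 0
  obtain ⟨y₂, hy₂⟩ : ∃ y : φ.ker, y ∉ ({0, y₁, -y₁} : Finset φ.ker) := by
    by_contra h2
    push Not at h2
    have := Fintype.ofFinite φ.ker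
    have h3 := Finset.card_le_card (fun y _ => h2 y : Finset.univ ⊆ _)
    have h5 := Finset.card_le_three (a := (0 : φ.ker)) (b := y₁) (c := -y₁)
    rw [Finset.card_univ, ← Nat.card_eq_fintype_card] at h3
    omega
  simp only [Finset.mem_insert, Finset.mem_singleton, not_or] at hy₂
  have hne : ∀ y : φ.ker, y ≠ 0 → y.1.1 ≠ 0 := fun y hy h0 => hy (Subtype.ext (Subtype.ext h0))
  obtain ⟨a₁, ha₁, ha₁0, hb₁⟩ := hcon _ y₁.1.2 (hne _ hy₁) y₁.2
  obtain ⟨d, hd, -, hd'⟩ := h.inv (hS _ y₁.1.2) (hne _ hy₁)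
  have hk₁ := hk ha₁ ha₁0 hb₁
  set k₁ := f ((a₁ * y₁.1.1) v)
  obtain ⟨l, hl, hl'⟩ : ∃ l ∈ E, ∀ b ∈ E, LinearMap.trace K V (l * b) = f (b v) := by
    refine ⟨k₁⁻¹ • (a₁ * d), E.smul_mem (mul_mem ha₁ hd) _, fun b hb => ?_⟩
    rw [smul_mul_assoc, map_smul, mul_assoc, hb₁ _ (mul_mem hd hb), h.comm hd hb, mul_assoc, hd', mul_one,
      smul_eq_mul, ← mul_assoc, inv_mul_cancel₀ hk₁, one_mul]
  have hQ : ∀ y : φ.ker, y ≠ 0 → f ((l * y.1.1 * y.1.1) v) = 1 := by
    intro y hy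
    obtain ⟨a, ha, ha0, hb⟩ := hcon _ y.1.2 (hne _ hy) y.2
    have hk' := hk ha ha0 hb
    have hyE := hS _ y.1.2
    have h2 := hnd _ (sub_mem ha (E.smul_mem (mul_mem hl hyE) (f ((a * y.1.1) v)))) fun b hb' => by
      rw [sub_mul, map_sub, hb b hb', smul_mul_assoc, map_smul, mul_assoc, hl' _ (mul_mem hyE hb'), h.comm hyE hb',
        smul_eq_mul, sub_self]
    have h3 := congrArg (fun x : End K V => f ((x * y.1.1) v)) (sub_eq_zero.1 h2)
    simp only [smul_mul_assoc, LinearMap.smul_apply, map_smul, smul_eq_mul] at h3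
    exact mul_left_cancel₀ hk' (by rw [← h3, mul_one])
  have q1 := hQ _ hy₁
  have q2 := hQ _ hy₂.1
  have q3 := hQ (y₁ + y₂) fun h0 => hy₂.2.2 (eq_neg_of_add_eq_zero_right h0)
  have q4 := hQ (y₁ - y₂) fun h0 => hy₂.2.1 (sub_eq_zero.1 h0).symm
  have hc : l * y₂.1.1 * y₁.1.1 = l * y₁.1.1 * y₂.1.1 := by
    rw [mul_assoc, mul_assoc, h.comm (hS _ y₂.1.2) (hS _ y₁.1.2)]
  simp only [AddSubgroup.coe_add, AddSubgroup.coe_sub, mul_add, add_mul, mul_sub, sub_mul, hc, LinearMap.add_apply,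
    LinearMap.sub_apply, map_add, map_sub, q1, q2] at q3 q4
  have h2 : (2 : K) = 0 := by linear_combination q3 + q4
  exact one_ne_zero (α := K) (by linear_combination -q3 + (1 + f ((l * y₁.1.1 * y₂.1.1) v)) * h2)

/-- **Singer cycles** -/
theorem four' {π : A →+* End K V} {c η θ : A} (h : LU π c η θ) [Finite A] [Finite K] [Finite V] (F : FR A) (hA : SS A) (h3 : 3 ≤ finrank K V) {Z : Subring A}
    (hZ : ComSub Z) (hE : ∀ z ∈ Z, π z ≠ 0 → IsUnit (π z)) (hc : Nat.card V ≤ Nat.card (h.img Z hZ.1))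
    {s : A} (hs : star s = -s) {v : V} (hv : v ≠ 0) {f : V →ₗ[K] K} (hf : f ≠ 0) (hπ : π s = f.smulRight v)
    (X : Set K) (hX : ∀ y : A, star y = y → f (π y v) ∈ X)
    (hnum : ∀ Q q : ℕ, Nat.card Z ≤ Q * Q → 2 ≤ q → q * q ≤ Nat.card (Subring.center A) →
      4 * Nat.card X ≤ Q ∧ (q + 2) ^ 2 < Q)
    {S : Subgroup (RingAut A)} (hS : S ≤ F.Aut) (hI : Inv S Z) : Four F.S S := by
  have : Nontrivial V := ⟨⟨v, 0, hv⟩⟩
  have hfin : Finite (End K V) := Finite.of_surjective π h.surj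
  have hEf := h.img_field hZ hE
  have hM := maxF_of_card hEf hv hc
  set E := h.img Z hZ.1
  let _ : Field E := hEf.toField
  set B := Blk.ofSubring Z hZ.2.1
  let _ : CommRing B.T := { (inferInstance : Ring B.T) with
    mul_comm := fun x y => B.val_inj (hZ.2.2 _ (B.val_mem x) _ (B.val_mem y)) }
  let ρ : B.T →+* E :=
    { toFun := fun x => ⟨π (B.val x), _, B.val_mem x, rfl⟩
      map_one' := Subtype.ext (map_one π)
      map_mul' := fun x y => Subtype.ext (map_mul π _ _)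
      map_zero' := Subtype.ext (map_zero π)
      map_add' := fun x y => Subtype.ext (map_add π _ _) }
  have hρ : Sep ρ := fun a h1 h2 => B.val_inj (h.sep _ (congrArg Subtype.val h1) (congrArg Subtype.val h2))
  have hθ : IsUnit (B.mk' θ (hZ.1 h.θ_cen) - star (B.mk' θ (hZ.1 h.θ_cen))) := by
    obtain ⟨u, hu⟩ := h.θ_unit
    have h1 : (u : A) ∈ Subring.center A := hu ▸ Subring.sub_mem _ h.θ_cen (star_cen h.θ_cen)
    refine IsUnit.of_mul_eq_one (B.mk' _ (hZ.1 (inv_cen h1))) (B.val_inj ?_)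
    change (θ - star θ) * ((u⁻¹ : Aˣ) : A) = 1
    rw [← hu, Units.mul_inv]
  let C : Subring B.T :=
    { carrier := {x | B.val x ∈ Subring.center A}
      mul_mem' := fun ha hb => (Subring.center A).mul_mem ha hb
      one_mem' := (Subring.center A).one_mem
      add_mem' := fun ha hb => (Subring.center A).add_mem ha hb
      zero_mem' := (Subring.center A).zero_mem
      neg_mem' := fun {a} ha => show B.val (-a) ∈ Subring.center A by rw [map_neg]; exact neg_mem ha }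
  obtain ⟨n1, n2⟩ := hnum (Nat.card (sym B.T)) (Nat.card ↥(C ⊓ sym B.T)) (card_le_sq (R := B.T) hθ)
    (hρ.two_le_card _ inf_le_right) ((sq_le_card hθ C h.θ_cen).trans (Nat.card_le_card_of_injective
      (fun x : C => (⟨B.val x, x.2⟩ : Subring.center A)) fun a b hab =>
        Subtype.ext (B.val_inj (Subtype.mk.inj hab))))
  obtain ⟨u, hu, hfaith⟩ := hρ.faithful hθ C (fun a ha => star_cen ha) n2
  let ι : B.T →+ End K V := π.toAddMonoidHom.comp B.val
  obtain ⟨_, ⟨y, hy, rfl⟩, hy0, hyv, hgood⟩ := exists_good' hM hv f ((sym B.T).toAddSubgroup.map ι)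
    (by rintro _ ⟨y, -, rfl⟩; exact ⟨_, B.val_mem y, rfl⟩) X
    (by rintro _ ⟨y, hy, rfl⟩; exact hX _ (congrArg B.val hy))
    (n1.trans (Nat.card_le_card_of_injective (fun x : sym B.T => ⟨ι x, x, x.2, rfl⟩) fun a b hab =>
      Subtype.ext (hρ.sym_inj a.2 b.2 (Subtype.ext (Subtype.mk.inj hab)))))
  obtain ⟨w, hw⟩ := hρ.norm_surj hθ hy
  have hwZ : B.val w ∈ Z := B.val_mem w
  set W := B.val w
  have hW : π W * π (star W) = ι y := by rw [← map_mul]; exact congrArg (fun x => π (B.val x)) hw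
  have hWE : π W ∈ E := ⟨_, hwZ, rfl⟩
  have hWE' : π (star W) ∈ E := ⟨_, hZ.2.1 _ hwZ, rfl⟩
  have hf' : ∀ b ∈ E, f (π (star W) (b (π W v))) = f ((b * ι y) v) := fun b hb => by
    rw [← hW, hM.comm hWE hWE', ← mul_assoc, hM.comm hb hWE']; rfl
  have hv1 : π W v ≠ 0 := fun h0 => hy0 (by rw [← hW, hM.eq_zero hWE hv h0, zero_mul])
  have hf1 : f.comp (π (star W)) ≠ 0 := fun h0 => by
    obtain ⟨d, -, hd, -⟩ := hM.inv hWE' fun h1 => hy0 (by rw [← hW, h1, mul_zero])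
    refine hf (LinearMap.ext fun x => ?_)
    have h1 := LinearMap.congr_fun h0 (d x)
    rwa [LinearMap.comp_apply, ← Module.End.mul_apply, hd] at h1
  have hfv1 : f.comp (π (star W)) (π W v) = 0 := by
    have h1 := hf' 1 (one_mem E)
    rw [one_mul, hyv] at h1
    exact h1
  have hπ1 : π (W * s * star W) = (f.comp (π (star W))).smulRight (π W v) := LinearMap.ext fun x => by
    rw [map_mul, map_mul, hπ]; simp
  obtain ⟨hss, t, ht, ht'⟩ := h.transv F h3 (s := W * s * star W)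
    (by rw [star_mul, star_mul, star_star, hs, neg_mul, mul_neg, mul_assoc]) hv1 hf1 hfv1 hπ1
  have ht'' : ((t⁻¹ : Aˣ) : A) = 1 - W * s * star W :=
    (Units.eq_inv_of_mul_eq_one_left (by rw [ht', add_mul, one_mul, mul_sub, mul_one, hss]; abel)).symm
  have hx : cj A t ∈ F.S := ⟨t, ht, rfl⟩
  have hNS : F.Aut ⊓ Fix (Z : Set A) ≤ F.Aut ⊓ B.stab :=
    inf_le_inf_left _ (Blk.mem_stab fun γ hγ x hx => by rw [hγ x hx]; exact hx)
  have hNn : ∀ k ∈ F.Aut ⊓ B.stab, ∀ γ ∈ F.Aut ⊓ Fix (Z : Set A), k * γ * k⁻¹ ∈ F.Aut ⊓ Fix (Z : Set A) :=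
    fun k hk γ hγ => ⟨F.Aut.mul_mem (F.Aut.mul_mem hk.1 hγ.1) (F.Aut.inv_mem hk.1), fun x hx => by
      rw [ra_mul, ra_mul, hγ.2 _ (((B.stab.inv_mem hk.2) x).1 hx), ra_apply_inv]⟩
  have hxN : ∀ γ ∈ F.Aut ⊓ Fix (Z : Set A), (cj A t)⁻¹ * γ * cj A t ∈ F.Aut ⊓ B.stab → γ = 1 := by
    intro γ hγ hγ'
    obtain ⟨z, rfl⟩ := hA.sn (γ := γ) fun d hd => hγ.2 d (hZ.1 hd)
    have hz : (z : A) ∈ Z := h.cent hZ hM fun x hx => by rw [← cj_mul_eq, hγ.2 x hx]
    rw [← map_inv, ← map_mul, ← map_mul] at hγ'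
    have hz0 : π z * π (z⁻¹ : Aˣ) = 1 := by rw [← map_mul, Units.mul_inv, map_one]
    rcases hM.bad h3 hv1 hf1 hfv1 (a := π z) ⟨_, hz, rfl⟩ (by
      rintro _ ⟨b, hb, rfl⟩
      refine ⟨_, ⟨_, (hγ'.2 b).1 hb, rfl⟩, ?_⟩
      have h1 := congrArg π (cj_mul_eq (t⁻¹ * z * t) b)
      rw [cj_apply, Units.inv_mul_cancel_right] at h1
      have h2 : π ((t⁻¹ * z * t : Aˣ) : A) = (1 - π (W * s * star W)) * π z * (1 + π (W * s * star W)) := by
        rw [Units.val_mul, Units.val_mul, ht', ht'', map_mul, map_mul, map_sub, map_add, map_one]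
      rw [← hπ1, ← h2, ← map_mul, ← map_mul, cj_mul_eq]) with ⟨k, hk⟩ | h1
    · obtain ⟨k', hk'⟩ := h.scal_of (cj_SAut_cen hγ.1.1)
      have hk0 : k ≠ 0 := fun h0 => by
        rw [hk, h0, zero_smul, zero_mul] at hz0
        exact zero_ne_one hz0
      rw [map_mul, hk, mul_smul_comm, mul_one] at hk'
      exact cj_eq_one_iff.2 (h.cen_of hk (k' := k⁻¹ * k') (by
        rw [mul_smul, ← hk', smul_smul, inv_mul_cancel₀ hk0, one_smul]))
    · refine absurd (fun b hb => ?_) (hgood (π z) ⟨_, hz, rfl⟩ fun h0 => by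
        rw [h0, zero_mul] at hz0
        exact zero_ne_one hz0)
      rw [h1 b hb, ← hf' b hb, ← hf' _ ⟨_, hz, rfl⟩]
      rfl
  have hu' : B.val u * star (B.val u) = 1 := congrArg B.val hu
  have hvN : cj A (mkU _ hu') ∈ F.Aut ⊓ Fix (Z : Set A) :=
    ⟨FR.cj_mem_Aut (mem_Iso_max (F.L_eq h.c_cen h.c_add) hu'), fun x hx =>
      cj_eq_of_mul (hZ.2.2 _ (B.val_mem u) x hx)⟩
  refine Four.mono (S' := F.Aut ⊓ B.stab) ⟨_, hx, _, FR.conj_mem_S hvN.1 hx, _, hx, fun k hk a0 a1 _ => ?_⟩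
    (le_inf hS (Blk.mem_stab hI))
  have h1 := trick_key hNS hNn hxN hvN hvN hk a0 a1
  rw [conj_cj, cj_eq_iff] at h1
  obtain ⟨z, hz, hz'⟩ := h1
  have h2 := hfaith (B.res ⟨k, hk.2⟩ : B.T →+* B.T) (B.res_SAut (γ := ⟨k, hk.2⟩) hk.1.1)
    ⟨B.mk' z (hZ.1 hz), hz, B.val_inj (by
      have h2 := congrArg Units.val hz'
      rw [um_val, Units.val_mul, mkU_val, cen_comm hz] at h2
      exact h2)⟩
  exact hxN k ⟨hk.1, fun x hx => congrArg B.val (h2 (B.mk' x hx))⟩ a0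

end general

variable {K V : Type} [Field K] [Finite K] [AddCommGroup V] [Module K V] [Finite V] {h : HF K V}

/-- **Singer cycles in dimension three** -/
theorem four_singer (F : FR h.EB) (hU : IsU h) (hV : finrank K V = 3) (hK : Nat.card K ≠ 4) {Z : Subring h.EB}
    (hZ : ComSub Z) (hE : ∀ x ∈ Z, x ≠ 0 → IsUnit x) (hc : Nat.card Z = Nat.card K ^ finrank K V)
    {S : Subgroup (RingAut h.EB)} (hS : S ≤ F.Aut) (hI : Inv S Z) : Four F.S S := by
  obtain ⟨hε, θ, hθ⟩ := hU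
  have hl := luU h hθ
  have hfin : Finite (End K V) := Finite.of_surjective _ hl.surj
  have : Nontrivial V := Module.nontrivial_of_finrank_pos (R := K) (by omega)
  obtain ⟨v, hv⟩ := exists_ne (0 : V)
  have h0 : θ - h.τ θ ≠ 0 := sub_ne_zero.2 hθ.symm
  refine four' hl F h.ss (by omega) hZ hE ?_ (s := h.eb (((θ - h.τ θ) • h.lin v).smulRight v)) ?_ hv
    (f := (θ - h.τ θ) • h.lin v) (fun h1 => ?_) rfl {x | h.τ x = -x} (fun y hy => ?_) ?_ hS hI
  · rw [Module.natCard_eq_pow_finrank (K := K) (V := V), ← hc]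
    exact Nat.card_le_card_of_injective (fun z : Z => ⟨_, z, z.2, rfl⟩) fun a b hab => Subtype.ext (Subtype.mk.inj hab)
  · refine h.ap_ext fun y => h.ext_right fun u => ?_
    rw [h.b_star]
    change h.b (((θ - h.τ θ) * h.b u v) • v) y = h.b u (-(((θ - h.τ θ) * h.b y v) • v))
    rw [← neg_smul, h.smul_left, h.smul_right, h.swap y v, hε, map_neg, map_mul, map_sub, h.τ_τ]
    ring
  · obtain ⟨u, hu⟩ := h.exists_ne hv
    exact mul_ne_zero h0 hu (LinearMap.congr_fun h1 u)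
  · change h.τ ((θ - h.τ θ) * h.b (h.ap y v) v) = -((θ - h.τ θ) * h.b (h.ap y v) v)
    have h1 : h.τ (h.b (h.ap y v) v) = h.b (h.ap y v) v := by
      rw [← one_mul (h.τ _), ← hε, ← h.swap, ← h.star_b, hy]
    rw [map_mul, h1, map_sub, h.τ_τ]
    ring
  · intro Q q h1 h2 h3
    have h6 : Nat.card (Subring.center h.EB) ≤ Nat.card K :=
      Nat.card_le_card_of_injective (fun a => (hl.scal_of a.2).choose) fun a b hab => Subtype.ext (by
        have h7 := (hl.scal_of a.2).choose_spec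
        rw [show (hl.scal_of a.2).choose = (hl.scal_of b.2).choose from hab, ← (hl.scal_of b.2).choose_spec] at h7
        exact h7)
    have h7 := h3.trans h6
    have h8 : Nat.card {x | h.τ x = -x} * Nat.card {x | h.τ x = -x} ≤ Nat.card K := by
      rw [← Nat.card_prod]
      refine Nat.card_le_card_of_injective (fun a => a.1.1 + a.2.1 * θ) fun a b (hab : _ + _ = _ + _) => ?_
      have h9 := congrArg h.τ hab
      rw [map_add, map_add, map_mul, map_mul, a.1.2, a.2.2, b.1.2, b.2.2] at h9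
      have h10 : a.2.1 = b.2.1 := mul_right_cancel₀ h0 (by linear_combination hab + h9)
      rw [h10, add_left_inj] at hab
      exact Prod.ext (Subtype.ext hab) (Subtype.ext h10)
    let τ : K ≃+* K := ⟨⟨h.τ, h.τ, h.τ_τ, h.τ_τ⟩, map_mul h.τ, map_add h.τ⟩
    obtain ⟨r, h9, h10, -⟩ := H324.FC.exists_q τ h.τ_τ ⟨θ, hθ⟩
    rw [hc, hV, h10, ← pow_mul, show 2 * 3 = 3 + 3 from rfl, pow_add] at h1
    rw [h10, pow_two] at h7 h8
    have h11 : 3 ≤ r := by
      by_contra h11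
      exact hK (by rw [h10, show r = 2 by omega]; rfl)
    have h12 := Nat.mul_self_le_mul_self_iff.1 h1
    have h13 := Nat.mul_self_le_mul_self_iff.1 h7
    have h14 := Nat.mul_self_le_mul_self_iff.1 h8
    have h15 : 3 * (r * r) ≤ r ^ 3 := by
      rw [pow_succ', pow_two]
      exact Nat.mul_le_mul_right _ h11
    have h16 : 3 * r ≤ r * r := Nat.mul_le_mul_right _ h11
    have h17 : (q + 2) ^ 2 ≤ (r + 2) ^ 2 := Nat.pow_le_pow_left (by omega) 2
    exact ⟨by omega, by nlinarith⟩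

end Cfsg.Agent.SB.R1
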