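import Cfsg.Agent.SB.R1.U3B
import Cfsg.Agent.SB.R1.U3S
import Cfsg.Agent.SB.R1.L2M
import Cfsg.Agent.SB.R1.Ree
import Cfsg.Agent.SB.Tor.U3a
import Cfsg.Agent.SB.Br.Mod
import Cfsg.Agent.H394.SqPsu3

/-!
# S5765: the groups `PSU₃(q)` and the box of the groups of rank one (helper61)
-/

set_option autoImplicit false

namespace Cfsg.Agent.SB.R1

open Subgroup Cfsg Cfsg.Agent.H786.FC Cfsg.Agent.SB.Cl Cfsg.Agent.DS.Cl.Fwd Module
open Cfsg.Agent.DS.Cl (FR SS Lmax Fr Inv)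

/-- **Transport** from the form ring to the automorphism group. -/
theorem row_of_modE {A : Type} [Ring A] [StarRing A] {F : FR A} {T : Type} [Group T]
    (hmod : Br.ModE F T Set.univ) (hcent : ∀ γ ∈ F.Aut, (∀ s ∈ F.S, γ * s = s * γ) → γ = 1)
    (hmain : ∀ S ≤ F.Aut, Group.IsSolvable S → MaxInv F.S S → Good F.S S) : Row T := by
  intro S hS hm
  obtain ⟨-, -, e, hΓ'⟩ := hmod
  have hle : F.Aut ≤ normalizer (F.S : Set (RingAut A)) := fun γ hγ => by
    rw [mem_normalizer_iff]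
    refine fun s => ⟨FR.conj_mem_S hγ, fun h => ?_⟩
    have h1 := FR.conj_mem_S (inv_mem hγ) h
    simpa [mul_assoc] using h1
  let θ : F.Aut →* MulAut T :=
    (MulAut.congr e).toMonoidHom.comp (F.S.normalizerMonoidHom.comp (inclusion hle))
  have hθ : ∀ (γ : F.Aut) (s t : F.S), (t : RingAut A) = γ * s * (γ : RingAut A)⁻¹ → θ γ (e s) = e t := by
    intro γ s t h
    change e (F.S.normalizerMonoidHom (inclusion hle γ) (e.symm (e s))) = e t
    rw [e.symm_apply_apply]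
    exact congrArg e (Subtype.ext h.symm)
  have hinj : Function.Injective θ := by
    rw [injective_iff_map_eq_one]
    intro γ hγ
    refine Subtype.ext (hcent γ γ.2 fun s hs => ?_)
    have h1 := hθ γ ⟨s, hs⟩ ⟨_, FR.conj_mem_S γ.2 hs⟩ rfl
    rw [hγ] at h1
    exact mul_inv_eq_iff_eq_mul.1 (congrArg Subtype.val (e.injective h1)).symm
  have hsub : ∀ s : F.S, θ ⟨s, F.S_le_Aut s.2⟩ = MulAut.conj (e s) := fun s => by
    refine MulEquiv.ext fun x => ?_
    obtain ⟨t, rfl⟩ := e.surjective x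
    rw [hθ ⟨s, F.S_le_Aut s.2⟩ t (s * t * s⁻¹) rfl, map_mul, map_mul, map_inv]
    rfl
  have h1 : (F.S.subgroupOf F.Aut).map θ = InnG T := by
    ext α
    constructor
    · rintro ⟨γ, hγ, rfl⟩
      exact ⟨e ⟨γ, hγ⟩, (hsub ⟨γ, hγ⟩).symm⟩
    · rintro ⟨x, rfl⟩
      obtain ⟨s, rfl⟩ := e.surjective x
      exact ⟨_, s.2, hsub s⟩
  have h2 : (S.comap θ).map θ = S := by
    refine map_comap_eq_self fun α _ => ?_
    obtain ⟨γ, hγ, h⟩ := hΓ' α trivial
    refine ⟨⟨γ, hγ⟩, MulEquiv.ext fun x => ?_⟩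
    obtain ⟨s, rfl⟩ := e.surjective x
    rw [hθ ⟨γ, hγ⟩ s ⟨_, FR.conj_mem_S hγ s.2⟩ rfl]
    exact h s _ rfl
  have h3 : (F.S.subgroupOf F.Aut).map F.Aut.subtype = F.S := map_subgroupOf_eq_of_le F.S_le_Aut
  have h4 : Group.IsSolvable (S.comap θ) :=
    Group.isSolvable_of_isSolvable_injective (f := θ.subgroupComap S) fun a b h =>
      Subtype.ext (hinj (congrArg Subtype.val h))
  rw [← h1, ← h2] at hm ⊢
  refine Good.map θ hinj (Good.of_map F.Aut.subtype F.Aut.subtype_injective ?_)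
  have h5 := (hm.of_map θ hinj).map F.Aut.subtype F.Aut.subtype_injective
  rw [h3] at h5 ⊢
  exact hmain _ (map_subtype_le _) (Group.isSolvable_of_surjective (F.Aut.subtype.subgroupMap_surjective _)) h5

/-- no invariant frame -/
def NoFr3 : Prop := ∀ (K V : Type) [Field K] [Finite K] [AddCommGroup V] [Module K V] [Finite V] (h : HF K V)
  (F : FR h.EB) (S : Subgroup (RingAut h.EB)), IsU h → finrank K V = 3 → Nat.card K ≠ 4 → Ctx F S →
  (∀ D : Finset h.EB, Fr D → ¬ Inv S D) →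
  (∃ Z : Subring h.EB, ComSub Z ∧ Inv S Z ∧ (∀ x ∈ Z, x ≠ 0 → IsUnit x) ∧ Nat.card Z = Nat.card K ^ finrank K V) ∨
    ∃ Y, ExtD F S Y 3 ∧ Nat.card Y = 9

/-- the normalizer of `3²` -/
def Ext3 : Prop := ∀ (K V : Type) [Field K] [Finite K] [AddCommGroup V] [Module K V] [Finite V] (h : HF K V)
  (F : FR h.EB) (S Y : Subgroup (RingAut h.EB)), IsU h → finrank K V = 3 → Nat.card K ≠ 4 → Ctx F S →
  ExtD F S Y 3 → Nat.card Y = 9 → Good F.S S

theorem row_psu3 (hN : NoFr3) (hE : Ext3) (F : Type) [Field F] [Fintype F] {q : ℕ} (hF : Fintype.card F = q ^ 2)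
    (hq : q ≠ 2) [IsSimpleGroup (PSU 3 F q)] (hT : ¬ IsMulCommutative (PSU 3 F q)) : Row (PSU 3 F q) := by
  obtain ⟨R, -, hR⟩ := Br.modU F 3 q hF le_rfl fun h => hq h.2
  have hU : IsU (unH 3 hF) := ⟨rfl, LieClassical.HermBasic.exists_not_fixed hF⟩
  have hV : finrank F (Fin 3 → F) = 3 := Module.finrank_fin_fun F
  have hK : Nat.card F ≠ 4 := by
    rw [Nat.card_eq_fintype_card, hF]
    exact fun h => hq (Nat.pow_left_injective two_ne_zero (show q ^ 2 = 2 ^ 2 from h))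
  have h3 : 3 ≤ q := by
    have h1 : 1 < q ^ 2 := hF ▸ Fintype.one_lt_card
    by_contra h2
    interval_cases q <;> omega
  have hcent := cent_three hV hU R
  refine row_of_modE hR hcent fun S hS hsolv hm => ?_
  obtain ⟨hss, hspan, e, -⟩ := hR
  have hsimple : IsSimpleGroup R.S := e.isSimpleGroup
  have hnc : ¬ IsMulCommutative R.S := fun h => hT ⟨⟨fun a b => by
    obtain ⟨a, rfl⟩ := e.surjective a
    obtain ⟨b, rfl⟩ := e.surjective b
    rw [← map_mul, ← map_mul, h.1.1 a b]⟩⟩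
  have hbig : 360 < Nat.card R.S := by
    rw [Nat.card_congr e.toEquiv]
    have h1 := H394.SqPsu3.card_psu3 hF
    have h2 : Nat.gcd 3 (q + 1) * Nat.card (PSU 3 F q) ≤ 3 * Nat.card (PSU 3 F q) :=
      Nat.mul_le_mul_right _ (Nat.gcd_le_left _ (by norm_num))
    have h4 : 3 ^ 2 ≤ q ^ 2 := Nat.pow_le_pow_left h3 2
    have h5 : 3 ^ 3 ≤ q ^ 3 := Nat.pow_le_pow_left h3 3
    have h6 : 27 * (8 * 28) ≤ q ^ 3 * ((q ^ 2 - 1) * (q ^ 3 + 1)) :=
      Nat.mul_le_mul h5 (Nat.mul_le_mul (by omega) (by omega))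
    omega
  have hline : (∃ v, v ≠ 0 ∧ S ≤ FixL (unH 3 hF) v) → Good R.S S := fun ⟨v, hv, h1⟩ =>
    Or.inr (seven_of_four ((four_line hU hV hK R hv).mono (le_inf hS h1)) (seven_le_relIndex hsimple hnc hbig hsolv))
  have hS' := hS.trans R.Aut_le_SAut
  by_cases hnp : ∀ p : ℕ, p.Prime → (p : (unH 3 hF).EB) = 0 → NPar p R.S S
  swap
  · push Not at hnp
    obtain ⟨p, hp, h0, h1⟩ := hnp
    exact hline (line_of_par hV hS' hsolv hp h0 h1)
  have H : Ctx R S := ⟨hss, hspan, hsimple, hnc, hbig, hcent, hS, hsolv, hm, hnp⟩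
  by_cases hfr : ∃ D : Finset (unH 3 hF).EB, Fr D ∧ Inv S D
  · obtain ⟨D, hD, hI⟩ := hfr
    exact (line_of_fr hV hS' hD hI).elim hline (Tor.rowU3a' _ R S D hU hV hK H hD hI)
  rcases hN _ _ _ R S hU hV hK H (fun D hD hI => hfr ⟨D, hD, hI⟩) with ⟨Z, h1, h2, h4, h5⟩ | ⟨Y, h1, h2⟩
  · exact H.good_of_four (four_singer R hU hV hK h1 h4 h5 hS h2)
  · exact hE _ _ _ R S Y hU hV hK H h1 h2

/-- **The box of the groups of rank one**, modulo the two statements on `PSU₃(q)`. -/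
theorem box_one_of (hN : NoFr3) (hE : Ext3) : Box fun K _ => RankOne K := by
  rintro K _ _ _ hK (⟨F, _, _, h4, ⟨e⟩⟩ | ⟨F, _, _, q, hF, hq, ⟨e⟩⟩ | h | h)
  · exact Row.of_equiv e (row_psl2 F h4)
  · have := e.symm.isSimpleGroup
    exact Row.of_equiv e (row_psu3 hN hE F hF hq fun h => hK ⟨⟨fun a b => e.injective (by
      rw [map_mul, map_mul, h.1.1])⟩⟩)
  · exact box_sz K hK h
  · exact box_ree K hK h

end Cfsg.Agent.SB.R1
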