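import Cfsg.Agent.SB.R1.TI
import Cfsg.Agent.SB.Max

/-!
# S5765: tools for the rank one groups, the Zassenhaus case (helper61)

* `exists_minK` : the minimal normal subgroup of `S` inside `Inn K`, pulled back to `K`;
* `TI.fix_of_pgroup` : an `S`-invariant `p`-subgroup gives a fixed Sylow subgroup;
* `Fpf p K` : elements of prime order `≠ p` centralize no non-trivial `p`-element; `TI.fix_cases_fpf`,
  `TI.card_norm_le`.
-/

set_option autoImplicit false
set_option linter.unusedSectionVars false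

namespace Cfsg.Agent.SB.R1

open Subgroup MulAction Cfsg Cfsg.Agent.H786.FC
open scoped Pointwise

theorem ne_one_of_prime' {A : Type*} [Group A] {α : A} (h : (orderOf α).Prime) : α ≠ 1 := by
  rintro rfl
  rw [orderOf_one] at h
  exact Nat.not_prime_one h

theorem exists_prime_pow {A : Type*} [Group A] [Finite A] {t : A} (ht : t ≠ 1) :
    ∃ n : ℕ, (orderOf (t ^ n)).Prime := by
  have h1 : orderOf t ≠ 1 := fun h => ht (orderOf_eq_one_iff.1 h)
  obtain ⟨l, hl, hd⟩ := Nat.exists_prime_and_dvd h1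
  exact ⟨orderOf t / l, by rw [orderOf_pow_orderOf_div (orderOf_pos t).ne' hd]; exact hl⟩

/-- a subgroup moving `a` inside a set with two elements -/
theorem card_le_two_mul {G Ω : Type*} [Group G] [Finite G] [MulAction G Ω] (N : Subgroup G) {a b : Ω}
    (h : ∀ g ∈ N, g • a = a ∨ g • a = b) : Nat.card N ≤ 2 * Nat.card ↥(N ⊓ stabilizer G a) := by
  have h1 := (stabilizer N a).card_mul_index
  have h2 : Nat.card (stabilizer N a) = Nat.card ↥(N ⊓ stabilizer G a) :=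
    Nat.card_congr ⟨fun x => ⟨x.1.1, x.1.2, x.2⟩, fun x => ⟨⟨x.1, x.2.1⟩, x.2.2⟩, fun _ => rfl, fun _ => rfl⟩
  have h3 : (stabilizer N a).index ≤ 2 := by
    rw [index_stabilizer]
    refine (Set.ncard_le_ncard (t := {a, b}) ?_ (Set.toFinite _)).trans ?_
    · rintro _ ⟨g, rfl⟩
      exact h g g.2
    · exact (Set.ncard_insert_le _ _).trans (by simp)
  rw [← h1, h2, mul_comm]
  exact Nat.mul_le_mul_right _ h3

/-- a subgroup of exponent `r` of a group with cyclic Sylow `r`-subgroups -/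
theorem eq_zpowers_of_cyclic {K : Type*} [Group K] [Finite K] {r : ℕ} (hr : r.Prime)
    (hc : ∀ P : Sylow r K, IsCyclic P) {X : Subgroup K} (hX : ∀ x ∈ X, x ^ r = 1) {y : K} (hy : y ∈ X)
    (hy1 : y ≠ 1) : orderOf y = r ∧ X = zpowers y := by
  have _ : Fact r.Prime := ⟨hr⟩
  have ho : orderOf y = r := orderOf_eq_prime (hX y hy) hy1
  refine ⟨ho, ?_⟩
  have hp : IsPGroup r X := fun x => ⟨1, Subtype.ext (by rw [pow_one]; exact hX x x.2)⟩
  obtain ⟨P, hP⟩ := hp.exists_le_sylow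
  have := hc P
  have hcX : IsCyclic X := isCyclic_of_injective (inclusion hP) (inclusion_injective hP)
  obtain ⟨g, hg⟩ := hcX.exists_ofOrder_eq_natCard
  have h1 : orderOf g ∣ r := orderOf_dvd_of_pow_eq_one (Subtype.ext (hX g g.2))
  symm
  refine eq_of_le_of_card_ge (zpowers_le.2 hy) ?_
  rw [Nat.card_zpowers, ho, ← hg]
  exact Nat.le_of_dvd hr.pos h1

section minK

variable {K : Type*} [Group K] [Finite K] [IsSimpleGroup K]

/-- the minimal normal subgroup of `S` inside `Inn K` -/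
theorem exists_minK (hK : ¬ IsMulCommutative K) {S : Subgroup (MulAut K)} (hS : Group.IsSolvable S)
    (hm : MaxInv (InnG K) S) :
    ∃ Y : Subgroup K, Y ≠ ⊥ ∧ Y ≤ innS S ∧ (∀ s ∈ S, ∀ y ∈ Y, s y ∈ Y) ∧ (∀ x ∈ Y, ∀ y ∈ Y, x * y = y * x) ∧
      (∃ r : ℕ, r.Prime ∧ ∀ y ∈ Y, y ^ r = 1) ∧ (∀ v ∈ fit S, ∀ y ∈ Y, v y = y) := by
  obtain ⟨X, h1, h2, h3, -, h4, ⟨r, hr, h5⟩, -, h6⟩ := hm.exists_min (as_inn hK) hS
  refine ⟨X.comap MulAut.conj, fun h => h2 ?_, fun y hy => (h1 hy).1, fun s hs y hy => ?_, fun x hx y hy => ?_,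
    ⟨r, hr, fun y hy => ?_⟩, ?_⟩
  · rw [eq_bot_iff]
    intro x hx
    obtain ⟨y, rfl⟩ := (h1 hx).2
    have h7 : y ∈ X.comap MulAut.conj := hx
    rw [h, mem_bot] at h7
    rw [h7, map_one]
    exact one_mem _
  · rw [mem_comap, ← conj_conj]
    exact h3 s hs _ hy
  · apply conj_injective hK
    rw [map_mul, map_mul]
    exact h4 _ hx _ hy
  · apply conj_injective hK
    rw [map_pow, map_one]
    exact h5 _ hy
  · rintro _ ⟨v, hv, rfl⟩ y hy
    apply conj_injective hK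
    rw [← conj_conj, mul_inv_eq_iff_eq_mul]
    exact h6 v hv _ hy

/-- the normalizer in `K` of a non-trivial proper `S`-invariant subgroup lies in `S` -/
theorem norm_le_innS (hK : ¬ IsMulCommutative K) {S : Subgroup (MulAut K)} (hm : MaxInv (InnG K) S)
    {Y : Subgroup K} (h0 : Y ≠ ⊥) (h1 : Y ≠ ⊤) (hY : ∀ s ∈ S, ∀ y ∈ Y, s y ∈ Y) :
    normalizer (Y : Set K) ≤ innS S := by
  intro t ht
  refine hm.mem_of_normalizes (as_inn hK) (X := Y.map MulAut.conj) ?_ ?_ ?_ ⟨t, rfl⟩ ?_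
  · exact fun h => h0 ((map_eq_bot_iff_of_injective _ (conj_injective hK)).1 h)
  · intro h
    apply h1
    rw [eq_top_iff]
    intro x _
    exact (mem_map_iff_mem (conj_injective hK)).1 (h ⟨x, rfl⟩)
  · rintro s hs _ ⟨y, hy, rfl⟩
    exact ⟨s y, hY s hs y hy, (conj_conj s y).symm⟩
  · rintro _ ⟨y, hy, rfl⟩
    exact ⟨t * y * t⁻¹, (mem_normalizer_iff.1 ht y).1 hy, by simp⟩

end minK

theorem innS_le_norm {K : Type*} [Group K] [Finite K] {S : Subgroup (MulAut K)} {Y : Subgroup K}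
    (hY : ∀ s ∈ S, ∀ y ∈ Y, s y ∈ Y) : innS S ≤ normalizer (Y : Set K) :=
  le_normalizer_of_conj fun _ hs y hy => hY _ hs y hy

/-- elements of prime order `≠ p` centralize no non-trivial `p`-element -/
def Fpf (p : ℕ) (K : Type*) [Group K] : Prop :=
  ∀ t : K, (orderOf t).Prime → orderOf t ≠ p → ∀ P : Sylow p K, ∀ u ∈ P, t * u = u * t → u = 1

variable {p : ℕ} {K : Type*} [Group K] {Q h N : ℕ}

namespace TI

variable (H : TI p K Q h N)
include H

variable [Fact p.Prime] [Finite K]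

theorem fix_of_pgroup {S : Subgroup (MulAut K)} {Y : Subgroup K} (h0 : Y ≠ ⊥) (hp : IsPGroup p Y)
    (hY : ∀ s ∈ S, ∀ y ∈ Y, s y ∈ Y) : ∃ P₀ : Sylow p K, Y ≤ P₀ ∧ ∀ s ∈ S, s • P₀ = P₀ := by
  obtain ⟨P, hP⟩ := hp.exists_le_sylow
  obtain ⟨⟨y, hy⟩, hy1⟩ := ne_bot_iff_exists_ne_one.1 h0
  exact ⟨P, hP, fun s hs => H.smul_eq_of_fix (hP hy) (fun h => hy1 (Subtype.ext h)) (hP (hY s hs y hy))⟩

/-- an element fixing two Sylow subgroups has order prime to `p` -/
theorem order_ne_of_two {P₀ P₁ : Sylow p K} (hne : P₁ ≠ P₀) {t : K} (h0 : t • P₀ = P₀) (h1 : t • P₁ = P₁) :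
    orderOf t ≠ p := by
  intro ho
  have hp : p.Prime := Fact.out
  have hup : IsPGroup p (zpowers t) := IsPGroup.of_card (n := 1) (by rw [Nat.card_zpowers, ho, pow_one])
  obtain ⟨P, hP⟩ := hup.exists_le_sylow
  have ht : t ∈ P := hP (mem_zpowers t)
  have ht1 : t ≠ 1 := ne_one_of_prime' (ho ▸ hp)
  exact hne (H.eq_of_mem (mem_of_smul_eq ht h1) (mem_of_smul_eq ht h0) ht1)

/-- an automorphism of prime order `≠ p` fixing one Sylow subgroup fixes a second one -/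
theorem exists_second {α : MulAut K} (hα : (orderOf α).Prime) (hp : orderOf α ≠ p) {P₀ : Sylow p K}
    (h0 : α • P₀ = P₀) : ∃ P₁ : Sylow p K, P₁ ≠ P₀ ∧ α • P₁ = P₁ := by
  classical
  have := H.finite_sylow
  have _ : Fact (orderOf α).Prime := ⟨hα⟩
  have hpg : IsPGroup (orderOf α) (zpowers α) := IsPGroup.of_card (n := 1) (by rw [Nat.card_zpowers, pow_one])
  have h1 := hpg.card_modEq_card_fixedPoints (Sylow p K)
  by_contra hcon
  push Not at hcon
  have h2 : fixedPoints (zpowers α) (Sylow p K) = {P₀} := by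
    ext P
    constructor
    · intro hP
      by_contra hne
      exact hcon P hne (hP ⟨α, mem_zpowers α⟩)
    · rintro rfl ⟨_, n, rfl⟩
      exact (stabilizer (MulAut K) P).zpow_mem h0 n
  rw [h2, H.count, Nat.card_unique] at h1
  have h3 : orderOf α ∣ Q := by
    have := (Nat.modEq_iff_dvd' (by omega)).1 h1.symm
    simpa using this
  rw [H.pow] at h3
  exact hp ((Nat.prime_dvd_prime_iff_eq hα Fact.out).1 (hα.dvd_of_dvd_pow h3))

/-- an automorphism of prime order not dividing `Q + 1` fixes a Sylow subgroup -/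
theorem exists_first {α : MulAut K} (hα : (orderOf α).Prime) (hp : ¬ orderOf α ∣ Q + 1) :
    ∃ P₀ : Sylow p K, α • P₀ = P₀ := by
  have := H.finite_sylow
  have _ : Fact (orderOf α).Prime := ⟨hα⟩
  have hpg : IsPGroup (orderOf α) (zpowers α) := IsPGroup.of_card (n := 1) (by rw [Nat.card_zpowers, pow_one])
  obtain ⟨P, hP⟩ := hpg.nonempty_fixed_point_of_prime_not_dvd_card (Sylow p K) (by rwa [H.count, add_comm])
  exact ⟨P, hP ⟨α, mem_zpowers α⟩⟩

variable (hf : Fpf p K)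
include hf

theorem eq_one_of_two {P₀ P₁ : Sylow p K} (hne : P₁ ≠ P₀) {t : K} (h0 : t • P₀ = P₀) (h1 : t • P₁ = P₁)
    {P : Sylow p K} {u : K} (hu : u ∈ P) (hu1 : u ≠ 1) (h : t * u = u * t) : t = 1 := by
  by_contra ht
  obtain ⟨n, hn⟩ := exists_prime_pow ht
  exact hu1 (hf _ hn (H.order_ne_of_two hne ((stabilizer K P₀).pow_mem h0 n) ((stabilizer K P₁).pow_mem h1 n)) P u hu
    (Commute.pow_left h n))

/-- non-trivial elements of `K` fix at most two Sylow subgroups -/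
theorem fix_le_two {P₀ P₁ : Sylow p K} (hne : P₁ ≠ P₀) {t : K} (ht : t ≠ 1) (h0 : t • P₀ = P₀) (h1 : t • P₁ = P₁)
    {P : Sylow p K} (hP : t • P = P) : P = P₀ ∨ P = P₁ := by
  by_cases h2 : P = P₀
  · exact Or.inl h2
  right
  obtain ⟨u, hu, rfl⟩ := H.trans hne h2
  by_cases hu1 : u = 1
  · rw [hu1, one_smul]
  exfalso
  have h3 : t * u * t⁻¹ ∈ P₀ := (mem_normalizer_iff.1 (Sylow.smul_eq_iff_mem_normalizer.1 h0) u).1 hu
  have h4 : t * u * t⁻¹ = u := by
    refine H.smul_inj hne h3 hu ?_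
    rw [mul_smul, mul_smul, inv_smul_eq_iff.2 h1.symm, hP]
  exact ht (H.eq_one_of_two hf hne h0 h1 hu hu1 (mul_inv_eq_iff_eq_mul.1 h4))

/-- the normalizer of a cyclic group fixing two Sylow subgroups -/
theorem card_norm_le {P₀ P₁ : Sylow p K} (hne : P₁ ≠ P₀) {y : K} (hy : y ≠ 1) (h0 : y • P₀ = P₀) (h1 : y • P₁ = P₁) :
    Nat.card (normalizer ((zpowers y : Subgroup K) : Set K)) ≤ 2 * h := by
  have key : ∀ g ∈ normalizer ((zpowers y : Subgroup K) : Set K), ∀ P : Sylow p K, y • P = P →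
      g • P = P₀ ∨ g • P = P₁ := by
    intro g hg P hP
    refine H.fix_le_two hf hne hy h0 h1 ?_
    have h2 : g⁻¹ * y * g⁻¹⁻¹ ∈ zpowers y := (mem_normalizer_iff.1 (inv_mem hg) y).1 (mem_zpowers y)
    have h3 : (g⁻¹ * y * g⁻¹⁻¹) • P = P := (zpowers_le.2 (show y ∈ stabilizer K P from hP)) h2
    rwa [inv_inv, mul_smul, mul_smul, inv_smul_eq_iff] at h3
  refine (card_le_two_mul _ fun g hg => key g hg P₀ h0).trans (Nat.mul_le_mul_left _ ?_)
  rw [← H.card_two hne]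
  refine card_le_of_le fun g hg => ⟨hg.2, (key g hg.1 P₁ h1).resolve_left fun h2 => hne ?_⟩
  exact smul_left_cancel g (h2.trans (show g • P₀ = P₀ from hg.2).symm)

theorem card_norm_le' (hK : ¬ IsMulCommutative K) [IsSimpleGroup K] {y : K} (hy : (orderOf y).Prime)
    (hp : orderOf y ≠ p) (hQ : ¬ orderOf y ∣ Q + 1) :
    Nat.card (normalizer ((zpowers y : Subgroup K) : Set K)) ≤ 2 * h := by
  have ho : orderOf (MulAut.conj y) = orderOf y := orderOf_injective _ (conj_injective hK) y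
  obtain ⟨P₀, h0⟩ := H.exists_first (α := MulAut.conj y) (ho ▸ hy) (ho ▸ hQ)
  obtain ⟨P₁, hne, h1⟩ := H.exists_second (α := MulAut.conj y) (ho ▸ hy) (ho ▸ hp) h0
  exact H.card_norm_le hf hne (ne_one_of_prime' hy) h0 h1

/-- the centralizer of `α` in the two point stabilizer acts freely on the centralizer of `α` in `P₀` -/
theorem card_fix_two_lt {α : MulAut K} {P₀ P₁ : Sylow p K} (hne : P₁ ≠ P₀) (h1 : 1 < Nat.card ↥(fixS α ⊓ P₀)) :
    Nat.card ↥(fixS α ⊓ (stabilizer K P₀ ⊓ stabilizer K P₁)) + 1 ≤ Nat.card ↥(fixS α ⊓ P₀) := by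
  classical
  have := Finite.one_lt_card_iff_nontrivial.1 h1
  obtain ⟨u, hu⟩ := _root_.exists_ne (1 : ↥(fixS α ⊓ P₀))
  have hu1 : (u : K) ≠ 1 := fun h2 => hu (Subtype.ext h2)
  rw [← Finite.card_option]
  let f : Option ↥(fixS α ⊓ (stabilizer K P₀ ⊓ stabilizer K P₁)) → ↥(fixS α ⊓ P₀) := fun o =>
    match o with
    | none => 1
    | some t => ⟨(t : K) * u * (t : K)⁻¹, mem_inf.2 ⟨mul_mem (mul_mem t.2.1 u.2.1) (inv_mem t.2.1),
        (mem_normalizer_iff.1 (Sylow.smul_eq_iff_mem_normalizer.1 t.2.2.1) u).1 u.2.2⟩⟩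
  refine Nat.card_le_card_of_injective f ?_
  have hne1 : ∀ t, f (some t) ≠ 1 := fun t h2 => hu1 (conj_eq_one_iff.1 (congrArg Subtype.val h2))
  rintro (_ | t) (_ | s) hts
  · rfl
  · exact absurd hts.symm (hne1 s)
  · exact absurd hts (hne1 t)
  · have h2 : (t : K) * u * (t : K)⁻¹ = s * u * (s : K)⁻¹ := congrArg Subtype.val hts
    have h3 : ((s : K)⁻¹ * t) * u = u * ((s : K)⁻¹ * t) := by
      calc ((s : K)⁻¹ * t) * u = (s : K)⁻¹ * ((t : K) * u * (t : K)⁻¹) * t := by group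
        _ = _ := by rw [h2]; group
    have h5 : (s : K)⁻¹ * t ∈ stabilizer K P₀ ⊓ stabilizer K P₁ :=
      mul_mem (inv_mem (mem_inf.1 s.2).2) (mem_inf.1 t.2).2
    have h4 := H.eq_one_of_two hf hne h5.1 h5.2 u.2.2 hu1 h3
    rw [Subtype.ext (inv_mul_eq_one.1 h4)]

/-- **The centralizer of a non-trivial automorphism of a Zassenhaus group.** -/
theorem fix_cases_fpf [IsSimpleGroup K] (hK : ¬ IsMulCommutative K) {α : MulAut K} (hα : α ≠ 1) :
    ¬ p ∣ Nat.card (fixS α) ∨ Nat.card (fixS α) ≤ Q ∨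
    ∃ k : ℕ, 1 ≤ k ∧ k < N ∧ 1 + p ^ k ∣ (Q + 1) * h ∧ Nat.card (fixS α) ≤ (1 + p ^ k) * (p ^ k * (p ^ k - 1)) := by
  have hp : p.Prime := Fact.out
  rcases H.fix_cases hα with h1 | ⟨P₀, h1, h2⟩ | ⟨P₀, P₁, k, hne, -, -, h1, h2, h3, h4, h5⟩
  · exact Or.inl h1
  · right; left
    rw [← H.cardP P₀]
    refine card_le_of_le fun t ht => ?_
    have hpg : IsPGroup p (fixS α) := by
      rw [IsPGroup.iff_card]
      refine ⟨_, Nat.eq_prime_pow_of_unique_prime_dvd Nat.card_pos.ne' fun {l} hl hd => ?_⟩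
      by_contra hlp
      have _ : Fact l.Prime := ⟨hl⟩
      obtain ⟨s, hs⟩ := exists_prime_orderOf_dvd_card' l hd
      have hs' : orderOf (s : K) = l := by rw [orderOf_coe, hs]
      have ho : orderOf (MulAut.conj (s : K)) = l := (orderOf_injective _ (conj_injective hK) _).trans hs'
      have hs0 : (s : K) • P₀ = P₀ := h2 s.2
      obtain ⟨P₁, hne, hs1⟩ := H.exists_second (α := MulAut.conj (s : K)) (ho ▸ hl) (ho ▸ hlp) hs0
      have h3 : (s : K) • α • P₁ = α • P₁ := by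
        have h4 := smul_smul_sylow α s P₁
        rw [mem_fixS.1 s.2] at h4
        rw [← h4]
        exact congrArg (α • ·) hs1
      rcases H.fix_le_two hf hne (ne_one_of_prime' (hs' ▸ hl)) hs0 hs1 h3 with h4 | h4
      · exact hne (smul_left_cancel α (h4.trans ((h1 P₀).2 rfl).symm))
      · exact hne ((h1 P₁).1 h4)
    obtain ⟨P, hP⟩ := hpg.exists_le_sylow
    exact mem_of_smul_eq (hP ht) (h2 ht)
  · right; right
    refine ⟨k, h1, h2, h4, ?_⟩
    rw [h5]
    refine Nat.mul_le_mul_left _ (Nat.mul_le_mul_left _ ?_)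
    have h6 := H.card_fix_two_lt hf (α := α) hne (by rw [h3]; exact Nat.one_lt_pow (by omega) hp.one_lt)
    omega

end TI

end Cfsg.Agent.SB.R1
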